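/-
Interface between the parts of Peterfalvi sections 9-14: each cross-section result is a `def ... : Prop`
on the group, so that a consumer takes it as a hypothesis until its producer has landed.
Nothing is claimed here.
-/
import Cfsg.Prelude.Def_OddOrderLocal
import Cfsg.Prelude.Def_OddOrderChar
import Cfsg.Prelude.Def_ClassificationStages

set_option autoImplicit false

namespace Cfsg.Agent.OddChar

universe u

/-- The hypothesis for consumers of the odd order theorem. -/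
def OddSolvable : Prop :=
  ∀ (G : Type u) [Group G] [Finite G], Odd (Nat.card G) → Group.IsSolvable G

/-- No group in `Type u` is minimal simple of odd order. -/
def NoMinSimpleOdd : Prop :=
  ∀ (G : Type u) [Group G] [Finite G], ¬ Cfsg.IsMinSimpleOddOrder G

variable (G : Type u) [Group G]

/-- A pair of maximal subgroups of type P, as produced by the structure theorem (PF 13.1). -/
structure IsPairP (S T W₁ W₂ U V : Subgroup G) : Prop where
  coatom_left : IsCoatom S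
  coatom_right : IsCoatom T
  left : Cfsg.IsTypePWith S W₁ U W₂
  right : Cfsg.IsTypePWith T W₂ V W₁
  inf_eq : S ⊓ T = W₁ ⊔ W₂
  typeII : Cfsg.IsOfTypeII S ∨ Cfsg.IsOfTypeII T
  left_types : Cfsg.IsOfTypeII S ∨ Cfsg.IsOfTypeIII S ∨ Cfsg.IsOfTypeIV S ∨ Cfsg.IsOfTypeV S
  right_types : Cfsg.IsOfTypeII T ∨ Cfsg.IsOfTypeIII T ∨ Cfsg.IsOfTypeIV T ∨ Cfsg.IsOfTypeV T

/-- Existence of a pair. -/
def PairExists : Prop :=
  ∃ S T W₁ W₂ U V : Subgroup G, IsPairP G S T W₁ W₂ U V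

/-! ## Section 10 -/

/-- PF 10.10: there are no maximal subgroups of Type V. -/
def NoTypeV : Prop :=
  ∀ M : Subgroup G, IsCoatom M → ¬ Cfsg.IsOfTypeV M

/-- PF 10.11: in type P data both cyclic factors have prime order. -/
def PairPrimes : Prop :=
  ∀ M W₁ U W₂ : Subgroup G, IsCoatom M → Cfsg.IsTypePWith M W₁ U W₂ →
    (Nat.card W₁).Prime ∧ (Nat.card W₂).Prime

/-- PF 10.8: for Types III, IV, V the functions induced from `M'` are not coherent for the Dade map. -/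
def NotCoherent345 : Prop :=
  ∀ (M : Subgroup G) [Fintype M] [Fintype G], IsCoatom M →
    (Cfsg.IsOfTypeIII M ∨ Cfsg.IsOfTypeIV M ∨ Cfsg.IsOfTypeV M) →
    ¬ Cfsg.IsCoherent (Cfsg.inducedIrrAbove (commutator M) ⊥) {1}ᶜ
      (Cfsg.dadeIsometry (Cfsg.typeA0 M) M (Cfsg.supportR M))

/-! ## Section 11 -/

/-- PF 11: there are no maximal subgroups of Type IV. -/
def NoTypeIV : Prop :=
  ∀ M : Subgroup G, IsCoatom M → ¬ Cfsg.IsOfTypeIV M

/-- PF 11.9: the facts on Type III used in section 13. -/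
def TypeThreeFacts : Prop :=
  ∀ M W₁ U W₂ : Subgroup G, IsCoatom M → Cfsg.IsOfTypeIII M → Cfsg.IsTypePWith M W₁ U W₂ →
    Nat.card W₂ < Nat.card W₁ ∧ Cfsg.IsElementaryAbelian (Nat.card W₂) (Cfsg.fittingHallOf M) ∧
      Nat.card (Cfsg.fittingHallOf M) = Nat.card W₂ ^ Nat.card W₁ ∧
      U ⊓ Subgroup.centralizer ((Cfsg.fittingHallOf M : Subgroup G) : Set G) = ⊥

/-- PF 11.9, Galois case: in Type III the complement `U` is cyclic (used in PF 12.10). -/
def TypeThreeCyclic : Prop :=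
  ∀ M W₁ U W₂ : Subgroup G, IsCoatom M → Cfsg.IsOfTypeIII M → Cfsg.IsTypePWith M W₁ U W₂ → IsCyclic U

/-! ## Section 12 -/

/-- PF 12.7 (S1540): maximal subgroups of Type I are Frobenius groups. -/
def TypeOneFrobenius : Prop :=
  ∀ M : Subgroup G, IsCoatom M → Cfsg.IsOfTypeI M → ∀ x ∈ Cfsg.fittingHallOf M, x ≠ 1 →
    M ⊓ Subgroup.centralizer ({x} : Set G) ≤ Cfsg.fittingHallOf M

/-- PF 12.6 (S1542): coherence for maximal subgroups of Type I, given `TypeOneFrobenius`. -/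
def TypeOneCoherent : Prop :=
  ∀ (L : Subgroup G) [Fintype L] [Fintype G], IsCoatom L → Cfsg.IsOfTypeI L →
    (∀ χ ∈ Cfsg.inducedIrrAbove (Cfsg.fittingHall L) ⊥, Cfsg.IsIrrCharacter L χ) ∧
      Cfsg.IsCoherent (Cfsg.inducedIrrAbove (Cfsg.fittingHall L) ⊥) {1}ᶜ
        (Cfsg.dadeIsometry (Cfsg.typeA L) L (Cfsg.supportR L))

/-- PF 12.17 (S1541): some maximal subgroup is not of Type I. -/
def NotAllTypeOne : Prop :=
  ∃ M : Subgroup G, IsCoatom M ∧ ¬ Cfsg.IsOfTypeI M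

/-! ## Section 13 -/

/-- PF 13 (S1547). -/
def PairCentralizerTrivial : Prop :=
  ∀ S T W₁ W₂ U V : Subgroup G, IsPairP G S T W₁ W₂ U V →
    U ⊓ Subgroup.centralizer ((Cfsg.fittingHallOf S : Subgroup G) : Set G) = ⊥

/-- PF 13 (S1548). -/
def PairNormalizer : Prop :=
  ∀ S T W₁ W₂ U V : Subgroup G, IsPairP G S T W₁ W₂ U V →
    Subgroup.normalizer (W₁ : Set G) = Subgroup.centralizer (W₁ : Set G) ∧
      Subgroup.centralizer (W₁ : Set G) = Cfsg.fittingHallOf T ⊔ W₂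

/-- PF 13 (S1543). -/
def PairFacts : Prop :=
  ∀ S T W₁ W₂ U V : Subgroup G, IsPairP G S T W₁ W₂ U V →
    (Cfsg.IsOfTypeII S ∨ Cfsg.IsOfTypeIII S) ∧
      (Nat.card W₁ < Nat.card W₂ → Cfsg.IsOfTypeII S) ∧
      Cfsg.IsElementaryAbelian (Nat.card W₂) (Cfsg.fittingHallOf S) ∧
      Nat.card (Cfsg.fittingHallOf S) = Nat.card W₂ ^ Nat.card W₁ ∧
      Cfsg.IsTISubset (Cfsg.typeA0 S) ∧ Subgroup.normalizer (Cfsg.typeA0 S) = S

/-! ## Section 14 -/

/-- PF 14 (S1549). -/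
def NormalizerUMaximal : Prop :=
  ∀ S T W₁ W₂ U V : Subgroup G, IsPairP G S T W₁ W₂ U V → Cfsg.IsOfTypeII S →
    ∀ L : Subgroup G, IsCoatom L → Subgroup.normalizer (U : Set G) ≤ L →
      (∀ x ∈ Cfsg.fittingHallOf L, x ≠ 1 →
        L ⊓ Subgroup.centralizer ({x} : Set G) ≤ Cfsg.fittingHallOf L) ∧
      U ≤ Cfsg.fittingHallOf L ∧
      ((Cfsg.fittingHallOf L ⊓ W₁ = ⊥ ∧ Cfsg.fittingHallOf L ⊔ W₁ = L) ∨
        ∃ y ∈ Cfsg.fittingHallOf T,
          Cfsg.fittingHallOf L ⊓ (W₁ ⊔ W₂.map (MulAut.conj y).toMonoidHom) = ⊥ ∧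
            Cfsg.fittingHallOf L ⊔ (W₁ ⊔ W₂.map (MulAut.conj y).toMonoidHom) = L)

/-- The end of section 14: the configuration refuted by BG Appendix C. -/
def ParabolicTypeExists : Prop :=
  ∃ p q : ℕ, Cfsg.IsParabolicType p q G

end Cfsg.Agent.OddChar
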