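/-
Assembly of the odd order theorem from the results of sections 9-14.
-/
import Cfsg.Agent.Lib.OddChar.P13.OfPair
import Cfsg.Agent.Lib.FiniteGroup.FrobKernelQuat
import Cfsg.Agent.Lib.OddOrder.PartnerPair
import Cfsg.Agent.S0039
import Cfsg.Agent.S1385
import Cfsg.Agent.S2016

set_option autoImplicit false
set_option linter.style.haveILetI false
set_option linter.unusedSectionVars false

namespace Cfsg.Agent.OddChar.Assembly

open scoped commutatorElement Pointwise
open OddOrder

universe u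

/-- A minimal counterexample to the odd order theorem is a minimal simple group. -/
theorem oddSolvable_of_noMinSimpleOdd (h : NoMinSimpleOdd.{u}) : OddSolvable.{u} := by
  intro G _ _ hodd
  induction hn : Nat.card G using Nat.strong_induction_on generalizing G with
  | _ n ih =>
    subst hn
    by_contra hns
    have hsub : ∀ H : Subgroup G, H ≠ ⊤ → Group.IsSolvable H := fun H hH => by
      have hle : Nat.card H < Nat.card G := lt_of_le_of_ne (Subgroup.card_le_card_group H)
        fun e => hH (Subgroup.eq_top_of_card_eq H e)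
      exact ih _ hle H (hodd.of_dvd_nat H.card_subgroup_dvd_card) rfl
    have hnab : ¬ IsMulCommutative G := fun hc => hns (Group.isSolvable_of_comm fun a b => hc.is_comm.comm a b)
    have hnt : Nontrivial G := by
      by_contra hnt
      haveI := not_nontrivial_iff_subsingleton.1 hnt
      exact hns inferInstance
    have hsimple : IsSimpleGroup G :=
      { toNontrivial := hnt
        eq_bot_or_eq_top_of_normal := fun N hN => by
          by_contra! hcon
          haveI := hN
          haveI := hsub N hcon.2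
          have hq : Group.IsSolvable (G ⧸ N) := by
            have h1 : Nat.card (G ⧸ N) * Nat.card N = Nat.card G := (Subgroup.card_eq_card_quotient_mul_card_subgroup N).symm
            have h2 : 1 < Nat.card N := Subgroup.one_lt_card_iff_ne_bot N |>.2 hcon.1
            refine ih _ ?_ (G ⧸ N) (hodd.of_dvd_nat ⟨_, h1.symm⟩) rfl
            calc Nat.card (G ⧸ N) = Nat.card (G ⧸ N) * 1 := (mul_one _).symm
              _ < Nat.card (G ⧸ N) * Nat.card N := Nat.mul_lt_mul_of_pos_left h2 Nat.card_pos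
              _ = Nat.card G := h1
          exact hns (Group.isSolvable_of_ker_le_range N.subtype (QuotientGroup.mk' N)
            (by rw [QuotientGroup.ker_mk', Subgroup.range_subtype])) }
    exact h G ⟨hodd, hsimple, hnab, hsub⟩

variable {G : Type u} [Group G] [Finite G] (hG : Cfsg.IsMinSimpleOddOrder G)
include hG

/-- A pair exists when some maximal subgroup is not of Type I. -/
theorem pairExists (h : NotAllTypeOne G) : PairExists G := by
  obtain ⟨M, hM, hI⟩ := h
  obtain ⟨K, U, hKU⟩ := FStruct.exists_decomp hG hM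
  have hne : (Cfsg.kappa M).Nonempty :=
    Set.nonempty_iff_ne_empty.2 fun e => hI ((TypeA.typeI_iff hG hM).2 e)
  have hK1 := Types.K_ne hKU hne
  obtain ⟨N, D, P⟩ := (Pairing.Member.of_hall hM hKU.hall hK1).exists_pair hG
  have hN := P.right.coatom
  obtain ⟨⟨V, hV⟩, -⟩ := S1352.result hG N hN D (P.right.cyclic hG) P.right.hall
  obtain ⟨X, hX, -⟩ := Types.exists_data hG hM hKU hK1
  obtain ⟨Y, hY, -⟩ := Types.exists_data hG hN hV P.right.ne
  rw [P.D_eq] at hX
  rw [P.symm.D_eq] at hY
  have types : ∀ (L A B : Subgroup G), IsCoatom L → Cfsg.IsSigmaDecomposition L A B → A ≠ ⊥ →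
      Cfsg.IsOfTypeII L ∨ Cfsg.IsOfTypeIII L ∨ Cfsg.IsOfTypeIV L ∨ Cfsg.IsOfTypeV L := by
    intro L A B hL hAB hA
    by_cases hB : B = ⊥
    · by_cases he : Cfsg.fittingHallOf L = Cfsg.sigmaCore L
      · exact Or.inr (Or.inr (Or.inr ((Types.typeV_iff hG hL hAB).2 ⟨hA, hB, he⟩)))
      · rcases (Types.typeIII_IV_iff hG hL hAB).2 ⟨hA, hB, he⟩ with h | h
        exacts [Or.inr (Or.inl h), Or.inr (Or.inr (Or.inl h))]
    · exact Or.inl ((Types.typeII_iff hG hL hAB).2 ⟨hA, hB⟩)
  refine ⟨M, N, K, D, X, Y, hM, hN, hX, hY, by rw [P.inter hG, P.sup_eq], ?_, types M K U hM hKU hK1,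
    types N D V hN hV P.right.ne⟩
  rcases P.large with h | h
  · exact Or.inl ((Types.typeII_iff hG hM hKU).2 ⟨hK1, (Pairing.large_iff hKU).1 h⟩)
  · exact Or.inr ((Types.typeII_iff hG hN hV).2 ⟨P.right.ne, (Pairing.large_iff hV).1 h⟩)

omit hG in
/-- The part of S1544 used for the parabolic configuration. -/
def PairStructure (G : Type u) [Group G] : Prop :=
  ∀ S T W₁ W₂ U V : Subgroup G, IsPairP G S T W₁ W₂ U V → Nat.card W₁ < Nat.card W₂ →
    (Nat.card W₁).Prime ∧ (Nat.card W₂).Prime ∧
      Cfsg.IsElementaryAbelian (Nat.card W₂) (Cfsg.fittingHallOf S) ∧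
      Nat.card (Cfsg.fittingHallOf S) = Nat.card W₂ ^ Nat.card W₁ ∧ IsCyclic U ∧
      Nat.card U * (Nat.card W₂ - 1) = Nat.card W₂ ^ Nat.card W₁ - 1 ∧
      (∀ u ∈ U, u ≠ 1 → ∀ x ∈ Cfsg.fittingHallOf S, u * x = x * u → x = 1) ∧
      Nat.Coprime ((Nat.card W₂ ^ Nat.card W₁ - 1) / (Nat.card W₂ - 1)) (Nat.card W₂ - 1) ∧
      U ≤ Subgroup.normalizer (Cfsg.fittingHallOf S : Set G) ∧
      Cfsg.IsElementaryAbelian (Nat.card W₁) (Cfsg.fittingHallOf T) ∧
      W₂ ≤ Subgroup.normalizer (Cfsg.fittingHallOf T : Set G) ∧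
      ∃ y ∈ Cfsg.fittingHallOf T, W₂.map (MulAut.conj y).toMonoidHom ≤ Subgroup.normalizer (U : Set G)

omit hG in
/-- The configuration of a pair with `q < p`. -/
theorem parabolic_of_lt {S T W₁ W₂ U V : Subgroup G} (hG : Cfsg.IsMinSimpleOddOrder G)
    (h : IsPairP G S T W₁ W₂ U V) (hst : PairStructure G) (hlt : Nat.card W₁ < Nat.card W₂) :
    ParabolicTypeExists G := by
  obtain ⟨hq, hp, hel, hcard, hcyc, hUc, hfree, hcop, hUn, helT, hW2T, y, hy, hyU⟩ := hst S T W₁ W₂ U V h hlt
  set P := Cfsg.fittingHallOf S with hPdef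
  set p := Nat.card W₂ with hpdef
  set q := Nat.card W₁ with hqdef
  haveI := helT.1
  have hodd : ∀ X : Subgroup G, Nat.card X ≠ 2 := fun X e => by
    have := hG.1.of_dvd_nat X.card_subgroup_dvd_card
    rw [e] at this
    exact Nat.not_even_iff_odd.2 this even_two
  have hU1 : U ≠ ⊥ := by
    intro e
    rw [e, Subgroup.card_bot, one_mul] at hUc
    have h2 : p < p ^ q := lt_self_pow₀ hp.one_lt hq.one_lt
    omega
  have hP1 : P ≠ ⊥ := fun e => h.left.selfNormalizing.2.1 (le_bot_iff.1 ((P13.W₂_le_H h.left).trans e.le))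
  set H := P ⊔ U with hH
  haveI : (P.subgroupOf H).Normal :=
    Subgroup.normal_subgroupOf_of_le_normalizer (sup_le Subgroup.le_normalizer hUn)
  have hdisj : P ⊓ U = ⊥ := h.left.U_compl.2.2.1
  have hcompl : Subgroup.IsComplement' (P.subgroupOf H) (U.subgroupOf H) := by
    refine Subgroup.isComplement'_of_disjoint_and_mul_eq_univ ?_ ?_
    · rw [disjoint_iff, Subgroup.subgroupOf, Subgroup.subgroupOf, ← Subgroup.comap_inf, hdisj,
        MonoidHom.comap_bot, Subgroup.ker_subtype]
    · refine Set.eq_univ_of_forall fun x => ?_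
      obtain ⟨a, ha, b, hb, e⟩ := (SolvBasic.mem_sup_iff_of_le_normalizer hUn).1 x.2
      exact ⟨⟨a, Subgroup.mem_sup_left ha⟩, ha, ⟨b, Subgroup.mem_sup_right hb⟩, hb, Subtype.ext e.symm⟩
  have hPne : P.subgroupOf H ≠ ⊥ := fun e => hP1 (by
    rw [← Subgroup.map_subgroupOf_eq_of_le (le_sup_left : P ≤ H), e, Subgroup.map_bot])
  have hUne : U.subgroupOf H ≠ ⊥ := fun e => hU1 (by
    rw [← Subgroup.map_subgroupOf_eq_of_le (le_sup_right : U ≤ H), e, Subgroup.map_bot])
  have hF : Cfsg.IsFrobeniusComplement (U.subgroupOf H) := by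
    refine (S0039.result (P.subgroupOf H) (U.subgroupOf H) hcompl hPne hUne).2 fun u hu hu1 => ?_
    refine (Subgroup.eq_bot_iff_forall _).2 fun x hx => Subtype.ext ?_
    refine hfree u hu (fun e => hu1 (Subtype.ext e)) x hx.1 ?_
    exact congrArg Subtype.val (Subgroup.mem_centralizer_singleton_iff.1 hx.2).symm
  refine ⟨p, q, hp, hq, hodd W₂, hodd W₁, hlt, hcop, H, U, P, le_sup_right, le_sup_left, sup_comm U P, hF, ?_,
    hel, hcard, hcyc, ?_, W₂, P13.W₂_le_H h.left, rfl, Cfsg.fittingHallOf T, helT.1, fun z => ⟨1, ?_⟩,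
    fun a ha z hz => (Subgroup.mem_normalizer_iff.1 (hW2T ha) z).1 hz, y, hy, hyU⟩
  · exact FrobKernelQuat.kernel_eq ⟨inferInstance, hcompl, Char.malnormal_of_isFrobeniusComplement hF, hPne, hUne⟩
  · rw [← hUc, Nat.mul_div_cancel _ (by have := hp.two_le; omega)]
  · rw [pow_one]
    exact Subtype.ext (by rw [Subgroup.coe_pow]; exact helT.2 z z.2)

/-- The parabolic configuration exists. -/
theorem parabolicTypeExists (hex : PairExists G) (hst : PairStructure G) : ParabolicTypeExists G := by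
  obtain ⟨S, T, W₁, W₂, U, V, h⟩ := hex
  rcases lt_trichotomy (Nat.card W₁) (Nat.card W₂) with hlt | heq | hgt
  · exact parabolic_of_lt hG h hst hlt
  · exfalso
    have hcop := (P13.coprime_W₁_H h.left).coprime_dvd_right (Subgroup.card_dvd_of_le (P13.W₂_le_H h.left))
    rw [heq, Nat.coprime_self] at hcop
    exact h.left.selfNormalizing.2.1 (Subgroup.card_eq_one.1 hcop)
  · exact parabolic_of_lt hG h.symm hst hgt

omit hG in
/-- No minimal simple group of odd order, from the structure of pairs and PF 12.17. -/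
theorem noMinSimpleOdd (hall : ∀ (G : Type u) [Group G] [Finite G], Cfsg.IsMinSimpleOddOrder G →
    NotAllTypeOne G ∧ PairStructure G) : NoMinSimpleOdd.{u} := by
  intro G _ _ hG
  obtain ⟨h1, h2⟩ := hall G hG
  obtain ⟨p, q, h⟩ := parabolicTypeExists hG (pairExists hG h1) h2
  exact S2016.result hG p q h

end Cfsg.Agent.OddChar.Assembly
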