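/-
PF 12.1 and 12.6: the Dade map and coherence for maximal subgroups of Type I that are Frobenius groups.
-/
import Cfsg.Agent.Lib.OddOrder.TypeA
import Cfsg.Agent.Lib.Char.DadeVirtual
import Cfsg.Agent.Lib.Char.CoherenceTI
import Cfsg.Agent.S1500
import Cfsg.Agent.Lib.CN.FpfAut
import Cfsg.Agent.Lib.PLocal.MaxClass

set_option autoImplicit false
set_option linter.style.haveILetI false
set_option linter.unusedSectionVars false

namespace Cfsg.Agent.OddChar.P12

open scoped ComplexConjugate Classical commutatorElement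
open Cfsg.Agent.Char

universe u v

section General

variable {G : Type u} [Group G] [Fintype G] {A : Set G} {L : Subgroup G} [Fintype L] {R : G → Subgroup G}

theorem dade_add (α β : L → ℂ) :
    Cfsg.dadeIsometry A L R (α + β) = Cfsg.dadeIsometry A L R α + Cfsg.dadeIsometry A L R β := by
  funext g
  simp only [Pi.add_apply, Cfsg.dadeIsometry]
  split <;> simp

theorem dade_zsmul (n : ℤ) (α : L → ℂ) :
    Cfsg.dadeIsometry A L R (n • α) = n • Cfsg.dadeIsometry A L R α := by
  funext g
  simp only [Pi.smul_apply, Cfsg.dadeIsometry]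
  split <;> simp

theorem dade_sub (α β : L → ℂ) :
    Cfsg.dadeIsometry A L R (α - β) = Cfsg.dadeIsometry A L R α - Cfsg.dadeIsometry A L R β := by
  funext g
  simp only [Pi.sub_apply, Cfsg.dadeIsometry]
  split <;> simp

variable (hD : Cfsg.DadeHypothesis A L R)
include hD

theorem dade_one (α : L → ℂ) : Cfsg.dadeIsometry A L R α 1 = 0 := by
  refine Dade.dadeIsometry_zero hD fun a ha hg => ?_
  obtain ⟨u, hu, x, hx⟩ := Dade.mem_coset.1 hg
  have h1 : a * u = 1 := by rw [← hx]; group
  have ha' : a ∈ R a := by simpa [eq_inv_of_mul_eq_one_left h1] using inv_mem hu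
  have : a ∈ R a ⊓ (L ⊓ Subgroup.centralizer ({a} : Set G)) := ⟨ha', Dade.mem_CL hD ha⟩
  rw [hD.inf_eq_bot a ha, Subgroup.mem_bot] at this
  exact hD.one_not_mem (this ▸ ha)

/-- The Dade map is an isometry on a lattice of virtual characters supported in `A`. -/
theorem dade_isometry_on {E : Set (L → ℂ)} (hgen : ∀ α ∈ E, Cfsg.IsGeneralizedCharacter L α)
    (hsupp : ∀ α ∈ E, ∀ x : L, (x : G) ∉ A → α x = 0) :
    Cfsg.IsLinearIsometryOn E (Cfsg.dadeIsometry A L R) := by
  refine ⟨fun α _ β _ => dade_add α β, fun α _ n => dade_zsmul n α, fun α hα β hβ => ?_,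
    fun α hα => Dade.isGeneralizedCharacter_dade hD (hgen α hα) (hsupp α hα)⟩
  exact (S1500.result A L R hD α (IsGeneralizedCharacter.isClassFunction (hgen α hα)) (hsupp α hα)).1 β
    (IsGeneralizedCharacter.isClassFunction (hgen β hβ)) (hsupp β hβ)

end General

variable {L : Type u} [Group L] [Fintype L] (K : Subgroup L) [K.Normal]

theorem above_gen {φ : L → ℂ} (h : φ ∈ Cfsg.inducedIrrAbove K ⊥) : Cfsg.IsGeneralizedCharacter L φ := by
  obtain ⟨θ, hθ, -, -, rfl⟩ := h
  exact IsGeneralizedCharacter.of_isCharacter (isCharacter_indFun _ (IsIrrCharacter.isCharacter hθ))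

theorem supp_zspanOn {α : L → ℂ} (h : α ∈ Cfsg.zspanOn (Cfsg.inducedIrrAbove K ⊥) ({1}ᶜ : Set L)) {x : L}
    (hx : x ∉ K ∨ x = 1) : α x = 0 := by
  obtain ⟨h1, h2⟩ := Coherence.mem_zspanOn_one.1 h
  rcases hx with hx | rfl
  exacts [(CohTI.zspan_vanish K h1).1 x hx, h2]

/-- In a Frobenius group of odd order the quotient by the kernel has exponent equal to its order. -/
theorem exponent_quotient (hodd : Odd (Nat.card L)) (hK1 : K ≠ ⊥)
    (hF : ∀ k ∈ K, k ≠ 1 → Subgroup.centralizer ({k} : Set L) ≤ K) :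
    Monoid.exponent (L ⧸ K) = K.index := by
  obtain ⟨E, hE⟩ := Subgroup.exists_right_complement'_of_coprime (Frob.coprime hF)
  haveI : Nontrivial K := (Subgroup.nontrivial_iff_ne_bot K).2 hK1
  haveI : IsZGroup E := CN.isZGroup_of_fpf (hodd.of_dvd_nat (Subgroup.card_subgroup_dvd_card E))
    ((MulAut.conjNormal (H := K)).comp E.subtype) fun e he k hk => by
      by_contra hk1
      have hk' : (e : L) * k * (e : L)⁻¹ = k := congrArg Subtype.val hk
      have hmem : (e : L) ∈ K ⊓ E := ⟨hF k k.2 (fun h => hk1 (Subtype.ext h))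
        (Subgroup.mem_centralizer_singleton_iff.2 (mul_inv_eq_iff_eq_mul.1 hk')), e.2⟩
      rw [hE.disjoint.eq_bot, Subgroup.mem_bot] at hmem
      exact he (Subtype.ext hmem)
  rw [Monoid.exponent_eq_of_mulEquiv (hE.symm.QuotientMulEquiv), IsZGroup.exponent_eq_card,
    Subgroup.IsComplement'.index_eq_card hE.symm]

/-- A non-abelian `p`-group has abelianisation of order at least `p ^ 2`. -/
theorem sq_le_abelianisation {X : Type v} [Group X] [Finite X] {p : ℕ} [Fact p.Prime] {H : Subgroup X} {m : ℕ}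
    (hm : Nat.card H = p ^ m) (hab : ¬ IsMulCommutative H) :
    p ^ 2 ≤ (⁅H, H⁆.subgroupOf H).index := by
  have h1 : (⁅H, H⁆).subgroupOf H = commutator H := by
    refine Subgroup.map_injective H.subtype_injective ?_
    rw [Subgroup.map_subgroupOf_eq_of_le (Subgroup.commutator_le_self H), Subgroup.map_subtype_commutator]
  rw [h1]
  exact MaxClass.sq_le_index_commutator (IsPGroup.of_card hm) fun h => hab
    ⟨⟨fun a b => by
      have h2 : ⁅a, b⁆ ∈ commutator H :=
        (commutator_def H).ge (Subgroup.commutator_mem_commutator (Subgroup.mem_top a) (Subgroup.mem_top b))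
      rw [h, Subgroup.mem_bot] at h2
      exact commutatorElement_eq_one_iff_mul_comm.1 h2⟩⟩

end Cfsg.Agent.OddChar.P12
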