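/-
PF 12.6: coherence for maximal subgroups of Type I that are Frobenius groups.
-/
import Cfsg.Agent.Lib.OddChar.P12Coh
import Cfsg.Agent.Lib.Char.FeitCoherence
import Cfsg.Agent.S1535

set_option autoImplicit false
set_option linter.style.haveILetI false
set_option linter.unusedSectionVars false

namespace Cfsg.Agent.OddChar.P12

open scoped ComplexConjugate Classical
open Cfsg.Agent.Char Cfsg.Agent.OddOrder

universe u

variable {G : Type u} [Group G] [Fintype G]

theorem fitting_eq_subgroupOf (L : Subgroup G) :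
    Cfsg.fittingHall L = (Cfsg.fittingHallOf L).subgroupOf L := by
  rw [Cfsg.fittingHallOf, Subgroup.subgroupOf, Subgroup.comap_map_eq_self_of_injective L.subtype_injective]

/-- The kernel of a Frobenius maximal subgroup of Type I. -/
structure FrobOne (L : Subgroup G) : Prop where
  coatom : IsCoatom L
  typeI : Cfsg.IsOfTypeI L
  frob : ∀ x ∈ Cfsg.fittingHallOf L, x ≠ 1 →
    L ⊓ Subgroup.centralizer ({x} : Set G) ≤ Cfsg.fittingHallOf L

variable (hG : Cfsg.IsMinSimpleOddOrder G) {L : Subgroup G} [Fintype L] (h : FrobOne L)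
include hG h

theorem fitting_eq_sigma : Cfsg.fittingHallOf L = Cfsg.sigmaCore L :=
  (Types.decomp_of_kappa_empty hG h.coatom ((TypeA.typeI_iff hG h.coatom).1 h.typeI)).1

theorem kernel_frob : ∀ k ∈ Cfsg.fittingHall L, k ≠ 1 →
    Subgroup.centralizer ({k} : Set L) ≤ Cfsg.fittingHall L := by
  intro k hk hk1 c hc
  rw [fitting_eq_subgroupOf, Subgroup.mem_subgroupOf] at hk ⊢
  exact h.frob k hk (fun e => hk1 (Subtype.ext e)) ⟨c.2, Subgroup.mem_centralizer_singleton_iff.2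
    (congrArg Subtype.val (Subgroup.mem_centralizer_singleton_iff.1 hc))⟩

theorem kernel_ne_bot : Cfsg.fittingHall L ≠ ⊥ := h.typeI.1.2.2.1

theorem kernel_ne_top : Cfsg.fittingHall L ≠ ⊤ := h.typeI.1.2.2.2.1

theorem fittingHallOf_ne_bot : Cfsg.fittingHallOf L ≠ ⊥ := fun e => kernel_ne_bot hG h (by
  rw [fitting_eq_subgroupOf, e, Subgroup.bot_subgroupOf])

/-- `A(L) = L_F^#`. -/
theorem mem_typeA_iff {a : G} : a ∈ Cfsg.typeA L ↔ a ∈ Cfsg.fittingHallOf L ∧ a ≠ 1 := by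
  rw [Cfsg.typeA, if_pos h.typeI]
  constructor
  · rintro ⟨haL, ha1, x, hx, hx1, hax⟩
    exact ⟨h.frob x hx hx1 ⟨haL, Subgroup.mem_centralizer_singleton_iff.2 hax⟩, ha1⟩
  · rintro ⟨ha, ha1⟩
    exact ⟨FHall.fittingHallOf_le L ha, ha1, a, ha, ha1, rfl⟩

theorem dade_hyp : Cfsg.DadeHypothesis (Cfsg.typeA L) L (Cfsg.supportR L) :=
  TypeA.hypothesis hG h.coatom _ (fun _ ha => Or.inl ha) fun _ hy _ ha => TypeA.typeA_conj hG h.coatom hy ha

theorem supp_of_span {α : L → ℂ}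
    (hα : α ∈ Cfsg.zspanOn (Cfsg.inducedIrrAbove (Cfsg.fittingHall L) ⊥) ({1}ᶜ : Set L)) (x : L)
    (hx : (x : G) ∉ Cfsg.typeA L) : α x = 0 := by
  refine supp_zspanOn _ hα ?_
  by_cases hx1 : x = 1
  · exact Or.inr hx1
  · refine Or.inl fun hmem => hx ((mem_typeA_iff hG h).2 ⟨?_, fun e => hx1 (Subtype.ext e)⟩)
    rwa [fitting_eq_subgroupOf, Subgroup.mem_subgroupOf] at hmem

theorem isometry : Cfsg.IsLinearIsometryOn
      (Cfsg.zspanOn (Cfsg.inducedIrrAbove (Cfsg.fittingHall L) ⊥) ({1}ᶜ : Set L))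
      (Cfsg.dadeIsometry (Cfsg.typeA L) L (Cfsg.supportR L)) :=
  dade_isometry_on (dade_hyp hG h)
    (fun _ hα => Coherence.zspan_gen (fun _ hφ => above_gen _ hφ) hα.1)
    fun α hα x hx => supp_of_span hG h hα x hx

theorem above_irreducible : ∀ χ ∈ Cfsg.inducedIrrAbove (Cfsg.fittingHall L) ⊥, Cfsg.IsIrrCharacter L χ :=
  fun _ hχ => Feit.above_irr _ (kernel_frob hG h) hχ

omit h in
/-- For a TI kernel the Dade map is induction. -/
theorem dade_eq_indFun {A : Set G} {R : G → Subgroup G} (hD : Cfsg.DadeHypothesis A L R)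
    (hR : ∀ a ∈ A, R a = ⊥) (hTI : ∀ a ∈ A, ∀ g : G, g * a * g⁻¹ ∈ A → g ∈ L)
    {α : L → ℂ} (hα : Cfsg.IsClassFunction L α) (hsupp : ∀ x : L, (x : G) ∉ A → α x = 0) :
    Cfsg.dadeIsometry A L R α = Cfsg.indFun L α := by
  funext g
  have hext : ∀ z : G, z ∉ A → Cfsg.extendByZero L α z = 0 := fun z hz => by
    by_cases hzL : z ∈ L
    · rw [Dade.ext_apply α hzL]; exact hsupp _ hz
    · exact Function.extend_apply' _ _ _ (by rintro ⟨⟨y, hy⟩, rfl⟩; exact hzL hy)
  by_cases hg : ∃ a ∈ A, ∃ y : G, y * g * y⁻¹ = a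
  · obtain ⟨a, ha, y, hy⟩ := hg
    rw [Dade.dadeIsometry_eq hD hα ha (Dade.mem_coset.2 ⟨1, one_mem _, y, by rw [mul_one, hy]⟩)]
    rw [← isClassFunction_indFun L α g y, hy]
    show α ⟨a, _⟩ = (Nat.card L : ℂ)⁻¹ * ∑ x : G, Cfsg.extendByZero L α (x⁻¹ * a * x)
    have hsum : ∀ x : G, Cfsg.extendByZero L α (x⁻¹ * a * x) =
        if x ∈ L then α ⟨a, hD.subset ha⟩ else 0 := fun x => by
      by_cases hx : x ∈ L
      · have hm : x⁻¹ * a * x ∈ L := L.mul_mem (L.mul_mem (L.inv_mem hx) (hD.subset ha)) hx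
        rw [if_pos hx, Dade.ext_apply α hm, ← hα ⟨a, hD.subset ha⟩ ⟨x⁻¹, L.inv_mem hx⟩]
        congr 1
        exact Subtype.ext (by simp)
      · rw [if_neg hx]
        refine hext _ fun hm => hx ?_
        simpa using L.inv_mem (hTI a ha x⁻¹ (by simpa using hm))
    rw [Finset.sum_congr rfl fun x _ => hsum x, ← Finset.sum_filter, Finset.sum_const, ← Fintype.card_subtype,
      ← Nat.card_eq_fintype_card, nsmul_eq_mul, inv_mul_cancel_left₀ (Nat.cast_ne_zero.2 Nat.card_pos.ne')]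
  · push Not at hg
    rw [Dade.dadeIsometry_zero hD fun a ha hga => ?_]
    · show 0 = (Nat.card L : ℂ)⁻¹ * ∑ x : G, Cfsg.extendByZero L α (x⁻¹ * g * x)
      rw [Finset.sum_eq_zero fun x _ => hext _ fun hm => hg _ hm x⁻¹ (by group), mul_zero]
    · obtain ⟨u, hu, x, hx⟩ := Dade.mem_coset.1 hga
      rw [hR a ha, Subgroup.mem_bot] at hu
      exact hg a ha x (by rw [hx, hu, mul_one])

omit h hG in
theorem coherent_TI_transport (L H : Subgroup G) [Fintype L] (hN : Subgroup.normalizer (H : Set G) = L)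
    (hTI : Cfsg.IsTISubset (H : Set G)) (hodd : Odd (Nat.card L)) (hH : H ≠ ⊥) (hne : ¬ L ≤ H)
    (hF : ∀ k ∈ H.subgroupOf L, k ≠ 1 → Subgroup.centralizer ({k} : Set L) ≤ H.subgroupOf L) :
    Cfsg.IsCoherent (Cfsg.inducedIrrAbove (H.subgroupOf L) ⊥) ({1}ᶜ : Set L)
      (fun α => Cfsg.indFun L α) := by
  subst hN
  exact CohTI.coherent_TI H hTI hodd hH hne hF

/-- PF 12.6. -/
theorem coherent : Cfsg.IsCoherent (Cfsg.inducedIrrAbove (Cfsg.fittingHall L) ⊥) ({1}ᶜ : Set L)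
    (Cfsg.dadeIsometry (Cfsg.typeA L) L (Cfsg.supportR L)) := by
  have hodd : Odd (Nat.card L) := h.typeI.1.2.1
  have hD := dade_hyp hG h
  set K := Cfsg.fittingHall L with hK
  have hcard : Nat.card K ≠ K.index + 1 := fun e => by
    have h1 : Odd (Nat.card K) := hodd.of_dvd_nat (Subgroup.card_subgroup_dvd_card K)
    have h2 : Odd K.index := hodd.of_dvd_nat K.index_dvd_card
    rw [Nat.odd_iff] at h1 h2
    omega
  have hbot := Feit.above_bot_eq K (kernel_frob hG h)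
  have hiso := isometry hG h
  rw [hbot] at hiso ⊢
  rcases S1535.result K (kernel_ne_bot hG h) (kernel_ne_top hG h) (kernel_frob hG h) hcard _ hiso
    (fun α _ => dade_one hD α) with hc | ⟨p, hp, ⟨m, hm⟩, hnab, hbound⟩
  · exact hc
  rw [← hbot]
  have hnab' : ¬ IsMulCommutative (Cfsg.fittingHallOf L) := fun hc => hnab ⟨⟨fun a b => by
    have ha : ((a : L) : G) ∈ Cfsg.fittingHallOf L := ⟨a, a.2, rfl⟩
    have hb : ((b : L) : G) ∈ Cfsg.fittingHallOf L := ⟨b, b.2, rfl⟩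
    exact Subtype.ext (Subtype.ext (congrArg Subtype.val (hc.is_comm.comm ⟨_, ha⟩ ⟨_, hb⟩) :))⟩⟩
  rcases h.typeI.2 with hTI | ⟨hab, -, -⟩ | ⟨hexp, -⟩
  · have hN : Subgroup.normalizer (Cfsg.fittingHallOf L : Set G) = L :=
      FTI.normalizer_of_normal hG h.coatom (FHall.fittingHallOf_le L) (fittingHallOf_ne_bot hG h)
        (FHall.le_normalizer_fittingHallOf L)
    have hmove : ∀ a ∈ Cfsg.typeA L, ∀ g : G, g * a * g⁻¹ ∈ Cfsg.typeA L → g ∈ L := fun a ha g hg => by
      by_contra hgL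
      exact ((mem_typeA_iff hG h).1 ha).2 (hTI g (by rwa [hN]) a ((mem_typeA_iff hG h).1 ha).1
        ((mem_typeA_iff hG h).1 hg).1)
    have hR : ∀ a ∈ Cfsg.typeA L, Cfsg.supportR L a = ⊥ := fun a ha => by
      refine TypeA.supportR_eq_bot hG h.coatom fun c hc => hmove a ha c ?_
      rw [Subgroup.mem_centralizer_singleton_iff.1 hc, mul_inv_cancel_right]
      exact ha
    obtain ⟨h1, τ₁, hτ₁, hag⟩ := coherent_TI_transport L (Cfsg.fittingHallOf L) hN hTI hodd
      (fittingHallOf_ne_bot hG h)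
      (fun hle => kernel_ne_top hG h (by rw [fitting_eq_subgroupOf, Subgroup.subgroupOf_eq_top]; exact hle))
      (by rw [← fitting_eq_subgroupOf]; exact kernel_frob hG h)
    rw [← fitting_eq_subgroupOf, ← hK] at h1 hτ₁ hag
    refine ⟨h1, τ₁, hτ₁, fun α hα => ?_⟩
    rw [hag α hα]
    exact (dade_eq_indFun hG hD hR hmove
      (IsGeneralizedCharacter.isClassFunction (Coherence.zspan_gen (fun φ hφ => above_gen _ hφ) hα.1))
      (fun x hx => supp_of_span hG h hα x hx)).symm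
  · exact absurd hab hnab'
  · exfalso
    haveI := Fact.mk hp
    have hm0 : m ≠ 0 := fun e => kernel_ne_bot hG h (Subgroup.card_eq_one.1 (by rw [hm, e, pow_zero]))
    have hpK : p ∣ Nat.card (Cfsg.fittingHallOf L) := by
      rw [Cfsg.fittingHallOf, Subgroup.card_map_of_injective L.subtype_injective, ← hK, hm]
      exact dvd_pow_self p hm0
    have hdiv : K.index ∣ p - 1 :=
      exponent_quotient K hodd (kernel_ne_bot hG h) (kernel_frob hG h) ▸ hexp p hp hpK
    have hp1 : K.index ≤ p - 1 := Nat.le_of_dvd (by have := hp.two_le; omega) hdiv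
    have hp3 : 2 * K.index ≤ p - 1 := by
      obtain ⟨c, hc⟩ := hdiv
      have h1 : Odd K.index := hodd.of_dvd_nat K.index_dvd_card
      have h2 : Odd p := hodd.of_dvd_nat ((hm ▸ dvd_pow_self p hm0 : p ∣ Nat.card K).trans
        (Subgroup.card_subgroup_dvd_card K))
      rcases c with _ | _ | c
      · rw [mul_zero] at hc; have := hp.two_le; omega
      · rw [Nat.odd_iff] at h1 h2; omega
      · rw [hc]; nlinarith
    have hsq := sq_le_abelianisation hm hnab
    have h4 : (2 * K.index) ^ 2 ≤ (p - 1) ^ 2 := Nat.pow_le_pow_left hp3 2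
    have h5 : (p - 1) ^ 2 + 1 < p ^ 2 := by
      obtain ⟨b, rfl⟩ : ∃ b, p = b + 2 := ⟨p - 2, by have := hp.two_le; omega⟩
      simp only [Nat.add_succ_sub_one, Nat.succ_eq_add_one]
      ring_nf
      omega
    have := hsq.trans hbound
    nlinarith

end Cfsg.Agent.OddChar.P12
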