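/-
PF 12.17: some maximal subgroup is not of Type I.

If every maximal subgroup is of Type I and hence (PF 12.7) a Frobenius group, then no maximal subgroup has a
supporting subgroup, so the kernels are TI-subsets covering the group, which PF 7.11 forbids.
-/
import Cfsg.Agent.Lib.OddChar.Iface
import Cfsg.Agent.Lib.OddChar.P12TypeOne
import Cfsg.Agent.S1526
import Cfsg.Agent.S1527
import Cfsg.Agent.S1378
import Cfsg.Agent.Lib.OddOrder.SigmaTildeCount
import Cfsg.Agent.Lib.OddOrder.SigmaCover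

set_option autoImplicit false
set_option linter.style.haveILetI false
set_option linter.unusedSectionVars false

namespace Cfsg.Agent.OddChar.P12

open Cfsg.Agent.OddOrder

universe u

variable {G : Type u} [Group G] [Finite G]

/-- When all maximal subgroups are Frobenius of Type I, centralisers of kernel elements stay inside. -/
theorem centralizer_le_of_all (hG : Cfsg.IsMinSimpleOddOrder G) (hfr : TypeOneFrobenius G)
    (hall : ∀ M : Subgroup G, IsCoatom M → Cfsg.IsOfTypeI M) {M : Subgroup G} (hM : IsCoatom M) {x : G}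
    (hx : x ∈ Cfsg.fittingHallOf M) (hx1 : x ≠ 1) : Subgroup.centralizer ({x} : Set G) ≤ M := by
  haveI : Fintype G := Fintype.ofFinite G
  haveI : Fintype M := Fintype.ofFinite M
  have hfo : ∀ L : Subgroup G, IsCoatom L → FrobOne L := fun L hL => ⟨hL, hall L hL, hfr L hL (hall L hL)⟩
  by_contra hno
  have hxA : x ∈ Cfsg.typeA M := (mem_typeA_iff hG (hfo M hM)).2 ⟨hx, hx1⟩
  have hD := dade_hyp hG (hfo M hM)
  have hR : Cfsg.supportR M x ≠ ⊥ := fun e => hno (by rw [← hD.sup_eq x hxA, e, bot_sup_eq]; exact inf_le_left)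
  unfold Cfsg.supportR at hR
  split_ifs at hR with h
  swap
  · exact hR rfl
  obtain ⟨hN, hCN⟩ := Classical.choose_spec h.2.exists
  generalize Classical.choose h.2.exists = N at hR hN hCN
  haveI : Fintype N := Fintype.ofFinite N
  obtain ⟨r, ⟨hrN, hrC⟩, hr1⟩ := (Subgroup.bot_or_exists_ne_one _).resolve_left hR
  have hxN : x ∈ Cfsg.fittingHallOf N := hfr N hN (hall N hN) r hrN hr1
    ⟨hCN (Subgroup.mem_centralizer_singleton_iff.2 rfl),
      Subgroup.mem_centralizer_singleton_iff.2 (Subgroup.mem_centralizer_singleton_iff.1 hrC).symm⟩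
  have hxM' : x ∈ Cfsg.sigmaCore M := fitting_eq_sigma hG (hfo M hM) ▸ hx
  have hxN' : x ∈ Cfsg.sigmaCore N := fitting_eq_sigma hG (hfo N hN) ▸ hxN
  obtain ⟨p, hp, hpd⟩ := Nat.exists_prime_and_dvd (fun e => hx1 (orderOf_eq_one_iff.1 e))
  obtain ⟨g, hg⟩ := (S1378.result hG).2 M N hM hN
    ⟨p, Exceptional.mem_sigma_of_dvd hp (hpd.trans (Subgroup.orderOf_dvd_natCard _ hxM')),
      Exceptional.mem_sigma_of_dvd hp (hpd.trans (Subgroup.orderOf_dvd_natCard _ hxN'))⟩
  subst hg
  rw [Support.sigmaCore_conj] at hxN'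
  obtain ⟨y, hy, hyx⟩ := hxN'
  have hyx' : g * y * g⁻¹ = x := hyx
  have hy1 : y ≠ 1 := fun e => hx1 (by rw [← hyx', e, mul_one, mul_inv_cancel])
  have hyA : y ∈ Cfsg.typeA M :=
    (mem_typeA_iff hG (hfo M hM)).2 ⟨(fitting_eq_sigma hG (hfo M hM)).symm ▸ hy, hy1⟩
  obtain ⟨m, hm, hmy⟩ := hD.fusion y hyA g (hyx'.symm ▸ hxA)
  have hc : g * m⁻¹ ∈ M.map (MulAut.conj g).toMonoidHom := hCN (Subgroup.mem_centralizer_singleton_iff.2 (by
    rw [← hyx']
    calc g * m⁻¹ * (g * y * g⁻¹) = g * m⁻¹ * (m * y * m⁻¹) := by rw [hmy]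
      _ = g * y * g⁻¹ * (g * m⁻¹) := by group))
  obtain ⟨w, hw, hwc⟩ := hc
  have hwc' : g * w * g⁻¹ = g * m⁻¹ := hwc
  have hgM : g ∈ M := by
    have e : g = m * w := by
      have := congrArg (fun t => g⁻¹ * t) hwc'
      simp only [mul_assoc, inv_mul_cancel_left] at this
      calc g = m * m⁻¹ * g := by group
        _ = m * (w * g⁻¹) * g := by rw [this]
        _ = m * w := by group
    rw [e]; exact M.mul_mem hm hw
  refine hno (hCN.trans ?_)
  rintro _ ⟨t, ht, rfl⟩
  exact M.mul_mem (M.mul_mem hgM ht) (M.inv_mem hgM)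

/-- PF 12.17. -/
theorem notAllTypeOne (hG : Cfsg.IsMinSimpleOddOrder G) (hfr : TypeOneFrobenius G) : NotAllTypeOne G := by
  classical
  by_contra hcon
  have hall : ∀ M : Subgroup G, IsCoatom M → Cfsg.IsOfTypeI M := fun M hM =>
    by_contra fun h => hcon ⟨M, hM, h⟩
  haveI : Fintype G := Fintype.ofFinite G
  have hfo : ∀ L : Subgroup G, IsCoatom L → FrobOne L := fun L hL => ⟨hL, hall L hL, hfr L hL (hall L hL)⟩
  have hlt : ∀ M : Subgroup G, IsCoatom M → Cfsg.fittingHallOf M < M := fun M hM => by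
    haveI : Fintype M := Fintype.ofFinite M
    refine lt_of_le_of_ne (FHall.fittingHallOf_le M) fun e => kernel_ne_top hG (hfo M hM) ?_
    rw [fitting_eq_subgroupOf, Subgroup.subgroupOf_eq_top]
    exact e.ge
  have hne : ∀ M : Subgroup G, IsCoatom M → Cfsg.fittingHallOf M ≠ ⊥ := fun M hM => by
    haveI : Fintype M := Fintype.ofFinite M
    exact fittingHallOf_ne_bot hG (hfo M hM)
  have hnorm : ∀ M : Subgroup G, IsCoatom M → Subgroup.normalizer (Cfsg.fittingHallOf M : Set G) = M := fun M hM =>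
    FTI.normalizer_of_normal hG hM (FHall.fittingHallOf_le M) (hne M hM) (FHall.le_normalizer_fittingHallOf M)
  have hTI : ∀ M : Subgroup G, IsCoatom M → Cfsg.IsTISubset (Cfsg.fittingHallOf M : Set G) := by
    intro M hM g hg x hx hgx
    haveI : Fintype M := Fintype.ofFinite M
    by_contra hx1
    obtain ⟨m, hm, hmx⟩ := (dade_hyp hG (hfo M hM)).fusion x ((mem_typeA_iff hG (hfo M hM)).2 ⟨hx, hx1⟩) g
      ((mem_typeA_iff hG (hfo M hM)).2 ⟨hgx, fun e => hx1 (conj_eq_one_iff.1 e)⟩)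
    have hc : m⁻¹ * g ∈ M := centralizer_le_of_all hG hfr hall hM hx hx1
      (Subgroup.mem_centralizer_singleton_iff.2 (by
        calc m⁻¹ * g * x = m⁻¹ * (g * x * g⁻¹) * g := by group
          _ = m⁻¹ * (m * x * m⁻¹) * g := by rw [hmx]
          _ = x * (m⁻¹ * g) := by group))
    refine hg ((hnorm M hM).symm ▸ ?_)
    have := M.mul_mem hm hc
    rwa [mul_inv_cancel_left] at this
  -- classes of maximal subgroups
  let r : Setoid {M : Subgroup G // IsCoatom M} :=
    { r := fun M N => ∃ g : G, N.1 = M.1.map (MulAut.conj g).toMonoidHom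
      iseqv := ⟨fun M => ⟨1, by ext; simp⟩, fun {M N} => fun ⟨g, hg⟩ => ⟨g⁻¹, by
        rw [hg, Subgroup.map_map]; ext; simp [mul_assoc]⟩, fun {M N P} => fun ⟨g, hg⟩ ⟨h, hh⟩ => ⟨h * g, by
        rw [hh, hg, Subgroup.map_map]; ext; simp [mul_assoc]⟩⟩ }
  haveI : Fintype (Quotient r) := Fintype.ofFinite _
  let M : Quotient r → Subgroup G := fun i => i.out.1
  have hM : ∀ i, IsCoatom (M i) := fun i => i.out.2
  let H : Quotient r → Subgroup G := fun i => Cfsg.fittingHallOf (M i)
  have hsig : ∀ i, H i = Cfsg.sigmaCore (M i) := fun i => by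
    haveI : Fintype (M i) := Fintype.ofFinite _
    exact fitting_eq_sigma hG (hfo _ (hM i))
  have hcop : ∀ i j, i ≠ j → Nat.Coprime (Nat.card (H i)) (Nat.card (H j)) := fun i j hij =>
    Nat.coprime_of_dvd fun p hp h1 h2 => hij (by
      rw [← Quotient.out_eq i, ← Quotient.out_eq j]
      exact Quotient.sound ((S1378.result hG).2 _ _ (hM i) (hM j)
        ⟨p, Exceptional.mem_sigma_of_dvd hp (hsig i ▸ h1), Exceptional.mem_sigma_of_dvd hp (hsig j ▸ h2)⟩))
  have hcover : ∀ g : G, g ≠ 1 → ∃ i, ∃ x : G, x * g * x⁻¹ ∈ H i := by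
    intro g hg
    obtain ⟨L, hL, a, ⟨ha, ha1⟩, t, ht, y, rfl⟩ := Pairing.cover_of_kappa_empty hG
      (fun M hM => (TypeA.typeI_iff hG hM).1 (hall M hM)) hg
    haveI : Fintype L := Fintype.ofFinite L
    have haF : a ∈ Cfsg.fittingHallOf L := (fitting_eq_sigma hG (hfo L hL)).symm ▸ ha
    rw [TypeA.supportR_eq_bot hG hL (centralizer_le_of_all hG hfr hall hL haF ha1), Subgroup.mem_bot] at ht
    subst ht
    let i : Quotient r := Quotient.mk r ⟨L, hL⟩
    obtain ⟨c, hc⟩ : ∃ c : G, M i = L.map (MulAut.conj c).toMonoidHom :=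
      Setoid.symm (Quotient.mk_out (s := r) (⟨L, hL⟩ : {M : Subgroup G // IsCoatom M}))
    refine ⟨i, c * y⁻¹, ?_⟩
    rw [hsig, hc, Support.sigmaCore_conj]
    refine ⟨a, ha, ?_⟩
    show c * a * c⁻¹ = _
    group
  have hN : ∀ i, Subgroup.normalizer (H i : Set G) = M i := fun i => hnorm _ (hM i)
  rcases Nat.lt_or_ge (Fintype.card (Quotient r)) 2 with hι | hι
  · -- a single class cannot cover
    haveI : Subsingleton (Quotient r) := Fintype.card_le_one_iff_subsingleton.1 (by omega)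
    have hcard := S1527.result H hcop (fun i => hTI _ (hM i)) hcover
    haveI : Nontrivial G := hG.2.1.toNontrivial
    obtain ⟨g, hg⟩ := exists_ne (1 : G)
    obtain ⟨i, -⟩ := hcover g hg
    rw [Fintype.sum_subsingleton _ i, hN] at hcard
    have h1 := (M i).card_mul_index
    have h2 : 2 * Nat.card (H i) ≤ Nat.card (M i) := by
      obtain ⟨k, hk⟩ := Subgroup.card_dvd_of_le (hlt _ (hM i)).le
      rcases Nat.lt_or_ge k 2 with hk2 | hk2
      · have h3 : Nat.card (M i) ≤ Nat.card (H i) := by rw [hk]; exact Nat.le_of_lt_succ (by interval_cases k <;> simp [H])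
        exact absurd (Subgroup.eq_of_le_of_card_ge (hlt _ (hM i)).le h3) (hlt _ (hM i)).ne
      · rw [hk, mul_comm 2]; exact Nat.mul_le_mul_left _ hk2
    have h4 : 1 < (M i).index := Subgroup.one_lt_index_of_ne_top (hM i).1
    obtain ⟨n, hn⟩ : ∃ n, Nat.card (H i) = n + 1 := ⟨Nat.card (H i) - 1, by have := Nat.card_pos (α := H i); omega⟩
    rw [hn] at hcard h2
    simp only [Nat.add_sub_cancel] at hcard
    have h5 : (M i).index * (2 * (n + 1)) ≤ Nat.card G := by
      rw [← h1, mul_comm (Nat.card (M i))]; exact Nat.mul_le_mul_left _ h2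
    have h6 : Nat.card G = (M i).index * n + 1 := by have := Nat.card_pos (α := G); omega
    nlinarith
  · exact S1526.result hG.1 hι M H (fun i => hlt _ (hM i)) (fun i => hne _ (hM i))
      (fun i x hx h hh => (Subgroup.mem_normalizer_iff.1 (FHall.le_normalizer_fittingHallOf (M i) hx) h).1 hh)
      (fun i => hfr _ (hM i) (hall _ (hM i))) hcop (fun i => ⟨hTI _ (hM i), hN i⟩) hcover

end Cfsg.Agent.OddChar.P12
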