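/-
Characters over a normal Hall subgroup with abelian inertia quotients, for PF section 12.
-/
import Cfsg.Agent.Lib.Char.Clifford
import Cfsg.Agent.Lib.Char.Orbit
import Cfsg.Agent.Lib.Char.CoprimeDegree
import Cfsg.Agent.Lib.Char.ChiefRestrict
import Cfsg.Agent.Lib.Char.Complete
import Cfsg.Agent.Lib.Char.Degree

set_option autoImplicit false
set_option linter.style.haveILetI false
set_option linter.unusedSectionVars false

namespace Cfsg.Agent.OddChar.P12

open scoped ComplexConjugate Classical commutatorElement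
open Cfsg.Agent.Char

universe u

section Linear

variable {K : Type u} [Group K] [Fintype K]

/-- An element outside the derived group is moved by a linear character. -/
theorem exists_linear_ne_one {y : K} (hy : y ∉ commutator K) : ∃ l : K →* ℂˣ, l y ≠ 1 := by
  haveI : Finite (Abelianization K) := Finite.of_surjective (Abelianization.of (G := K)) (QuotientGroup.mk'_surjective _)
  haveI : HasEnoughRootsOfUnity ℂ (Monoid.exponent (Abelianization K)) := by
    haveI : NeZero (Monoid.exponent (Abelianization K) : ℂ) :=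
      ⟨Nat.cast_ne_zero.mpr Monoid.exponent_ne_zero_of_finite⟩
    infer_instance
  obtain ⟨f, hf⟩ := CommGroup.exists_apply_ne_one_of_hasEnoughRootsOfUnity (Abelianization K) ℂ
    (a := Abelianization.of y) fun h => hy (by
      rwa [← MonoidHom.mem_ker, Abelianization.ker_of] at h)
  exact ⟨f.comp Abelianization.of, hf⟩

theorem linear_norm (l : K →* ℂˣ) (k : K) : ‖(l k : ℂ)‖ = 1 :=
  norm_eq_one_of_pow (Nat.card_pos (α := K)).ne' (by
    rw [← Units.val_pow_eq_pow_val, ← map_pow, pow_card_eq_one', map_one, Units.val_one])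

/-- If the coefficient of a non-principal character depends only on its degree, the function is
constant outside the derived group. -/
theorem const_off_derived {f : K → ℂ} (hf : Cfsg.IsClassFunction K f) (w : ℕ → ℂ)
    (hw : ∀ θ : Cfsg.IrrCharacter K, θ ≠ principal K →
      Cfsg.classInner f θ = w (Cfsg.charDegree (θ : K → ℂ)))
    {y : K} (hy : y ∉ commutator K) : f y = Cfsg.classInner f (fun _ => 1) - w 1 := by
  obtain ⟨l, hl⟩ := exists_linear_ne_one hy
  let T : ℂ := ∑ θ : Cfsg.IrrCharacter K, w (Cfsg.charDegree (θ : K → ℂ)) * (θ : K → ℂ) y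
  let tw : Cfsg.IrrCharacter K ≃ Cfsg.IrrCharacter K :=
    { toFun := fun θ => ⟨fun k => (l k : ℂ) * (θ : K → ℂ) k, ChiefRestrict.isIrr_mul_linear θ.2 l⟩
      invFun := fun θ => ⟨fun k => (l⁻¹ k : ℂˣ) * (θ : K → ℂ) k, ChiefRestrict.isIrr_mul_linear θ.2 l⁻¹⟩
      left_inv := fun θ => Subtype.ext (funext fun k => by simp [← mul_assoc])
      right_inv := fun θ => Subtype.ext (funext fun k => by simp [← mul_assoc]) }
  have hdeg : ∀ θ, Cfsg.charDegree ((tw θ : Cfsg.IrrCharacter K) : K → ℂ) =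
      Cfsg.charDegree (θ : K → ℂ) := fun θ => by
    refine Nat.cast_injective (R := ℂ) ?_
    rw [← CharX.irr_deg, ← CharX.irr_deg]
    show (l 1 : ℂ) * _ = _
    rw [map_one, Units.val_one, one_mul]
  have hT : T = (l y : ℂ) * T := by
    calc T = ∑ θ, w (Cfsg.charDegree ((tw θ : Cfsg.IrrCharacter K) : K → ℂ)) *
          ((tw θ : Cfsg.IrrCharacter K) : K → ℂ) y :=
        (Equiv.sum_comp tw fun θ => w (Cfsg.charDegree (θ : K → ℂ)) * (θ : K → ℂ) y).symm
      _ = (l y : ℂ) * T := by
        rw [Finset.mul_sum]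
        refine Finset.sum_congr rfl fun θ _ => ?_
        rw [hdeg]
        show _ * ((l y : ℂ) * (θ : K → ℂ) y) = _
        ring
  have hT0 : T = 0 := by
    by_contra h
    exact hl (Units.ext (mul_right_cancel₀ h (by rw [← hT, Units.val_one, one_mul])))
  have h1 : ∀ θ : Cfsg.IrrCharacter K, Cfsg.classInner f θ * (θ : K → ℂ) y -
      w (Cfsg.charDegree (θ : K → ℂ)) * (θ : K → ℂ) y =
      if θ = principal K then Cfsg.classInner f (fun _ => 1) - w 1 else 0 := fun θ => by
    split_ifs with h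
    · subst h
      simp [principal, CharX.charDegree_one]
    · rw [hw θ h, sub_self]
  calc f y = (∑ θ : Cfsg.IrrCharacter K, Cfsg.classInner f θ • (θ : K → ℂ)) y :=
        congrFun (classFunction_eq_sum hf) y
    _ = ∑ θ : Cfsg.IrrCharacter K, (Cfsg.classInner f θ * (θ : K → ℂ) y -
          w (Cfsg.charDegree (θ : K → ℂ)) * (θ : K → ℂ) y) := by
        rw [Finset.sum_apply, Finset.sum_sub_distrib, show ∑ θ : Cfsg.IrrCharacter K,
          w (Cfsg.charDegree (θ : K → ℂ)) * (θ : K → ℂ) y = 0 from hT0, sub_zero]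
        simp
    _ = _ := by
        rw [Finset.sum_congr rfl fun θ _ => h1 θ, Finset.sum_ite_eq']
        simp

/-- If the coefficients of the non-principal characters are proportional to their degrees, the
function is constant outside the identity. -/
theorem const_off_one {f : K → ℂ} (hf : Cfsg.IsClassFunction K f) (a : ℂ)
    (ha : ∀ θ : Cfsg.IrrCharacter K, θ ≠ principal K → Cfsg.classInner f θ = a * (θ : K → ℂ) 1)
    {y : K} (hy : y ≠ 1) : f y = Cfsg.classInner f (fun _ => 1) - a := by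
  have h1 : ∀ θ : Cfsg.IrrCharacter K, Cfsg.classInner f θ * (θ : K → ℂ) y -
      a * ((θ : K → ℂ) 1 • (θ : K → ℂ)) y =
      if θ = principal K then Cfsg.classInner f (fun _ => 1) - a else 0 := fun θ => by
    simp only [Pi.smul_apply, smul_eq_mul]
    split_ifs with h
    · subst h
      simp [principal]
    · rw [ha θ h]; ring
  have hreg : ∑ θ : Cfsg.IrrCharacter K, ((θ : K → ℂ) 1 • (θ : K → ℂ)) y = 0 := by
    rw [← Finset.sum_apply, ← leftRegular_eq_sum, character_leftRegular, if_neg hy]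
  calc f y = (∑ θ : Cfsg.IrrCharacter K, Cfsg.classInner f θ • (θ : K → ℂ)) y :=
        congrFun (classFunction_eq_sum hf) y
    _ = ∑ θ : Cfsg.IrrCharacter K, (Cfsg.classInner f θ * (θ : K → ℂ) y -
          a * ((θ : K → ℂ) 1 • (θ : K → ℂ)) y) := by
        rw [Finset.sum_apply, Finset.sum_sub_distrib, ← Finset.mul_sum, hreg, mul_zero, sub_zero]
        simp
    _ = _ := by
        rw [Finset.sum_congr rfl fun θ _ => h1 θ, Finset.sum_ite_eq']
        simp

end Linear

variable {L : Type u} [Group L] [Fintype L] (H : Subgroup L) [hH : H.Normal]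

/-- An element without fixed points on `H` is centralised in `L ⧸ H` only by images of its centraliser. -/
theorem card_centralizer_mk {g : L} (hg : ∀ h ∈ H, h * g = g * h → h = 1) :
    Nat.card (Subgroup.centralizer ({g} : Set L)) =
      Nat.card (Subgroup.centralizer ({(g : L ⧸ H)} : Set (L ⧸ H))) := by
  let m : Subgroup.centralizer ({g} : Set L) → Subgroup.centralizer ({(g : L ⧸ H)} : Set (L ⧸ H)) := fun c =>
    ⟨((c : L) : L ⧸ H), Subgroup.mem_centralizer_singleton_iff.2 (by
      rw [← QuotientGroup.mk_mul, ← QuotientGroup.mk_mul, Subgroup.mem_centralizer_singleton_iff.1 c.2])⟩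
  refine Nat.card_eq_of_bijective m ⟨fun a b hab => Subtype.ext ?_, fun c => ?_⟩
  · have h : (a : L)⁻¹ * b ∈ H := QuotientGroup.eq.1 (congrArg Subtype.val hab)
    exact inv_mul_eq_one.1 (hg _ h (Subgroup.mem_centralizer_singleton_iff.1
      (mul_mem (inv_mem a.2) b.2)))
  · obtain ⟨d, hd⟩ := QuotientGroup.mk_surjective (c : L ⧸ H)
    have hd' : (d : L ⧸ H) * g = (g : L ⧸ H) * d := by
      rw [hd]; exact Subgroup.mem_centralizer_singleton_iff.1 c.2
    have hmem : d * g * d⁻¹ * g⁻¹ ∈ H := by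
      rw [← QuotientGroup.eq_one_iff, show ((d * g * d⁻¹ * g⁻¹ : L) : L ⧸ H) =
        (d : L ⧸ H) * g * (d : L ⧸ H)⁻¹ * (g : L ⧸ H)⁻¹ from rfl, hd', mul_inv_cancel_right, mul_inv_cancel]
    let F : H → H := fun h => ⟨(h : L) * g * (h : L)⁻¹ * g⁻¹, by
      rw [show (h : L) * g * (h : L)⁻¹ * g⁻¹ = (h : L) * (g * (h : L)⁻¹ * g⁻¹) by group]
      exact H.mul_mem h.2 (hH.conj_mem _ (H.inv_mem h.2) g)⟩
    have hinj : Function.Injective F := by
      intro a b hab
      have e := mul_right_cancel (congrArg Subtype.val hab)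
      refine Subtype.ext (inv_mul_eq_one.1 (hg _ (H.mul_mem (H.inv_mem b.2) a.2) ?_)).symm
      calc (b : L)⁻¹ * a * g = (b : L)⁻¹ * ((a : L) * g * (a : L)⁻¹) * a := by group
        _ = (b : L)⁻¹ * ((b : L) * g * (b : L)⁻¹) * a := by rw [show (a : L) * g * (a : L)⁻¹ = _ from e]
        _ = g * ((b : L)⁻¹ * a) := by group
    obtain ⟨h, hh⟩ := Finite.surjective_of_injective hinj ⟨_, hmem⟩
    have e := mul_right_cancel (congrArg Subtype.val hh)
    refine ⟨⟨(h : L)⁻¹ * d, Subgroup.mem_centralizer_singleton_iff.2 ?_⟩, Subtype.ext ?_⟩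
    · calc (h : L)⁻¹ * d * g = (h : L)⁻¹ * (d * g * d⁻¹) * d := by group
        _ = (h : L)⁻¹ * ((h : L) * g * (h : L)⁻¹) * d := by rw [← e]
        _ = g * ((h : L)⁻¹ * d) := by group
    · show (((h : L)⁻¹ * d : L) : L ⧸ H) = c
      rw [← hd, QuotientGroup.eq]
      rw [show ((h : L)⁻¹ * d)⁻¹ * d = d⁻¹ * (h : L) * d by group]
      simpa using hH.conj_mem (h : L) h.2 d⁻¹

/-- A character that is non-trivial on `H` vanishes on the elements without fixed points on `H`. -/
theorem vanish_of_fpf {φ : L → ℂ} (hφ : Cfsg.IsIrrCharacter L φ) (hnt : ∃ h ∈ H, φ h ≠ φ 1) {g : L}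
    (hg : ∀ h ∈ H, h * g = g * h → h = 1) : φ g = 0 := by
  haveI : Fintype (L ⧸ H) := Fintype.ofFinite _
  have hsq : ∀ (X : Type u) [Group X] [Fintype X] (x : X),
      ∑ χ : Cfsg.IrrCharacter X, ‖(χ : X → ℂ) x‖ ^ 2 = (Nat.card (Subgroup.centralizer ({x} : Set X)) : ℝ) := by
    intro X _ _ x
    have h := column_orth_of_isConj (IsConj.refl x)
    have h' : ((∑ χ : Cfsg.IrrCharacter X, ‖(χ : X → ℂ) x‖ ^ 2 : ℝ) : ℂ) =
        ((Nat.card (Subgroup.centralizer ({x} : Set X)) : ℝ) : ℂ) := by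
      push_cast
      rw [← h]
      exact Finset.sum_congr rfl fun χ _ => (Complex.mul_conj' _).symm
    exact_mod_cast h'
  let inf : Cfsg.IrrCharacter (L ⧸ H) → Cfsg.IrrCharacter L := fun χ =>
    ⟨fun l => (χ : L ⧸ H → ℂ) l, IsIrrCharacter.comp χ.2 (QuotientGroup.mk' H)
      (QuotientGroup.mk'_surjective H)⟩
  have hinf : Function.Injective inf := fun a b hab => Subtype.ext (funext fun q => by
    obtain ⟨l, rfl⟩ := QuotientGroup.mk_surjective q
    exact congrFun (congrArg Subtype.val hab) l)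
  have hnot : (⟨φ, hφ⟩ : Cfsg.IrrCharacter L) ∉ Finset.univ.image inf := fun hmem => by
    obtain ⟨χ, -, hχ⟩ := Finset.mem_image.1 hmem
    obtain ⟨h, hh, hne⟩ := hnt
    have e : ∀ l : L, (χ : L ⧸ H → ℂ) l = φ l := fun l => congrFun (congrArg Subtype.val hχ) l
    exact hne (by rw [← e, ← e, (QuotientGroup.eq_one_iff h).2 hh]; rfl)
  have hall := hsq L g
  have hpart : ∑ χ ∈ Finset.univ.image inf, ‖(χ : L → ℂ) g‖ ^ 2 =
      (Nat.card (Subgroup.centralizer ({g} : Set L)) : ℝ) := by
    rw [Finset.sum_image fun a _ b _ e => hinf e, card_centralizer_mk H hg, ← hsq (L ⧸ H) (g : L ⧸ H)]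
  have h0 : ∑ χ ∈ Finset.univ \ Finset.univ.image inf, ‖((χ : Cfsg.IrrCharacter L) : L → ℂ) g‖ ^ 2 = 0 := by
    have := Finset.sum_sdiff (f := fun χ : Cfsg.IrrCharacter L => ‖(χ : L → ℂ) g‖ ^ 2)
      (Finset.subset_univ (Finset.univ.image inf))
    linarith
  have := (Finset.sum_eq_zero_iff_of_nonneg fun χ _ => sq_nonneg _).1 h0 ⟨φ, hφ⟩
    (Finset.mem_sdiff.2 ⟨Finset.mem_univ _, hnot⟩)
  simpa using this

variable [Fintype H]

/-- Multiplicity one and the degree, over a character of a normal Hall subgroup with abelian inertia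
quotient. -/
theorem mult_one (hcop : (Nat.card H).Coprime H.index) {θ : H → ℂ} (hθ : Cfsg.IsIrrCharacter H θ)
    (hab : ∀ x ∈ inertia H θ, ∀ y ∈ inertia H θ, x * y * x⁻¹ * y⁻¹ ∈ H) {φ : L → ℂ}
    (hφ : Cfsg.IsIrrCharacter L φ) (hc : Cfsg.classInner (fun h : H => φ h) θ ≠ 0) :
    Cfsg.classInner (fun h : H => φ h) θ = 1 ∧ φ 1 = ((inertia H θ).index : ℂ) * θ 1 := by
  set T := inertia H θ with hT
  have hHT : H ≤ T := le_inertia H (IsCharacter.isClassFunction (IsIrrCharacter.isCharacter hθ))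
  haveI : Fintype T := Fintype.ofFinite T
  set H' := H.subgroupOf T with hH'
  haveI : H'.Normal := Subgroup.normal_subgroupOf
  haveI : Fintype H' := Fintype.ofFinite H'
  let e : H' ≃* H := Subgroup.subgroupOfEquivOfLe hHT
  let θ' : H' → ℂ := fun h => θ (e h)
  have hθ' : Cfsg.IsIrrCharacter H' θ' :=
    IsIrrCharacter.comp hθ e.toMonoidHom e.surjective
  have hinv : ∀ t : T, conjChar H' t θ' = θ' := fun t => funext fun h =>
    (mem_inertia_iff H).1 t.2 (e h)
  have hcop' : (Nat.card H').Coprime H'.index := by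
    rw [Nat.card_congr e.toEquiv, show H'.index = H.relIndex T from rfl]
    exact hcop.coprime_dvd_right ((Subgroup.relIndex_dvd_index_of_normal H T))
  have habT : ∀ x y : T, x * y * x⁻¹ * y⁻¹ ∈ H' := fun x y => hab x x.2 y y.2
  obtain ⟨χ, hχ, hχe⟩ := CoprimeDegree.exists_extension_coprime H' hcop' hθ' hinv
  obtain ⟨ψ, hψ, hψφ, hψc⟩ := clifford_correspondence_surjective H hθ hT hHT hφ hc
  have hres : (fun h : H' => ψ h) = θ' := by
    refine (restrict_eq_of_abelian H' habT hθ' hχ hψ ?_ ?_).trans (funext hχe)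
    · rw [funext hχe, classInner_self_irr hθ']; exact one_ne_zero
    · have h1 : Cfsg.classInner (fun h : H' => ψ h) θ' =
          Cfsg.classInner (fun h : H => ψ ⟨(h : L), hHT h.2⟩) θ := by
        rw [Cfsg.classInner, Cfsg.classInner, Nat.card_congr e.toEquiv]
        congr 1
        exact Fintype.sum_equiv e.toEquiv _ _ fun h => rfl
      rw [h1, hψc]; exact hc
  have hres' : (fun h : H => ψ ⟨(h : L), hHT h.2⟩) = θ := funext fun h => by
    simpa [θ', e, Subgroup.subgroupOfEquivOfLe] using congrFun hres ⟨⟨(h : L), hHT h.2⟩, h.2⟩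
  refine ⟨by rw [← hψc, hres', classInner_self_irr hθ], ?_⟩
  rw [← hψφ, indFun_one_apply, ← congrFun hres' 1]
  rfl

/-- A class function whose coefficients agree on the constituents over each character of `H` is
constant on every coset outside `H`. -/
theorem coset_const {F : L → ℂ} (hF : Cfsg.IsClassFunction L F)
    (heq : ∀ θ : Cfsg.IrrCharacter H, θ ≠ principal H → ∀ φ φ' : Cfsg.IrrCharacter L,
      Cfsg.classInner (fun h : H => (φ : L → ℂ) h) θ ≠ 0 →
      Cfsg.classInner (fun h : H => (φ' : L → ℂ) h) θ ≠ 0 →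
        Cfsg.classInner F φ = Cfsg.classInner F φ' ∧ (φ : L → ℂ) 1 = (φ' : L → ℂ) 1)
    {g : L} (hg : g ∉ H) {h : L} (hh : h ∈ H) : F (g * h) = F g := by
  let m : Cfsg.IrrCharacter H → Cfsg.IrrCharacter L → ℂ := fun θ φ =>
    Cfsg.classInner (fun k : H => (φ : L → ℂ) k) θ
  let nt : Cfsg.IrrCharacter L → Prop := fun φ => ∃ k : H, (φ : L → ℂ) k ≠ (φ : L → ℂ) 1
  have hm1 : ∀ φ, nt φ → m (principal H) φ = 0 := fun φ ⟨k, hk⟩ => by
    by_contra hne
    exact hk (restrict_over_one H φ.2 hne k)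
  have hm0 : ∀ φ, ¬ nt φ → ∀ θ, θ ≠ principal H → m θ φ = 0 := fun φ hφ θ hθ => by
    have e : (fun k : H => (φ : L → ℂ) k) = (φ : L → ℂ) 1 • fun _ : H => (1 : ℂ) := funext fun k => by
      simp only [nt, not_exists, not_not] at hφ
      simp [hφ k]
    show Cfsg.classInner _ _ = 0
    rw [e, classInner_smul_left, classInner_irr_of_ne isIrrCharacter_one θ.2 (fun e => hθ (Subtype.ext e.symm)),
      mul_zero]
  let w : Cfsg.IrrCharacter H → ℂ := fun θ =>
    if hθ : θ ≠ principal H ∧ ∃ φ, m θ φ ≠ 0 then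
      Cfsg.classInner F hθ.2.choose * (θ : H → ℂ) 1 / (hθ.2.choose : L → ℂ) 1 else 0
  have hdec : ∀ φ : Cfsg.IrrCharacter L,
      (φ : L → ℂ) 1 = ∑ θ, m θ φ * (θ : H → ℂ) 1 := fun φ => by
    have := congrFun (classFunction_eq_sum (f := fun k : H => (φ : L → ℂ) k)
      (IsCharacter.isClassFunction (IsCharacter.restrict (IsIrrCharacter.isCharacter φ.2) H))) 1
    simpa [Finset.sum_apply] using this
  have hcoef : ∀ φ : Cfsg.IrrCharacter L,
      ∑ θ, w θ * m θ φ = if nt φ then Cfsg.classInner F φ else 0 := fun φ => by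
    split_ifs with hφ
    · have h1 : ∀ θ, w θ * m θ φ = Cfsg.classInner F φ / (φ : L → ℂ) 1 * (m θ φ * (θ : H → ℂ) 1) := by
        intro θ
        by_cases hmz : m θ φ = 0
        · simp [hmz]
        have hθ : θ ≠ principal H := fun e => hmz (e ▸ hm1 φ hφ)
        have hex : θ ≠ principal H ∧ ∃ φ, m θ φ ≠ 0 := ⟨hθ, φ, hmz⟩
        obtain ⟨e1, e2⟩ := heq θ hθ hex.2.choose φ hex.2.choose_spec hmz
        simp only [w, dif_pos hex, e1, e2]
        ring
      rw [Finset.sum_congr rfl fun θ _ => h1 θ, ← Finset.mul_sum, ← hdec, div_mul_cancel₀]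
      exact IsIrrCharacter.one_ne_zero φ.2
    · refine Finset.sum_eq_zero fun θ _ => ?_
      by_cases hθ : θ = principal H
      · simp [w, hθ]
      · rw [hm0 φ hφ θ hθ, mul_zero]
  have hoff : ∀ y : L, y ∉ H →
      F y = ∑ φ : Cfsg.IrrCharacter L, (if nt φ then 0 else Cfsg.classInner F φ * (φ : L → ℂ) y) := by
    intro y hy
    have h0 : ∑ φ : Cfsg.IrrCharacter L, (∑ θ, w θ * m θ φ) * (φ : L → ℂ) y = 0 := by
      simp only [Finset.sum_mul, mul_assoc]
      rw [Finset.sum_comm]
      refine Finset.sum_eq_zero fun θ _ => ?_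
      rw [← Finset.mul_sum]
      have hind := classFunction_eq_sum (isClassFunction_indFun H (θ : H → ℂ))
      have h2 := congrFun hind y
      rw [indFun_eq_zero_of_not_mem H _ hy, Finset.sum_apply] at h2
      rw [show ∑ φ : Cfsg.IrrCharacter L, m θ φ * (φ : L → ℂ) y = 0 from Eq.trans
        (Finset.sum_congr rfl fun φ _ => by
          rw [Pi.smul_apply, smul_eq_mul, classInner_indFun_left H _
              (IsCharacter.isClassFunction (IsIrrCharacter.isCharacter φ.2)),
            classInner_comm_of_isCharacter (IsIrrCharacter.isCharacter θ.2)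
              (IsCharacter.restrict (IsIrrCharacter.isCharacter φ.2) H)]) h2.symm, mul_zero]
    rw [congrFun (classFunction_eq_sum hF) y, Finset.sum_apply]
    rw [Finset.sum_congr rfl fun φ _ => by rw [hcoef φ]] at h0
    rw [← sub_zero (∑ φ : Cfsg.IrrCharacter L, (Cfsg.classInner F φ • (φ : L → ℂ)) y)]
    conv_lhs => rw [← h0]
    rw [← Finset.sum_sub_distrib]
    refine Finset.sum_congr rfl fun φ _ => ?_
    simp only [Pi.smul_apply, smul_eq_mul]
    split_ifs <;> simp
  rw [hoff _ fun hm => hg ((H.mul_mem_cancel_right hh).1 hm), hoff g hg]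
  refine Finset.sum_congr rfl fun φ _ => ?_
  split_ifs with hφ
  · rfl
  · simp only [nt, not_exists, not_not] at hφ
    obtain ⟨N, -, hN, hN'⟩ := IsCharacter.exists_kernel (IsIrrCharacter.isCharacter φ.2)
    have h1 := hN' h ((hN h).2 (hφ ⟨h, hh⟩)) g
    rw [← (IsCharacter.isClassFunction (IsIrrCharacter.isCharacter φ.2)) (g * h) h,
      show h * (g * h) * h⁻¹ = h * g by group, h1]

end Cfsg.Agent.OddChar.P12
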