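/-
A virtual character with signs on a set without conjugate pairs is supported on the pairs of the differences
`φ - conj φ` (the norm argument of PF 12.7).
-/
import Cfsg.Agent.Lib.Char.Coherence
import Cfsg.Agent.Lib.Char.CoherenceThm

set_option autoImplicit false
set_option linter.style.haveILetI false
set_option linter.unusedSectionVars false

namespace Cfsg.Agent.OddChar.P12

open scoped ComplexConjugate Classical
open Cfsg.Agent.Char

universe u v

variable {L : Type u} [Group L] [Fintype L] {G : Type v} [Group G] [Fintype G]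

/-- An isometry on the degree-zero lattice of a set of irreducible characters closed under conjugation. -/
structure PairMap (S : Set (L → ℂ)) (τ : (L → ℂ) → (G → ℂ)) : Prop where
  irr : ∀ φ ∈ S, Cfsg.IsIrrCharacter L φ
  conj_mem : ∀ φ ∈ S, Cfsg.conjFun φ ∈ S
  conj_ne : ∀ φ ∈ S, Cfsg.conjFun φ ≠ φ
  iso : Cfsg.IsLinearIsometryOn (Cfsg.zspanOn S ({1}ᶜ : Set L)) τ
  map_one : ∀ α ∈ Cfsg.zspanOn S ({1}ᶜ : Set L), τ α 1 = 0

variable {S : Set (L → ℂ)} {τ : (L → ℂ) → (G → ℂ)} (h : PairMap S τ)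
include h

theorem PairMap.diff_mem {φ : L → ℂ} (hφ : φ ∈ S) :
    φ - Cfsg.conjFun φ ∈ Cfsg.zspanOn S ({1}ᶜ : Set L) :=
  Coherence.mem_zspanOn_one.mpr ⟨Submodule.sub_mem _ (Submodule.subset_span hφ)
    (Submodule.subset_span (h.conj_mem φ hφ)), by
      rw [Pi.sub_apply, Coherence.conjFun_one (h.irr φ hφ), sub_self]⟩

theorem PairMap.exists_pair {φ : L → ℂ} (hφ : φ ∈ S) :
    ∃ μ ν : Cfsg.IrrCharacter G, μ ≠ ν ∧ τ (φ - Cfsg.conjFun φ) = (μ : G → ℂ) - (ν : G → ℂ) := by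
  have hm := h.diff_mem hφ
  refine IsGeneralizedCharacter.of_norm_two (h.iso.2.2.2 _ hm) ?_ (h.map_one _ hm)
  rw [h.iso.2.2.1 _ hm _ hm, classInner_sub_left, classInner_sub_right, classInner_sub_right,
    classInner_self_irr (h.irr φ hφ), classInner_self_irr (h.irr _ (h.conj_mem φ hφ)),
    classInner_irr_of_ne (h.irr φ hφ) (h.irr _ (h.conj_mem φ hφ)) (h.conj_ne φ hφ).symm,
    classInner_irr_of_ne (h.irr _ (h.conj_mem φ hφ)) (h.irr φ hφ) (h.conj_ne φ hφ)]
  norm_num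

/-- A signed sum of characters without conjugate pairs is orthogonal to every irreducible character
orthogonal to all the differences `τ (φ - conj φ)`. -/
theorem PairMap.inner_eq_zero {χ : Cfsg.IrrCharacter G}
    (hχ : ∀ φ ∈ S, Cfsg.classInner (τ (φ - Cfsg.conjFun φ)) (χ : G → ℂ) = 0)
    {B : Finset (L → ℂ)} (hB : ↑B ⊆ S) {ε : (L → ℂ) → ℤ} (hε : ∀ φ ∈ B, ε φ * ε φ = 1)
    (hno : ∀ φ ∈ B, Cfsg.conjFun φ ∉ B) (h1 : (∑ φ ∈ B, (ε φ : ℂ) • φ) 1 = 0) :
    Cfsg.classInner (τ (∑ φ ∈ B, (ε φ : ℂ) • φ)) (χ : G → ℂ) = 0 := by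
  set β := ∑ φ ∈ B, (ε φ : ℂ) • φ with hβ
  have hβm : β ∈ Cfsg.zspanOn S ({1}ᶜ : Set L) :=
    Coherence.mem_zspanOn_one.mpr ⟨Submodule.sum_mem _ fun φ hφ => by
      rw [Int.cast_smul_eq_zsmul]
      exact Submodule.smul_mem _ _ (Submodule.subset_span (hB hφ)), h1⟩
  have hin : ∀ ξ : L → ℂ, Cfsg.IsIrrCharacter L ξ →
      Cfsg.classInner β ξ = if ξ ∈ B then (ε ξ : ℂ) else 0 := by
    intro ξ hξ
    rw [hβ, classInner_sum_left]
    split_ifs with hm
    · rw [Finset.sum_eq_single ξ]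
      · rw [classInner_smul_left, classInner_self_irr hξ, mul_one]
      · intro φ hφ hne
        rw [classInner_smul_left, classInner_irr_of_ne (h.irr φ (hB hφ)) hξ hne, mul_zero]
      · exact fun h' => absurd hm h'
    · refine Finset.sum_eq_zero fun φ hφ => ?_
      rw [classInner_smul_left, classInner_irr_of_ne (h.irr φ (hB hφ)) hξ (fun e => hm (e ▸ hφ)), mul_zero]
  obtain ⟨c, hc, hcoef⟩ := IsGeneralizedCharacter.exists_coeff (h.iso.2.2.2 β hβm)
  have hnorm : ∑ ψ, c ψ * c ψ = (B.card : ℤ) := by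
    have e := h.iso.2.2.1 β hβm β hβm
    rw [IsGeneralizedCharacter.norm_eq hc] at e
    conv_rhs at e => arg 2; rw [hβ]
    rw [classInner_sum_right, Finset.sum_congr rfl fun φ hφ => show Cfsg.classInner β ((ε φ : ℂ) • φ) = 1 by
      rw [classInner_smul_right, hin φ (h.irr φ (hB hφ)), if_pos hφ, map_intCast, ← Int.cast_mul, hε φ hφ,
        Int.cast_one], Finset.sum_const, nsmul_eq_mul, mul_one] at e
    exact_mod_cast e
  choose μ ν hne hd using fun φ : B => h.exists_pair (hB φ.2)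
  have hdiff : ∀ φ : B, c (μ φ) - c (ν φ) = ε φ := by
    intro φ
    have e := h.iso.2.2.1 β hβm _ (h.diff_mem (hB φ.2))
    rw [hd φ, classInner_sub_right, hcoef, hcoef, classInner_sub_right, hin _ (h.irr _ (hB φ.2)), if_pos φ.2,
      hin _ (h.irr _ (h.conj_mem _ (hB φ.2))), if_neg (hno _ φ.2), sub_zero] at e
    exact_mod_cast e
  have hdisj : ∀ φ ψ : B, φ ≠ ψ → μ φ ≠ μ ψ ∧ μ φ ≠ ν ψ ∧ ν φ ≠ μ ψ ∧ ν φ ≠ ν ψ := by
    intro φ ψ hne'
    refine Coherence.disjoint_of_diff (hne φ) (hne ψ) ?_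
    have e := h.iso.2.2.1 _ (h.diff_mem (hB φ.2)) _ (h.diff_mem (hB ψ.2))
    have hφ := h.irr _ (hB φ.2)
    have hψ := h.irr _ (hB ψ.2)
    have hφ' := h.irr _ (h.conj_mem _ (hB φ.2))
    have hψ' := h.irr _ (h.conj_mem _ (hB ψ.2))
    have n1 : (φ : L → ℂ) ≠ ψ := fun e => hne' (Subtype.ext e)
    have n2 : (φ : L → ℂ) ≠ Cfsg.conjFun ψ := fun e => hno _ ψ.2 (e ▸ φ.2)
    have n3 : Cfsg.conjFun (φ : L → ℂ) ≠ ψ := fun e => hno _ φ.2 (e.symm ▸ ψ.2)
    have n4 : Cfsg.conjFun (φ : L → ℂ) ≠ Cfsg.conjFun ψ := fun e => n1 (by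
      rw [← Coherence.conjFun_conjFun (φ : L → ℂ), e, Coherence.conjFun_conjFun])
    rw [← hd φ, ← hd ψ, e, classInner_sub_left, classInner_sub_right, classInner_sub_right,
      classInner_irr_of_ne hφ hψ n1, classInner_irr_of_ne hφ hψ' n2, classInner_irr_of_ne hφ' hψ n3,
      classInner_irr_of_ne hφ' hψ' n4]
    norm_num
  let U : B → Finset (Cfsg.IrrCharacter G) := fun φ => {μ φ, ν φ}
  have hUd : ((Finset.univ : Finset B) : Set B).PairwiseDisjoint U := fun φ _ ψ _ hne' => by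
    obtain ⟨a, b, d, e⟩ := hdisj φ ψ hne'
    show Disjoint (U φ) (U ψ)
    simp [U, a.symm, b.symm, d.symm, e.symm]
  have hge : (B.card : ℤ) ≤ ∑ ψ ∈ Finset.univ.biUnion U, c ψ * c ψ := by
    rw [Finset.sum_biUnion hUd]
    have : (B.card : ℤ) = ∑ _φ : B, (1 : ℤ) := by simp
    rw [this]
    refine Finset.sum_le_sum fun φ _ => ?_
    show 1 ≤ ∑ ψ ∈ {μ φ, ν φ}, c ψ * c ψ
    rw [Finset.sum_pair (hne φ)]
    have h1 := hdiff φ
    have h2 := hε φ φ.2
    by_contra hlt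
    have h3 : c (μ φ) = 0 := by nlinarith
    have h4 : c (ν φ) = 0 := by nlinarith
    rw [h3, h4, sub_zero] at h1
    rw [← h1] at h2
    norm_num at h2
  have hout : χ ∉ Finset.univ.biUnion U := by
    intro hm
    obtain ⟨φ, -, hφ⟩ := Finset.mem_biUnion.1 hm
    have e := hχ φ (hB φ.2)
    rw [hd φ, classInner_sub_left] at e
    rw [Finset.mem_insert, Finset.mem_singleton] at hφ
    rcases hφ with rfl | rfl
    · rw [classInner_self_irr (μ φ).2, classInner_irr_of_ne (ν φ).2 (μ φ).2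
        (fun e' => hne φ (Subtype.ext e'.symm))] at e
      norm_num at e
    · rw [classInner_self_irr (ν φ).2, classInner_irr_of_ne (μ φ).2 (ν φ).2
        (fun e' => hne φ (Subtype.ext e'))] at e
      norm_num at e
  have hz : c χ * c χ = 0 := by
    have h1 := Finset.add_sum_erase Finset.univ (fun ψ => c ψ * c ψ) (Finset.mem_univ χ)
    have h2 : ∑ ψ ∈ Finset.univ.biUnion U, c ψ * c ψ ≤ ∑ ψ ∈ Finset.univ.erase χ, c ψ * c ψ :=
      Finset.sum_le_sum_of_subset_of_nonneg (fun ψ hψ => Finset.mem_erase.2 ⟨fun e => hout (e ▸ hψ), Finset.mem_univ _⟩)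
        fun ψ _ _ => mul_self_nonneg _
    have h3 := mul_self_nonneg (c χ)
    linarith
  rw [hcoef, mul_self_eq_zero.1 hz, Int.cast_zero]

end Cfsg.Agent.OddChar.P12
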