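/-
Families of characters over a nilpotent normal Hall subgroup with abelian inertia quotients (PF 12.2-12.4).
-/
import Cfsg.Agent.Lib.OddChar.P12Clifford
import Cfsg.Agent.Lib.OddChar.P12Pairs
import Cfsg.Agent.Lib.Char.Fixed
import Cfsg.Agent.Lib.Char.InducedSet

set_option autoImplicit false
set_option linter.style.haveILetI false
set_option linter.unusedSectionVars false

namespace Cfsg.Agent.OddChar.P12

open scoped ComplexConjugate Classical
open Cfsg.Agent.Char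

universe u v

variable {L : Type u} [Group L] [Fintype L] (H : Subgroup L)

/-- The irreducible characters that are not trivial on `H`. -/
def nonTriv : Set (L → ℂ) := {φ | Cfsg.IsIrrCharacter L φ ∧ ∃ h ∈ H, φ h ≠ φ 1}

/-- The element has a fixed point on `H`. -/
def HasFixed (x : L) : Prop := ∃ h ∈ H, h ≠ 1 ∧ x * h = h * x

/-- A normal Hall subgroup with abelian inertia quotients, in a group of odd order. -/
structure InertiaSetting : Prop where
  cop : (Nat.card H).Coprime H.index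
  odd : Odd (Nat.card L)
  abel : ∀ x y : L, HasFixed H x → HasFixed H y → x * y * x⁻¹ * y⁻¹ ∈ H

/-- The constituents over a character of `H`. -/
noncomputable def overSet (θ : H → ℂ) [Fintype H] : Finset (Cfsg.IrrCharacter L) :=
  Finset.univ.filter fun φ => Cfsg.classInner (fun h : H => (φ : L → ℂ) h) θ ≠ 0

theorem nonTriv_conj {φ : L → ℂ} (h : φ ∈ nonTriv H) : Cfsg.conjFun φ ∈ nonTriv H :=
  ⟨IsIrrCharacter.conj h.1, by
    obtain ⟨k, hk, hne⟩ := h.2
    exact ⟨k, hk, fun e => hne ((starRingEnd ℂ).injective e)⟩⟩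

theorem nonTriv_conj_ne (hodd : Odd (Nat.card L)) {φ : L → ℂ} (h : φ ∈ nonTriv H) : Cfsg.conjFun φ ≠ φ := by
  intro e
  obtain ⟨k, -, hne⟩ := h.2
  have := eq_one_of_real hodd h.1 fun g => congrFun e g
  rw [this] at hne
  exact hne rfl

variable [hH : H.Normal] [Fintype H] (S : InertiaSetting H)

/-- The elements with fixed points have commuting images in `L ⧸ H`. -/
theorem InertiaSetting.inertia_comm {θ : H → ℂ} (hθ : Cfsg.IsIrrCharacter H θ) (hθ1 : θ ≠ fun _ => 1)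
    (S : InertiaSetting H) : ∀ x ∈ inertia H θ, ∀ y ∈ inertia H θ, x * y * x⁻¹ * y⁻¹ ∈ H := by
  have key : ∀ g ∈ inertia H θ, ∃ a ∈ H, HasFixed H (a * g) := by
    intro g hg
    by_contra hno
    refine hθ1 (eq_one_of_fixed (conjHom H g) (map_one _) (fun χ hχ => isIrrCharacter_conjChar H hχ g)
      (fun k hk => ?_) hθ hg)
    by_contra hk1
    obtain ⟨x, hx⟩ := isConj_iff.mp hk
    have hx' : (x : L) * (g * k * g⁻¹) * (x : L)⁻¹ = k := congrArg Subtype.val hx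
    refine hno ⟨x, x.2, k, k.2, fun e => hk1 (Subtype.ext e), ?_⟩
    calc (x : L) * g * k = (x : L) * (g * k * g⁻¹) * (x : L)⁻¹ * ((x : L) * g) := by group
      _ = k * ((x : L) * g) := by rw [hx']
  intro x hx y hy
  obtain ⟨a, ha, hax⟩ := key x hx
  obtain ⟨b, hb, hby⟩ := key y hy
  have h1 := S.abel _ _ hax hby
  rw [← QuotientGroup.eq_one_iff] at h1 ⊢
  have e1 : ((a * x : L) : L ⧸ H) = (x : L ⧸ H) := by
    rw [QuotientGroup.mk_mul, (QuotientGroup.eq_one_iff a).2 ha, one_mul]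
  have e2 : ((b * y : L) : L ⧸ H) = (y : L ⧸ H) := by
    rw [QuotientGroup.mk_mul, (QuotientGroup.eq_one_iff b).2 hb, one_mul]
  simp only [QuotientGroup.mk_mul, QuotientGroup.mk_inv] at h1 e1 e2 ⊢
  rw [e1, e2] at h1
  exact h1

theorem mem_overSet {θ : H → ℂ} {φ : Cfsg.IrrCharacter L} :
    φ ∈ overSet H θ ↔ Cfsg.classInner (fun h : H => (φ : L → ℂ) h) θ ≠ 0 := by
  simp [overSet]

include S

theorem overSet_mult {θ : H → ℂ} (hθ : Cfsg.IsIrrCharacter H θ) (hθ1 : θ ≠ fun _ => 1) {φ : Cfsg.IrrCharacter L}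
    (h : φ ∈ overSet H θ) : Cfsg.classInner (fun k : H => (φ : L → ℂ) k) θ = 1 ∧
      (φ : L → ℂ) 1 = ((inertia H θ).index : ℂ) * θ 1 :=
  mult_one H S.cop hθ (S.inertia_comm H hθ hθ1) φ.2 ((mem_overSet H).1 h)

theorem overSet_sum {θ : H → ℂ} (hθ : Cfsg.IsIrrCharacter H θ) (hθ1 : θ ≠ fun _ => 1) :
    Cfsg.indFun H θ = ∑ φ ∈ overSet H θ, (φ : L → ℂ) := by
  have hθc := IsIrrCharacter.isCharacter hθ
  conv_lhs => rw [classFunction_eq_sum (isClassFunction_indFun H θ)]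
  have key : ∀ φ : Cfsg.IrrCharacter L, Cfsg.classInner (Cfsg.indFun H θ) φ =
      Cfsg.classInner (fun k : H => (φ : L → ℂ) k) θ := fun φ => by
    rw [classInner_indFun_left H θ (IsCharacter.isClassFunction (IsIrrCharacter.isCharacter φ.2)),
      classInner_comm_of_isCharacter hθc (IsCharacter.restrict (IsIrrCharacter.isCharacter φ.2) H)]
  rw [← Finset.sum_subset (Finset.subset_univ (overSet H θ)) fun φ _ hφ => by
    rw [key, not_not.1 (fun h => hφ ((mem_overSet H).2 h)), zero_smul]]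
  exact Finset.sum_congr rfl fun φ hφ => by rw [key, (overSet_mult H S hθ hθ1 hφ).1, one_smul]

theorem overSet_nonTriv {θ : H → ℂ} (hθ : Cfsg.IsIrrCharacter H θ) (hθ1 : θ ≠ fun _ => 1)
    {φ : Cfsg.IrrCharacter L} (h : φ ∈ overSet H θ) : (φ : L → ℂ) ∈ nonTriv H := by
  refine ⟨φ.2, ?_⟩
  by_contra hall
  push Not at hall
  refine (mem_overSet H).1 h ?_
  rw [show (fun k : H => (φ : L → ℂ) k) = (φ : L → ℂ) 1 • fun _ : H => (1 : ℂ) from
      funext fun k => by simp [hall k k.2], classInner_smul_left,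
    classInner_irr_of_ne isIrrCharacter_one hθ hθ1.symm, mul_zero]

/-- Two families with a common member give the same induced character. -/
theorem overSet_common {θ₁ θ₂ : H → ℂ} (h1 : Cfsg.IsIrrCharacter H θ₁) (h2 : Cfsg.IsIrrCharacter H θ₂)
    {φ : Cfsg.IrrCharacter L} (m1 : φ ∈ overSet H θ₁) (m2 : φ ∈ overSet H θ₂) :
    Cfsg.indFun H θ₂ = Cfsg.indFun H θ₁ := by
  obtain ⟨g, rfl⟩ := (mem_conjOrbit H).1
    (restrict_constituent_conj H φ.2 h1 h2 ((mem_overSet H).1 m1) ((mem_overSet H).1 m2))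
  exact indFun_conjChar H θ₁ g

theorem overSet_conj {θ : H → ℂ} {φ : Cfsg.IrrCharacter L} (m : φ ∈ overSet H θ) :
    (⟨Cfsg.conjFun (φ : L → ℂ), IsIrrCharacter.conj φ.2⟩ : Cfsg.IrrCharacter L) ∈ overSet H (Cfsg.conjFun θ) := by
  rw [mem_overSet] at m ⊢
  intro e
  refine m ((starRingEnd ℂ).injective ?_)
  rw [map_zero, ← e]
  simp [Cfsg.classInner, Cfsg.conjFun]

omit [Fintype H] in
theorem conjFun_irr_ne_one {θ : H → ℂ} (hθ1 : θ ≠ fun _ => 1) : Cfsg.conjFun θ ≠ fun _ => 1 := fun e =>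
  hθ1 (funext fun k => (starRingEnd ℂ).injective ((congrFun e k).trans (map_one _).symm))

/-- The conjugate of a non-principal character of `H` lies in another orbit. -/
theorem overSet_no_conj {θ : H → ℂ} (hθ : Cfsg.IsIrrCharacter H θ) (hθ1 : θ ≠ fun _ => 1)
    {φ φ' : Cfsg.IrrCharacter L} (m : φ ∈ overSet H θ) (m' : φ' ∈ overSet H θ) :
    (φ' : L → ℂ) ≠ Cfsg.conjFun (φ : L → ℂ) := by
  intro e
  have m2 := overSet_conj H S m
  rw [show (⟨Cfsg.conjFun (φ : L → ℂ), IsIrrCharacter.conj φ.2⟩ : Cfsg.IrrCharacter L) = φ' from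
    Subtype.ext e.symm] at m2
  obtain ⟨g, hg⟩ := (mem_conjOrbit H).1 (restrict_constituent_conj H φ'.2 hθ (IsIrrCharacter.conj hθ)
    ((mem_overSet H).1 m') ((mem_overSet H).1 m2))
  have h2 : g * g ∈ inertia H θ := by
    rw [mem_inertia, conjChar_mul, ← hg]
    funext k
    exact (congrArg conj (congrFun hg k).symm).trans (Complex.conj_conj (θ k))
  have hg' : g ∈ inertia H θ := by
    obtain ⟨n, hn⟩ := S.odd
    have : g = (g * g) ^ (n + 1) := by
      have h := pow_card_eq_one' (x := g)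
      rw [hn] at h
      rw [← pow_two, ← pow_mul, show 2 * (n + 1) = 2 * n + 1 + 1 by omega, pow_succ, h, one_mul]
    rw [this]
    exact Subgroup.pow_mem _ h2 _
  rw [(mem_inertia H).1 hg'] at hg
  exact hθ1 (eq_one_of_real (S.odd.of_dvd_nat (Subgroup.card_subgroup_dvd_card H)) hθ fun k => congrFun hg k)

section Inner

variable {G : Type v} [Group G] [Fintype G] {τ : (L → ℂ) → (G → ℂ)} (T : PairMap (nonTriv H) τ)
  (hadd : ∀ a b : L → ℂ, τ (a + b) = τ a + τ b) {χ : Cfsg.IrrCharacter G}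
  (hχ : ∀ φ ∈ nonTriv H, Cfsg.classInner (τ (φ - Cfsg.conjFun φ)) (χ : G → ℂ) = 0)
include T hadd hχ

/-- Members of one family. -/
theorem inner_family {θ : H → ℂ} (hθ : Cfsg.IsIrrCharacter H θ) (hθ1 : θ ≠ fun _ => 1)
    {φ φ' : Cfsg.IrrCharacter L} (m : φ ∈ overSet H θ) (m' : φ' ∈ overSet H θ) :
    Cfsg.classInner (τ ((φ : L → ℂ) - (φ' : L → ℂ))) (χ : G → ℂ) = 0 := by
  by_cases e : (φ : L → ℂ) = φ'
  · have h0 : τ 0 = 0 := by
      have := hadd 0 0
      rw [add_zero, eq_comm, add_eq_left] at this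
      exact this
    rw [e, sub_self, h0, classInner_zero_left]
  have hε : ∀ ψ ∈ ({(φ : L → ℂ), (φ' : L → ℂ)} : Finset (L → ℂ)),
      (if ψ = (φ : L → ℂ) then (1 : ℤ) else -1) * (if ψ = (φ : L → ℂ) then 1 else -1) = 1 := fun ψ _ => by
    split_ifs <;> norm_num
  have hsum : ∑ ψ ∈ ({(φ : L → ℂ), (φ' : L → ℂ)} : Finset (L → ℂ)),
      ((if ψ = (φ : L → ℂ) then (1 : ℤ) else -1 : ℤ) : ℂ) • ψ = (φ : L → ℂ) - φ' := by
    rw [Finset.sum_pair e, if_pos rfl, if_neg (Ne.symm e)]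
    simp [sub_eq_add_neg]
  rw [← hsum]
  refine T.inner_eq_zero hχ ?_ hε ?_ ?_
  · intro ψ hψ
    rw [Finset.coe_insert, Finset.coe_singleton, Set.mem_insert_iff, Set.mem_singleton_iff] at hψ
    rcases hψ with rfl | rfl
    exacts [overSet_nonTriv H S hθ hθ1 m, overSet_nonTriv H S hθ hθ1 m']
  · intro ψ hψ hψ'
    rw [Finset.mem_insert, Finset.mem_singleton] at hψ hψ'
    rcases hψ with rfl | rfl <;> rcases hψ' with h1 | h1
    exacts [overSet_no_conj H S hθ hθ1 m m h1.symm, overSet_no_conj H S hθ hθ1 m m' h1.symm,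
      overSet_no_conj H S hθ hθ1 m' m h1.symm, overSet_no_conj H S hθ hθ1 m' m' h1.symm]
  · rw [hsum, Pi.sub_apply, (overSet_mult H S hθ hθ1 m).2, (overSet_mult H S hθ hθ1 m').2, sub_self]

/-- Two families of equal degree. -/
theorem inner_induced {θ₁ θ₂ : H → ℂ} (h1 : Cfsg.IsIrrCharacter H θ₁) (h2 : Cfsg.IsIrrCharacter H θ₂)
    (n1 : θ₁ ≠ fun _ => 1) (n2 : θ₂ ≠ fun _ => 1) (hdeg : θ₁ 1 = θ₂ 1) :
    Cfsg.classInner (τ (Cfsg.indFun H θ₁ - Cfsg.indFun H θ₂)) (χ : G → ℂ) = 0 := by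
  have h0 : τ 0 = 0 := by
    have := hadd 0 0
    rw [add_zero, eq_comm, add_eq_left] at this
    exact this
  by_cases hsame : ∃ φ, φ ∈ overSet H θ₁ ∧ φ ∈ overSet H θ₂
  · obtain ⟨φ, m1, m2⟩ := hsame
    rw [overSet_common H S h1 h2 m1 m2, sub_self, h0, classInner_zero_left]
  push Not at hsame
  by_cases hconj : ∃ φ ∈ overSet H θ₁, ∃ φ' ∈ overSet H θ₂, (φ' : L → ℂ) = Cfsg.conjFun (φ : L → ℂ)
  · obtain ⟨φ, m1, φ', m2, e⟩ := hconj
    have m3 := overSet_conj H S m1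
    rw [show (⟨Cfsg.conjFun (φ : L → ℂ), IsIrrCharacter.conj φ.2⟩ : Cfsg.IrrCharacter L) = φ' from
      Subtype.ext e.symm] at m3
    rw [overSet_common H S (θ₁ := Cfsg.conjFun θ₁) (IsIrrCharacter.conj h1) h2 m3 m2, ← IndSet.conjFun_indFun H θ₁, overSet_sum H S h1 n1]
    have e2 : (∑ ψ ∈ overSet H θ₁, (ψ : L → ℂ)) - Cfsg.conjFun (∑ ψ ∈ overSet H θ₁, (ψ : L → ℂ)) =
        ∑ ψ ∈ overSet H θ₁, ((ψ : L → ℂ) - Cfsg.conjFun (ψ : L → ℂ)) := by
      rw [Finset.sum_sub_distrib]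
      congr 1
      funext l
      simp [Cfsg.conjFun, Finset.sum_apply]
    rw [e2]
    let τ' : (L → ℂ) →+ (G → ℂ) := AddMonoidHom.mk' τ hadd
    show Cfsg.classInner (τ' _) _ = 0
    rw [map_sum, classInner_sum_left]
    exact Finset.sum_eq_zero fun ψ hψ => hχ _ (overSet_nonTriv H S h1 n1 hψ)
  push Not at hconj
  set P := (overSet H θ₁).image (fun ψ : Cfsg.IrrCharacter L => (ψ : L → ℂ)) with hP
  set Q := (overSet H θ₂).image (fun ψ : Cfsg.IrrCharacter L => (ψ : L → ℂ)) with hQ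
  have hPQ : Disjoint P Q := Finset.disjoint_left.2 fun ψ hp hq => by
    obtain ⟨a, ha, rfl⟩ := Finset.mem_image.1 hp
    obtain ⟨b, hb, e⟩ := Finset.mem_image.1 hq
    exact hsame a ha (Subtype.ext e ▸ hb)
  have hs : ∀ θ : H → ℂ, ∑ ψ ∈ (overSet H θ).image (fun ψ : Cfsg.IrrCharacter L => (ψ : L → ℂ)), ψ = ∑ ψ ∈ overSet H θ, (ψ : L → ℂ) :=
    fun θ => Finset.sum_image fun a _ b _ e => Subtype.ext e
  have hsum : ∑ ψ ∈ P ∪ Q, ((if ψ ∈ P then (1 : ℤ) else -1 : ℤ) : ℂ) • ψ =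
      Cfsg.indFun H θ₁ - Cfsg.indFun H θ₂ := by
    rw [Finset.sum_union hPQ, Finset.sum_congr rfl fun ψ hψ => by rw [if_pos hψ, Int.cast_one, one_smul],
      Finset.sum_congr (s₁ := Q) (g := fun ψ => -ψ) rfl fun ψ hψ => by
        rw [if_neg (Finset.disjoint_right.1 hPQ hψ), Int.cast_neg, Int.cast_one, neg_one_smul],
      Finset.sum_neg_distrib, hP, hQ, hs, hs, ← overSet_sum H S h1 n1, ← overSet_sum H S h2 n2, sub_eq_add_neg]
  rw [← hsum]
  refine T.inner_eq_zero hχ ?_ (fun ψ _ => by split_ifs <;> norm_num) ?_ ?_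
  · intro ψ hψ
    rw [Finset.mem_coe, Finset.mem_union] at hψ
    rcases hψ with hψ | hψ <;> obtain ⟨a, ha, rfl⟩ := Finset.mem_image.1 hψ
    exacts [overSet_nonTriv H S h1 n1 ha, overSet_nonTriv H S h2 n2 ha]
  · intro ψ hψ hψ'
    rw [Finset.mem_union] at hψ hψ'
    rcases hψ with hψ | hψ <;> obtain ⟨a, ha, rfl⟩ := Finset.mem_image.1 hψ <;>
      rcases hψ' with hψ' | hψ' <;> obtain ⟨b, hb, e⟩ := Finset.mem_image.1 hψ'
    · exact overSet_no_conj H S h1 n1 ha hb e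
    · exact hconj a ha b hb e
    · exact hconj b hb a ha (by rw [e, Coherence.conjFun_conjFun])
    · exact overSet_no_conj H S h2 n2 ha hb e
  · rw [hsum, Pi.sub_apply, indFun_one_apply, indFun_one_apply, hdeg, sub_self]

end Inner

end Cfsg.Agent.OddChar.P12
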