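/-
The averaged function of PF 12.7 attached to a character orthogonal to the differences `τ (φ - conj φ)`.
-/
import Cfsg.Agent.Lib.OddChar.P12Family
import Cfsg.Agent.Lib.OddChar.P12Coh

set_option autoImplicit false
set_option linter.style.haveILetI false
set_option linter.unusedSectionVars false

namespace Cfsg.Agent.OddChar.P12

open scoped ComplexConjugate Classical
open Cfsg.Agent.Char

universe u

variable {G : Type u} [Group G] [Fintype G] {A : Set G} {L : Subgroup G} [Fintype L] {R : G → Subgroup G}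

/-- The average over the cosets `a R(a)`, extended by zero. -/
noncomputable def rho (A : Set G) (L : Subgroup G) (R : G → Subgroup G) (χ : G → ℂ) : L → ℂ := fun a =>
  if (a : G) ∈ A then (Nat.card (R (a : G)) : ℂ)⁻¹ * ∑ u ∈ Dade.fin (R (a : G)), χ ((a : G) * u) else 0

theorem rho_of_mem {χ : G → ℂ} {a : L} (ha : (a : G) ∈ A) :
    rho A L R χ a = (Nat.card (R (a : G)) : ℂ)⁻¹ * ∑ u ∈ Dade.fin (R (a : G)), χ ((a : G) * u) := if_pos ha

theorem rho_of_bot {χ : G → ℂ} {a : L} (ha : (a : G) ∈ A) (hR : R (a : G) = ⊥) :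
    rho A L R χ a = χ (a : G) := by
  rw [rho_of_mem ha, hR, show Dade.fin (⊥ : Subgroup G) = {1} by ext x; simp, Finset.sum_singleton,
    Subgroup.card_bot, Nat.cast_one, inv_one, one_mul, mul_one]

variable (hD : Cfsg.DadeHypothesis A L R)
include hD

theorem rho_isClassFunction {χ : G → ℂ} (hχ : Cfsg.IsClassFunction G χ) :
    Cfsg.IsClassFunction L (rho A L R χ) := by
  intro a y
  by_cases ha : (a : G) ∈ A
  · have ha' : ((y * a * y⁻¹ : L) : G) ∈ A := hD.conj_mem _ y.2 _ ha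
    rw [rho_of_mem ha, rho_of_mem ha']
    have hm := Dade.map_conj_H hD ha y.2
    simp only [Subgroup.coe_mul, Subgroup.coe_inv]
    rw [hm, Subgroup.card_map_of_injective (MulAut.conj (y : G)).injective]
    congr 1
    refine (Finset.sum_nbij (fun u => (y : G) * u * (y : G)⁻¹) ?_ ?_ ?_ ?_).symm
    · intro u hu
      rw [Dade.mem_fin] at hu ⊢
      exact ⟨u, hu, rfl⟩
    · intro u _ v _ e
      simpa using e
    · intro v hv
      rw [Finset.mem_coe, Dade.mem_fin] at hv
      obtain ⟨u, hu, rfl⟩ := hv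
      exact ⟨u, by simpa using hu, rfl⟩
    · intro u _
      rw [← hχ ((a : G) * u) (y : G)]
      congr 1
      group
  · have ha' : ((y * a * y⁻¹ : L) : G) ∉ A := fun h => ha (by
      simpa [mul_assoc] using hD.conj_mem _ (L.inv_mem y.2) _ h)
    simp only [rho, if_neg ha, if_neg ha']

theorem inner_rho {α : L → ℂ} (hα : Cfsg.IsClassFunction L α) (hαA : ∀ x : L, (x : G) ∉ A → α x = 0)
    {χ : G → ℂ} (hχ : Cfsg.IsClassFunction G χ) :
    Cfsg.classInner (Cfsg.dadeIsometry A L R α) χ = Cfsg.classInner α (rho A L R χ) :=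
  Dade.classInner_dade_avg hD hα hαA hχ fun _ ha => rho_of_mem ha

variable (H : Subgroup L) [H.Normal] [Fintype H] (S : InertiaSetting H)
  (hsupp : ∀ φ ∈ nonTriv H, ∀ x : L, x ≠ 1 → (x : G) ∉ A → φ x = 0)
include S hsupp

omit [H.Normal] [Fintype H] S in
theorem span_supp {α : L → ℂ} (hα : α ∈ Cfsg.zspanOn (nonTriv H) ({1}ᶜ : Set L)) {x : L} (hx : (x : G) ∉ A) :
    α x = 0 := by
  obtain ⟨h1, h2⟩ := Coherence.mem_zspanOn_one.1 hα
  by_cases hx1 : x = 1
  · rw [hx1]; exact h2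
  clear hα h2
  induction h1 using Submodule.span_induction with
  | mem φ hφ => exact hsupp φ hφ x hx1 hx
  | zero => rfl
  | add a b _ _ ha hb => rw [Pi.add_apply, ha, hb, add_zero]
  | smul n a _ ha => rw [Pi.smul_apply, ha, smul_zero]

theorem pairMap : PairMap (nonTriv H) (Cfsg.dadeIsometry A L R) where
  irr _ hφ := hφ.1
  conj_mem _ hφ := nonTriv_conj H hφ
  conj_ne _ hφ := nonTriv_conj_ne H S.odd hφ
  iso := dade_isometry_on hD
    (fun _ hα => Coherence.zspan_gen (fun _ hφ => Coherence.irr_gen hφ.1) hα.1)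
    fun _ hα _ hx => span_supp hD H hsupp hα hx
  map_one α _ := dade_one hD α

variable {χ : Cfsg.IrrCharacter G}
  (hχ : ∀ φ ∈ nonTriv H, Cfsg.classInner (Cfsg.dadeIsometry A L R (φ - Cfsg.conjFun φ)) (χ : G → ℂ) = 0)
include hχ

/-- The average is constant on the cosets of `H` outside `H`. -/
theorem rho_coset {g : L} (hg : g ∉ H) {h : L} (hh : h ∈ H) :
    rho A L R (χ : G → ℂ) (g * h) = rho A L R (χ : G → ℂ) g := by
  have hχc := IsCharacter.isClassFunction (IsIrrCharacter.isCharacter χ.2)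
  refine coset_const H (rho_isClassFunction hD hχc) (fun θ hθ φ φ' m m' => ?_) hg hh
  have hθ1 : (θ : H → ℂ) ≠ fun _ => 1 := fun e => hθ (Subtype.ext e)
  have m1 := (mem_overSet H (θ := (θ : H → ℂ))).2 m
  have m2 := (mem_overSet H (θ := (θ : H → ℂ))).2 m'
  have hdeg : (φ : L → ℂ) 1 = (φ' : L → ℂ) 1 := by
    rw [(overSet_mult H S θ.2 hθ1 m1).2, (overSet_mult H S θ.2 hθ1 m2).2]
  refine ⟨?_, hdeg⟩
  have hspan : (φ : L → ℂ) - φ' ∈ Cfsg.zspanOn (nonTriv H) ({1}ᶜ : Set L) :=
    Coherence.mem_zspanOn_one.mpr ⟨Submodule.sub_mem _ (Submodule.subset_span (overSet_nonTriv H S θ.2 hθ1 m1))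
      (Submodule.subset_span (overSet_nonTriv H S θ.2 hθ1 m2)), by rw [Pi.sub_apply, hdeg, sub_self]⟩
  have h0 := inner_family H S (pairMap hD H S hsupp) (fun a b => dade_add a b) hχ θ.2 hθ1 m1 m2
  rw [inner_rho hD (fun a b => by
      simp only [Pi.sub_apply, IsCharacter.isClassFunction (IsIrrCharacter.isCharacter φ.2) a b,
        IsCharacter.isClassFunction (IsIrrCharacter.isCharacter φ'.2) a b])
    (fun x hx => span_supp hD H hsupp hspan hx) hχc, classInner_sub_left, sub_eq_zero] at h0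
  rw [← classInner_conj_symm (φ : L → ℂ), ← classInner_conj_symm (φ' : L → ℂ), h0]

/-- The average is constant on `H` outside its derived group. -/
theorem rho_derived : ∃ d : ℂ, ∀ y : H, y ∉ commutator H → rho A L R (χ : G → ℂ) (y : L) = d := by
  have hχc := IsCharacter.isClassFunction (IsIrrCharacter.isCharacter χ.2)
  have hFc := rho_isClassFunction hD hχc
  set F := rho A L R (χ : G → ℂ) with hF
  set f : H → ℂ := fun k => F (k : L) with hf
  have hfc : Cfsg.IsClassFunction H f := fun a b => hFc (a : L) (b : L)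
  have key : ∀ θ₁ θ₂ : Cfsg.IrrCharacter H, θ₁ ≠ principal H → θ₂ ≠ principal H →
      Cfsg.charDegree (θ₁ : H → ℂ) = Cfsg.charDegree (θ₂ : H → ℂ) →
      Cfsg.classInner f θ₁ = Cfsg.classInner f θ₂ := by
    intro θ₁ θ₂ n1 n2 hd
    have n1' : (θ₁ : H → ℂ) ≠ fun _ => 1 := fun e => n1 (Subtype.ext e)
    have n2' : (θ₂ : H → ℂ) ≠ fun _ => 1 := fun e => n2 (Subtype.ext e)
    have hdeg : (θ₁ : H → ℂ) 1 = (θ₂ : H → ℂ) 1 := by rw [CharX.irr_deg, CharX.irr_deg, hd]
    have hspan : Cfsg.indFun H (θ₁ : H → ℂ) - Cfsg.indFun H (θ₂ : H → ℂ) ∈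
        Cfsg.zspanOn (nonTriv H) ({1}ᶜ : Set L) := by
      refine Coherence.mem_zspanOn_one.mpr ⟨?_, by rw [Pi.sub_apply, indFun_one_apply, indFun_one_apply, hdeg, sub_self]⟩
      rw [overSet_sum H S θ₁.2 n1', overSet_sum H S θ₂.2 n2']
      exact Submodule.sub_mem _ (Submodule.sum_mem _ fun ψ hψ => Submodule.subset_span (overSet_nonTriv H S θ₁.2 n1' hψ))
        (Submodule.sum_mem _ fun ψ hψ => Submodule.subset_span (overSet_nonTriv H S θ₂.2 n2' hψ))
    have h0 := inner_induced H S (pairMap hD H S hsupp) (fun a b => dade_add a b) hχ θ₁.2 θ₂.2 n1' n2' hdeg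
    rw [inner_rho hD (fun a b => by
        simp only [Pi.sub_apply, isClassFunction_indFun H (θ₁ : H → ℂ) a b, isClassFunction_indFun H (θ₂ : H → ℂ) a b])
      (fun x hx => span_supp hD H hsupp hspan hx) hχc, classInner_sub_left, sub_eq_zero,
      classInner_indFun_left H _ hFc, classInner_indFun_left H _ hFc] at h0
    rw [← classInner_conj_symm (θ₁ : H → ℂ), ← classInner_conj_symm (θ₂ : H → ℂ), h0]
  let w : ℕ → ℂ := fun n =>
    if h : ∃ θ : Cfsg.IrrCharacter H, θ ≠ principal H ∧ Cfsg.charDegree (θ : H → ℂ) = n then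
      Cfsg.classInner f h.choose else 0
  refine ⟨Cfsg.classInner f (fun _ => 1) - w 1, fun y hy => const_off_derived hfc w (fun θ hθ => ?_) hy⟩
  have hex : ∃ θ' : Cfsg.IrrCharacter H, θ' ≠ principal H ∧
      Cfsg.charDegree (θ' : H → ℂ) = Cfsg.charDegree (θ : H → ℂ) := ⟨θ, hθ, rfl⟩
  simp only [w, dif_pos hex]
  exact key θ hex.choose hθ hex.choose_spec.1 hex.choose_spec.2.symm

end Cfsg.Agent.OddChar.P12
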