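/-
PF 12.7, the side of the Frobenius maximal subgroup: a character of the group attached to an induced
linear character of the kernel.
-/
import Cfsg.Agent.Lib.OddChar.P12TypeOne
import Cfsg.Agent.Lib.OddChar.P12Rho
import Cfsg.Agent.Lib.OddChar.P12Clifford
import Cfsg.Agent.Lib.Char.InducedSet
import Cfsg.Agent.S1500

set_option autoImplicit false
set_option linter.style.haveILetI false
set_option linter.unusedSectionVars false

namespace Cfsg.Agent.OddChar.P12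

open scoped ComplexConjugate Classical
open Cfsg.Agent.Char

universe u

theorem card_abelianisation_congr {X Y : Type u} [Group X] [Group Y] (e : X ≃* Y) :
    (commutator X).index = (commutator Y).index := by
  rw [Subgroup.index_eq_card, Subgroup.index_eq_card]
  exact Nat.card_congr e.abelianizationCongr.toEquiv

theorem rho_smul {G : Type u} [Group G] [Fintype G] (A : Set G) (L : Subgroup G) [Fintype L]
    (R : G → Subgroup G) (r : ℂ) (f : G → ℂ) (x : L) :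
    rho A L R (r • f) x = r * rho A L R f x := by
  by_cases hx : (x : G) ∈ A
  · rw [rho_of_mem hx, rho_of_mem hx]
    simp only [Pi.smul_apply, smul_eq_mul, ← Finset.mul_sum]
    ring
  · simp only [rho, if_neg hx, mul_zero]

variable {G : Type u} [Group G] [Fintype G]

/-- The character of `G` belonging to an induced linear character of the kernel (PF 12.7). -/
theorem exists_frob_character (hG : Cfsg.IsMinSimpleOddOrder G) {M : Subgroup G} [Fintype M] (F : FrobOne M)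
    (hbig : (Cfsg.fittingHall M).index * ((Cfsg.fittingHall M).index + 2) + 1 <
      (commutator (Cfsg.fittingHallOf M)).index) :
    ∃ (χ : Cfsg.IrrCharacter G) (ζ : M → ℂ) (s : ℤ), s * s = 1 ∧ Cfsg.IsIrrCharacter M ζ ∧
      ζ 1 = ((Cfsg.fittingHall M).index : ℂ) ∧
      (∀ x : M, x ∉ Cfsg.fittingHall M → ζ x = 0) ∧
      (∀ x : M, (x : G) ∈ Cfsg.typeA M →
        rho (Cfsg.typeA M) M (Cfsg.supportR M) (χ : G → ℂ) x = (s : ℂ) * ζ x) ∧
      (∀ δ : G → ℂ, Cfsg.IsGeneralizedCharacter G δ → Cfsg.classInner δ δ = 2 →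
        (∀ α ∈ Cfsg.zspanOn (Cfsg.inducedIrrAbove (Cfsg.fittingHall M) ⊥) ({1}ᶜ : Set M),
          Cfsg.classInner (Cfsg.dadeIsometry (Cfsg.typeA M) M (Cfsg.supportR M) α) δ = 0) →
        Cfsg.classInner δ (χ : G → ℂ) = 0) := by
  have hF := kernel_frob hG F
  have hD := dade_hyp hG F
  obtain ⟨-, τ₁, hτ₁', hag⟩ := coherent hG F
  set K := Cfsg.fittingHall M with hK
  haveI : Fintype K := Fintype.ofFinite K
  set τ := Cfsg.dadeIsometry (Cfsg.typeA M) M (Cfsg.supportR M) with hτdef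
  set S := Cfsg.inducedIrrAbove K ⊥ with hS
  have hτ₁ : Cfsg.IsLinearIsometryOn (↑(Submodule.span ℤ S) : Set (M → ℂ)) τ₁ := hτ₁'
  have hA : ∀ x : M, (x : G) ∈ Cfsg.typeA M ↔ x ∈ K ∧ x ≠ 1 := fun x => by
    rw [mem_typeA_iff hG F, hK, fitting_eq_subgroupOf, Subgroup.mem_subgroupOf]
    simp
  -- the family of induced linear characters
  set e := K.index with he
  have he0 : 0 < e := Nat.pos_of_ne_zero Subgroup.index_ne_zero_of_finite
  set Z := (IndSet.over K ⁅K, K⁆).image (fun θ : Cfsg.IrrCharacter K => Cfsg.indFun K (θ : K → ℂ))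
    with hZdef
  have hind : ∀ φ ∈ Cfsg.inducedIrrAbove K ⁅K, K⁆, ∃ θ : K → ℂ, Cfsg.IsIrrCharacter K θ ∧
      θ ≠ (fun _ => 1) ∧ θ 1 = 1 ∧ φ = Cfsg.indFun K θ := by
    rintro φ ⟨θ, hθ, hθ1, hθK, rfl⟩
    exact ⟨θ, hθ, hθ1, degree_one_of_commutators hθ fun a b =>
      hθK _ (Subgroup.commutator_mem_commutator a.2 b.2), rfl⟩
  have hZ : ∀ φ ∈ Z, φ ∈ Cfsg.inducedIrrAbove K ⁅K, K⁆ := fun φ hφ => by
    obtain ⟨θ, hθ, rfl⟩ := Finset.mem_image.1 hφ
    exact (IndSet.mem_above_iff_exists K).2 ⟨θ, hθ, rfl⟩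
  have hZS : ∀ φ ∈ Z, φ ∈ S := fun φ hφ => IndSet.above_subset_bot K _ (hZ φ hφ)
  have hZirr : ∀ φ ∈ Z, Cfsg.IsIrrCharacter M φ := fun φ hφ => Feit.above_irr K hF (hZS φ hφ)
  have hdeg : ∀ φ ∈ Cfsg.inducedIrrAbove K ⁅K, K⁆, φ 1 = (e : ℂ) := fun φ hφ => by
    obtain ⟨θ, -, -, h1, rfl⟩ := hind φ hφ
    rw [indFun_one_apply, h1, mul_one]
  have hm : e + 3 ≤ Z.card := by
    have h := IndSet.sum_above K ⁅K, K⁆ (fun _ => e) (fun _ => 1) hdeg fun φ hφ => by
      rw [classInner_self_irr (Feit.above_irr K hF (IndSet.above_subset_bot K _ hφ)), Nat.cast_one]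
    rw [← hZdef, Finset.sum_const, nsmul_eq_mul, Nat.cast_one, div_one] at h
    have he' : (e : ℝ) ≠ 0 := Nat.cast_ne_zero.2 he0.ne'
    have h2 : (Z.card : ℝ) * e + 1 = ((⁅K, K⁆).relIndex K : ℝ) := by
      have := mul_left_cancel₀ he' (show (e : ℝ) * ((Z.card : ℝ) * e) = e * (((⁅K, K⁆).relIndex K : ℝ) - 1) by
        rw [← h]; ring)
      rw [this]; ring
    have h3 : Z.card * e + 1 = (⁅K, K⁆).relIndex K := by exact_mod_cast h2
    rw [← Feit.commutator_index K] at h3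
    have h4 : (commutator K).index = (commutator (Cfsg.fittingHallOf M)).index :=
      card_abelianisation_congr (Subgroup.equivMapOfInjective K M.subtype M.subtype_injective)
    have h5 : e * (e + 2) < e * Z.card := by
      rw [mul_comm e Z.card]; omega
    have := Nat.lt_of_mul_lt_mul_left h5
    omega
  obtain ⟨ζ, hζ⟩ := Finset.card_pos.1 (show 0 < Z.card by omega)
  have hmem : ∀ φ ∈ Z, φ ∈ Submodule.span ℤ S := fun φ hφ => Submodule.subset_span (hZS φ hφ)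
  have hdiff : ∀ φ ∈ Z, φ - ζ ∈ Cfsg.zspanOn S ({1}ᶜ : Set M) := fun φ hφ =>
    Coherence.mem_zspanOn_one.2 ⟨Submodule.sub_mem _ (hmem φ hφ) (hmem ζ hζ), by
      rw [Pi.sub_apply, hdeg φ (hZ φ hφ), hdeg ζ (hZ ζ hζ), sub_self]⟩
  have hτdiff : ∀ φ ∈ Z, τ₁ φ = τ₁ ζ + τ (φ - ζ) := fun φ hφ => by
    rw [← hag _ (hdiff φ hφ), Coherence.iso_sub hτ₁ (hmem φ hφ) (hmem ζ hζ)]
    abel
  have horth : ∀ φ ∈ Z, ∀ φ' ∈ Z, φ ≠ φ' → Cfsg.classInner (τ₁ φ) (τ₁ φ') = 0 := fun φ hφ φ' hφ' hne => by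
    rw [Coherence.iso_inner hτ₁ (hmem φ hφ) (hmem φ' hφ'), classInner_irr_of_ne (hZirr φ hφ) (hZirr φ' hφ') hne]
  have hnorm : ∀ φ ∈ Z, Cfsg.classInner (τ₁ φ) (τ₁ φ) = ((1 : ℝ) : ℂ) := fun φ hφ => by
    rw [Coherence.iso_inner hτ₁ (hmem φ hφ) (hmem φ hφ), classInner_self_irr (hZirr φ hφ), Complex.ofReal_one]
  set ψ := τ₁ ζ with hψdef
  have hψgen : Cfsg.IsGeneralizedCharacter G ψ := Coherence.iso_gen hτ₁ (hmem ζ hζ)
  obtain ⟨χ, s, hs, hψ⟩ : ∃ (χ : Cfsg.IrrCharacter G) (s : ℤ), s * s = 1 ∧ ψ = (s : ℂ) • (χ : G → ℂ) := by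
    rcases IsGeneralizedCharacter.of_norm_one hψgen (by rw [hψdef, hnorm ζ hζ, Complex.ofReal_one]) with h | h
    · exact ⟨⟨ψ, h⟩, 1, rfl, by simp⟩
    · exact ⟨⟨-ψ, h⟩, -1, rfl, by simp⟩
  have hs0 : (s : ℂ) ≠ 0 := Int.cast_ne_zero.2 fun h => by simp [h] at hs
  have hζK : ∀ x : M, x ∉ K → ζ x = 0 := fun x hx => by
    obtain ⟨θ, -, -, -, hθ⟩ := hind ζ (hZ ζ hζ)
    rw [hθ, indFun_eq_zero_of_not_mem K θ hx]
  refine ⟨χ, ζ, s, hs, hZirr ζ hζ, hdeg ζ (hZ ζ hζ), hζK, ?_, ?_⟩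
  swap
  · -- orthogonality to elements of norm two
    intro δ hδ hδ2 hδo
    obtain ⟨n, hn⟩ := IsGeneralizedCharacter.exists_classInner_int hδ hψgen
    have hb : ∀ φ ∈ Z, Cfsg.classInner δ (τ₁ φ) = ((n : ℝ) : ℂ) := fun φ hφ => by
      rw [hτdiff φ hφ, classInner_add_right, hn,
        ← classInner_conj_symm (τ (φ - ζ)) δ, hδo _ (hdiff φ hφ), map_zero, add_zero, Complex.ofReal_intCast]
    have hB := (Coherence.bessel Z τ₁ (fun _ => 1) (fun _ => (n : ℝ)) (fun _ _ => one_pos) horth hnorm hb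
      (N := 2) (by rw [hδ2]; norm_num)).1
    rw [Finset.sum_const, nsmul_eq_mul, div_one] at hB
    have hn0 : n = 0 := by
      by_contra h
      have h1 : (1 : ℝ) ≤ (n : ℝ) ^ 2 := by
        have h1' : (1 : ℤ) ≤ n ^ 2 := sq_pos_of_ne_zero h
        exact_mod_cast h1'
      have h2 : (3 : ℝ) ≤ Z.card := by
        have : 3 ≤ Z.card := by omega
        exact_mod_cast this
      nlinarith
    rw [hψ, classInner_smul_right, hn0, Int.cast_zero] at hn
    exact (mul_eq_zero.1 hn).resolve_left (by simpa using hs0)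
  -- the averaged function
  set P := rho (Cfsg.typeA M) M (Cfsg.supportR M) ψ with hP
  suffices hPζ : ∀ x : M, (x : G) ∈ Cfsg.typeA M → P x = ζ x by
    intro x hx
    have h := hPζ x hx
    rw [hP, hψ, rho_smul] at h
    rw [← h, ← mul_assoc, ← Int.cast_mul, hs, Int.cast_one, one_mul]
  have hψc : Cfsg.IsClassFunction G ψ := IsGeneralizedCharacter.isClassFunction hψgen
  have hPc : Cfsg.IsClassFunction M P := rho_isClassFunction hD hψc
  have hζc : Cfsg.IsClassFunction M ζ :=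
    IsCharacter.isClassFunction (IsIrrCharacter.isCharacter (hZirr ζ hζ))
  -- adjunction
  have hadj : ∀ α ∈ Cfsg.zspanOn S ({1}ᶜ : Set M), Cfsg.classInner α P = Cfsg.classInner α ζ := fun α hα => by
    rw [hP, ← inner_rho hD (IsGeneralizedCharacter.isClassFunction
        (Coherence.zspan_gen (fun _ hφ => above_gen K hφ) hα.1))
      (fun x hx => supp_of_span hG F hα x hx) hψc, ← hτdef, ← hag α hα, hψdef,
      Coherence.iso_inner hτ₁ hα.1 (hmem ζ hζ)]
  set Φ : M → ℂ := P - ζ with hΦ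
  have hΦc : Cfsg.IsClassFunction M Φ := fun a b => by simp only [hΦ, Pi.sub_apply, hPc a b, hζc a b]
  obtain ⟨c, hc⟩ : ∃ c : ℂ, ∀ y : K, y ≠ 1 → Φ y = c := by
    refine ⟨_, fun y hy => const_off_one (f := fun k : K => Φ k) (fun a b => hΦc a b)
      (Cfsg.classInner Φ ζ) (fun θ hθ => ?_) hy⟩
    have hθ1 : (θ : K → ℂ) ≠ fun _ => 1 := fun h => hθ (Subtype.ext h)
    obtain ⟨d, hd⟩ : ∃ d : ℕ, (θ : K → ℂ) 1 = d := ⟨_, CharX.irr_deg θ⟩
    have hφS : Cfsg.indFun K (θ : K → ℂ) ∈ S :=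
      ⟨θ, θ.2, hθ1, fun a ha => by rw [show a = 1 from Subtype.ext ha], rfl⟩
    have hα : Cfsg.indFun K (θ : K → ℂ) - (d : ℂ) • ζ ∈ Cfsg.zspanOn S ({1}ᶜ : Set M) := by
      refine Coherence.mem_zspanOn_one.2 ⟨Submodule.sub_mem _ (Submodule.subset_span hφS) ?_, ?_⟩
      · rw [Nat.cast_smul_eq_nsmul]
        exact Submodule.smul_of_tower_mem _ d (hmem ζ hζ)
      · rw [Pi.sub_apply, Pi.smul_apply, indFun_one_apply, hd, hdeg ζ (hZ ζ hζ), smul_eq_mul, mul_comm, sub_self]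
    have h1 := hadj _ hα
    have h2 : Cfsg.classInner (Cfsg.indFun K (θ : K → ℂ)) Φ = (d : ℂ) * Cfsg.classInner ζ Φ := by
      rw [classInner_sub_left, classInner_sub_left, classInner_smul_left, classInner_smul_left] at h1
      rw [hΦ, classInner_sub_right, classInner_sub_right]
      linear_combination h1
    rw [classInner_indFun_left K _ hΦc] at h2
    rw [← classInner_conj_symm, h2, map_mul, map_natCast, classInner_conj_symm, hd, mul_comm]
  suffices hc0 : c = 0 by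
    intro x hx
    obtain ⟨hxK, hx1⟩ := (hA x).1 hx
    have h := hc ⟨x, hxK⟩ fun h => hx1 (congrArg Subtype.val h)
    rw [hc0, hΦ, Pi.sub_apply, sub_eq_zero] at h
    exact h
  -- the function `1^M - ζ`
  set ι := Cfsg.indFun K (fun _ : K => (1 : ℂ)) with hι
  have hιc : Cfsg.IsCharacter M ι := isCharacter_indFun K isCharacter_one
  have hιι : Cfsg.classInner ι ι = (e : ℂ) := by
    rw [hι, classInner_indFun_normal K isIrrCharacter_one isIrrCharacter_one,
      Nat.card_congr (Equiv.subtypeUnivEquiv fun g : M => IndSet.conjChar_const K g),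
      ← Subgroup.card_mul_index K, ← he, Nat.cast_mul, inv_mul_cancel_left₀ (Nat.cast_ne_zero.2 Nat.card_pos.ne')]
  have hιφ : ∀ φ ∈ Z, Cfsg.classInner ι φ = 0 := fun φ hφ => by
    obtain ⟨θ, hθ, hθ1, -, rfl⟩ := hind φ (hZ φ hφ)
    haveI : IsEmpty {g : M // conjChar K g (fun _ : K => (1 : ℂ)) = θ} :=
      ⟨fun g => hθ1 (g.2.symm.trans (IndSet.conjChar_const K g.1))⟩
    rw [hι, classInner_indFun_normal K isIrrCharacter_one hθ,
      show Nat.card {g : M // conjChar K g (fun _ : K => (1 : ℂ)) = θ} = 0 from Nat.card_of_isEmpty,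
      Nat.cast_zero, mul_zero]
  set α₀ := ι - ζ with hα₀
  have hα₀gen : Cfsg.IsGeneralizedCharacter M α₀ :=
    ⟨ι, ζ, hιc, IsIrrCharacter.isCharacter (hZirr ζ hζ), rfl⟩
  have hα₀c := IsGeneralizedCharacter.isClassFunction hα₀gen
  have hα₀supp : ∀ x : M, (x : G) ∉ Cfsg.typeA M → α₀ x = 0 := fun x hx => by
    by_cases hxK : x ∈ K
    · have hx1 : x = 1 := by_contra fun h => hx ((hA x).2 ⟨hxK, h⟩)
      rw [hx1, hα₀, Pi.sub_apply, hι, indFun_one_apply, hdeg ζ (hZ ζ hζ), mul_one, ← he, sub_self]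
    · rw [hα₀, Pi.sub_apply, hι, indFun_eq_zero_of_not_mem K _ hxK, hζK x hxK, sub_self]
  have hα₀φ : ∀ φ ∈ Z, Cfsg.classInner α₀ φ = if φ = ζ then -1 else 0 := fun φ hφ => by
    rw [hα₀, classInner_sub_left, hιφ φ hφ, classInner_irr (hZirr ζ hζ) (hZirr φ hφ), zero_sub]
    split_ifs with h1 h2 h2 <;> first | exact absurd h1.symm h2 | exact absurd h2.symm h1 | simp
  have hα₀one : Cfsg.classInner α₀ (fun _ => 1) = 1 := by
    obtain ⟨θ, hθ, hθ1, -, hζθ⟩ := hind ζ (hZ ζ hζ)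
    have h1 : Cfsg.IsClassFunction M (fun _ => (1 : ℂ)) := fun _ _ => rfl
    rw [hα₀, classInner_sub_left, hι, hζθ, classInner_indFun_left K _ h1, classInner_indFun_left K _ h1,
      classInner_self_irr isIrrCharacter_one, classInner_irr_of_ne hθ isIrrCharacter_one hθ1, sub_zero]
  have hα₀P : Cfsg.classInner α₀ P = -1 + conj c := by
    have h : Cfsg.classInner α₀ P = Cfsg.classInner α₀ (ζ + c • fun _ => (1 : ℂ)) := by
      simp only [Cfsg.classInner]
      congr 1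
      refine Finset.sum_congr rfl fun x _ => ?_
      by_cases hx : (x : G) ∈ Cfsg.typeA M
      · obtain ⟨hxK, hx1⟩ := (hA x).1 hx
        have h := hc ⟨x, hxK⟩ fun h => hx1 (congrArg Subtype.val h)
        rw [hΦ, Pi.sub_apply, sub_eq_iff_eq_add'] at h
        have h' : P x = ζ x + c := h
        rw [h']
        simp
      · rw [hα₀supp x hx, zero_mul, zero_mul]
    rw [h, classInner_add_right, classInner_smul_right, hα₀φ ζ hζ, if_pos rfl, hα₀one, mul_one]
  -- its image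
  have hτgen : Cfsg.IsGeneralizedCharacter G (τ α₀) := Dade.isGeneralizedCharacter_dade hD hα₀gen hα₀supp
  have hinner := S1500.result (Cfsg.typeA M) M (Cfsg.supportR M) hD α₀ hα₀c hα₀supp
  have hτψ : Cfsg.classInner (τ α₀) ψ = -1 + conj c := by
    rw [← hα₀P, hP, ← inner_rho hD hα₀c hα₀supp hψc]
  obtain ⟨q, hq⟩ := IsGeneralizedCharacter.exists_classInner_int hτgen hψgen
  rw [hτψ] at hq
  have hcq : conj c = ((q + 1 : ℤ) : ℂ) := by push_cast; linear_combination hq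
  have hb : ∀ φ ∈ Z, Cfsg.classInner (τ α₀) (τ₁ φ) =
      ((((q + 1 : ℤ) : ℝ) - if φ = ζ then 1 else 0 : ℝ) : ℂ) := fun φ hφ => by
    have hsub : Cfsg.classInner (τ α₀) (τ (φ - ζ)) = Cfsg.classInner α₀ (φ - ζ) := by
      refine hinner.1 _ (IsGeneralizedCharacter.isClassFunction ?_) fun x hx => supp_of_span hG F (hdiff φ hφ) x hx
      exact Coherence.zspan_gen (fun _ h => above_gen K h) (hdiff φ hφ).1
    rw [hτdiff φ hφ, classInner_add_right, hτψ, hsub, classInner_sub_right, hα₀φ φ hφ, hα₀φ ζ hζ, if_pos rfl, hcq]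
    split_ifs <;> · push_cast; ring
  have hN : Cfsg.classInner (τ α₀) (τ α₀) = (((e : ℝ) + 1 : ℝ) : ℂ) := by
    have h1 : Cfsg.classInner ζ ι = 0 := by rw [← classInner_conj_symm, hιφ ζ hζ, map_zero]
    rw [hinner.1 α₀ hα₀c hα₀supp, hα₀, classInner_sub_left, classInner_sub_right, classInner_sub_right, hιι,
      hιφ ζ hζ, h1, classInner_self_irr (hZirr ζ hζ)]
    push_cast; ring
  have hB := (Coherence.bessel Z τ₁ (fun _ => 1) _ (fun _ _ => one_pos) horth hnorm hb hN).1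
  simp only [div_one] at hB
  rw [← Finset.add_sum_erase Z _ hζ, if_pos rfl,
    Finset.sum_congr rfl (fun φ hφ => by rw [if_neg (Finset.ne_of_mem_erase hφ), sub_zero]),
    Finset.sum_const, nsmul_eq_mul] at hB
  have hq0 : q + 1 = 0 := by
    by_contra h
    have h1 : (1 : ℝ) ≤ ((q + 1 : ℤ) : ℝ) ^ 2 := by
      have h1' : (1 : ℤ) ≤ (q + 1) ^ 2 := sq_pos_of_ne_zero h
      exact_mod_cast h1'
    have h2 : (e : ℝ) + 2 ≤ ((Z.erase ζ).card : ℝ) := by
      have : e + 2 ≤ (Z.erase ζ).card := by rw [Finset.card_erase_of_mem hζ]; omega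
      exact_mod_cast this
    nlinarith [sq_nonneg (((q + 1 : ℤ) : ℝ) - 1)]
  rw [hq0, Int.cast_zero] at hcq
  simpa using hcq

end Cfsg.Agent.OddChar.P12
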