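/-
PF 12.7: the configuration attached to a maximal subgroup of Type I that is not a Frobenius group.
-/
import Cfsg.Agent.Lib.OddChar.P12TypeOne
import Cfsg.Agent.Lib.OddChar.Iface
import Cfsg.Agent.Lib.OddOrder.TauTwo
import Cfsg.Agent.Lib.OddOrder.SigmaCover
import Cfsg.Agent.Lib.OddOrder.Types
import Cfsg.Agent.Lib.OddOrder.PartnerSupport
import Cfsg.Agent.Lib.Solvable.Coprime
import Cfsg.Agent.S1432
import Cfsg.Agent.S1538

set_option autoImplicit false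
set_option linter.style.haveILetI false
set_option linter.unusedSectionVars false

namespace Cfsg.Agent.OddChar.P12

open scoped Classical commutatorElement
open Cfsg.Agent.OddOrder Cfsg.Agent.OddOrder.Exceptional Cfsg.Agent.OddOrder.Support Cfsg.Agent.OddOrder.Pairing

universe u

variable {G : Type u} [Group G] [Finite G]

/-- A prime of a Type I maximal subgroup, outside the kernel, with non-trivial fixed points on it. -/
def BadPrime (L : Subgroup G) (p : ℕ) : Prop :=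
  IsCoatom L ∧ Cfsg.IsOfTypeI L ∧ p.Prime ∧ ¬ p ∣ Nat.card (Cfsg.fittingHallOf L) ∧
    ∃ x ∈ L, ∃ h ∈ Cfsg.fittingHallOf L, orderOf x = p ∧ h ≠ 1 ∧ x * h = h * x

theorem exists_badPrime {L : Subgroup G} (hL : IsCoatom L) (hI : Cfsg.IsOfTypeI L) {h : G}
    (hh : h ∈ Cfsg.fittingHallOf L) (hh1 : h ≠ 1)
    (hno : ¬ L ⊓ Subgroup.centralizer ({h} : Set G) ≤ Cfsg.fittingHallOf L) : ∃ p, BadPrime L p := by
  set H := Cfsg.fittingHallOf L with hH
  set C := L ⊓ Subgroup.centralizer ({h} : Set G) with hC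
  have hne : H.relIndex C ≠ 1 := fun e => hno (Subgroup.relIndex_eq_one.1 e)
  obtain ⟨p, hp, hpd⟩ := Nat.exists_prime_and_dvd hne
  haveI : (H.subgroupOf L).Normal :=
    Subgroup.normal_subgroupOf_of_le_normalizer (FHall.le_normalizer_fittingHallOf L)
  have hdvd : H.relIndex C ∣ H.relIndex L := by
    rw [← Subgroup.relIndex_subgroupOf (inf_le_left : C ≤ L)]
    exact Subgroup.relIndex_dvd_index_of_normal _ _
  have hpH : ¬ p ∣ Nat.card H := fun h1 =>
    hp.one_lt.ne' (Nat.eq_one_of_dvd_coprimes (FHall.fittingHallOf_coprime L) h1 (hpd.trans hdvd))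
  haveI := Fact.mk hp
  obtain ⟨⟨x, hxmem⟩, hx⟩ := exists_prime_orderOf_dvd_card' (G := C) p
    (hpd.trans (Subgroup.relIndex_dvd_card _ _))
  rw [Subgroup.orderOf_mk] at hx
  exact ⟨p, hL, hI, hp, hpH, x, hxmem.1, h, hh, hx, hh1, Subgroup.mem_centralizer_singleton_iff.1 hxmem.2⟩

/-- The facts on a maximal subgroup `L` of Type I. -/
theorem kernel_eq (hG : Cfsg.IsMinSimpleOddOrder G) {L : Subgroup G} (hL : IsCoatom L)
    (hI : Cfsg.IsOfTypeI L) : Cfsg.fittingHallOf L = Cfsg.sigmaCore L :=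
  (Types.decomp_of_kappa_empty hG hL ((TypeA.typeI_iff hG hL).1 hI)).1

theorem BadPrime.not_sigma (hG : Cfsg.IsMinSimpleOddOrder G) {L : Subgroup G} {p : ℕ} (b : BadPrime L p) :
    p ∉ Cfsg.sigma L := fun hσ => by
  obtain ⟨hL, hI, hp, hpH, x, hxL, h, hh, hx, -⟩ := b
  refine hpH (hx ▸ Subgroup.orderOf_dvd_natCard _ ?_)
  rw [kernel_eq hG hL hI]
  refine mem_sigmaCore_of_primes hG hL hxL fun t ht hd => ?_
  rwa [(Nat.prime_dvd_prime_iff_eq ht hp).1 (hx ▸ hd)]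

/-- The properties of an element of prime order centralising part of the kernel. -/
theorem large_facts (hG : Cfsg.IsMinSimpleOddOrder G) {L : Subgroup G} (hL : IsCoatom L)
    (hI : Cfsg.IsOfTypeI L) {p : ℕ} (hp : p.Prime) (hpσ : p ∉ Cfsg.sigma L) {x h : G} (hxL : x ∈ L)
    (hh : h ∈ Cfsg.fittingHallOf L) (hx : orderOf x = p) (hh1 : h ≠ 1) (hc : x * h = h * x) :
    p ∈ Cfsg.tau2 L ∧ (∃ M : Subgroup G, IsCoatom M ∧ p ∈ Cfsg.sigma M) ∧
      Subgroup.centralizer ({x} : Set G) ≤ L ∧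
      ∀ N : Subgroup G, IsCoatom N → Subgroup.centralizer ({x} : Set G) ≤ N → N = L := by
  rw [kernel_eq hG hL hI] at hh
  have hσ : ∀ t : ℕ, t.Prime → t ∣ orderOf x → t ∉ Cfsg.sigma L := fun t ht hd => by
    rwa [(Nat.prime_dvd_prime_iff_eq ht hp).1 (hx ▸ hd)]
  have hx1 : x ≠ 1 := fun e => hp.one_lt.ne (by rw [← hx, e, orderOf_one])
  rcases S1432.result hG L hL h hh hh1 x ⟨hxL, Subgroup.mem_centralizer_singleton_iff.2 hc⟩ hx1 hσ with
    ⟨hk, -⟩ | ⟨hτ, ⟨M, hM, hσM⟩, hC⟩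
  · exact absurd (hk p hp hx.symm.dvd)
      (Set.eq_empty_iff_forall_notMem.1 ((TypeA.typeI_iff hG hL).1 hI) p)
  · exact ⟨hτ p hp hx.symm.dvd, ⟨M, hM, hσM p hp hx.symm.dvd⟩, hC⟩

/-- Some element of a plane centralises an element of the kernel outside its derived group. -/
theorem exists_outer_fixed {H A : Subgroup G} [Group.IsSolvable H] (hH : H ≠ ⊥) {p : ℕ} (hp : p.Prime)
    (hAe : Cfsg.IsElementaryAbelian p A) (hA : Nat.card A = p ^ 2) (hAH : A ≤ Subgroup.normalizer (H : Set G))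
    (hcop : (Nat.card A).Coprime (Nat.card H)) :
    ∃ a ∈ A, a ≠ 1 ∧ ∃ h ∈ H, h ∉ ⁅H, H⁆ ∧ a * h = h * a := by
  haveI := hAe.1
  have hnc : ¬ IsCyclic A := fun hc => by
    obtain ⟨g, hg⟩ := hc.exists_ofOrder_eq_natCard
    have h1 : orderOf g ∣ p := orderOf_dvd_of_pow_eq_one (Subtype.ext (hAe.2 g g.2))
    rw [hg, hA] at h1
    have := Nat.le_of_dvd hp.pos h1
    nlinarith [hp.two_le]
  by_contra hno
  push Not at hno
  haveI : Nontrivial H := (Subgroup.nontrivial_iff_ne_bot H).2 hH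
  have hle : H ≤ ⁅H, H⁆ := by
    refine (CoprimeAct.generated_by_centralizers hnc hAH hcop).ge.trans (iSup₂_le fun a ha y hy => ?_)
    by_contra hy'
    exact hno a ha.1 ha.2 y hy.1 hy' (Subgroup.mem_centralizer_singleton_iff.1 hy.2).symm
  refine (Group.IsSolvable.commutator_lt_top_of_nontrivial H).ne (Subgroup.map_injective H.subtype_injective ?_)
  rw [Subgroup.map_subtype_commutator, ← MonoidHom.range_eq_map, Subgroup.range_subtype]
  exact le_antisymm (Subgroup.commutator_le_self H) hle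

/-- The configuration of PF 12.7 before the analysis of `M`. -/
structure Pre (L M : Subgroup G) (p : ℕ) (x : G) : Prop where
  bad : BadPrime L p
  min : ∀ (L' : Subgroup G) (q : ℕ), BadPrime L' q → p ≤ q
  coatom : IsCoatom M
  mem_core : x ∈ Cfsg.sigmaCore M
  order : orderOf x = p
  mem : x ∈ L
  fixed : ∃ h ∈ Cfsg.fittingHallOf L, h ∉ ⁅Cfsg.fittingHallOf L, Cfsg.fittingHallOf L⁆ ∧ x * h = h * x
  cent_le : Subgroup.centralizer ({x} : Set G) ≤ L
  unique : ∀ N : Subgroup G, IsCoatom N → Subgroup.centralizer ({x} : Set G) ≤ N → N = L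
  cent_not : ¬ Subgroup.centralizer ({x} : Set G) ≤ M
  compl : Cfsg.IsComplIn (M ⊓ L) (Cfsg.fittingHallOf L) L
  plane : ∃ A : Subgroup G, A ≤ M ⊓ L ∧ x ∈ A ∧ Cfsg.IsElementaryAbelian p A ∧ Nat.card A = p ^ 2

theorem exists_pre (hG : Cfsg.IsMinSimpleOddOrder G) {L₀ : Subgroup G} {p₀ : ℕ} (b₀ : BadPrime L₀ p₀) :
    ∃ (L M : Subgroup G) (p : ℕ) (x : G), Pre L M p x := by
  have hex : ∃ p, ∃ L : Subgroup G, BadPrime L p := ⟨p₀, L₀, b₀⟩
  obtain ⟨L, b⟩ := Nat.find_spec hex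
  set p := Nat.find hex
  have hmin : ∀ (L' : Subgroup G) (q : ℕ), BadPrime L' q → p ≤ q := fun L' q h => Nat.find_min' hex ⟨L', h⟩
  have hpσ := b.not_sigma hG
  have hb := b
  obtain ⟨hL, hI, hp, hpH, x₀, hx₀L, h₀, hh₀, hx₀, hh₀1, hc₀⟩ := b
  haveI := Fact.mk hp
  have hτ := (large_facts hG hL hI hp hpσ hx₀L hh₀ hx₀ hh₀1 hc₀).1
  have he := kernel_eq hG hL hI
  obtain ⟨E, hE⟩ := exists_complement hG hL
  obtain ⟨A, hAE, hAe, hA⟩ := TauTwo.exists_plane hG hL hE hτ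
  set H := Cfsg.fittingHallOf L with hH
  have hAL : A ≤ L := hAE.trans hE.1
  have hAH : A ≤ Subgroup.normalizer (H : Set G) := hAL.trans (FHall.le_normalizer_fittingHallOf L)
  have hcop : (Nat.card A).Coprime (Nat.card H) := by
    rw [hA]
    exact Nat.Coprime.pow_left _ (hp.coprime_iff_not_dvd.2 hpH)
  have hH1 : H ≠ ⊥ := fun e => hh₀1 (Subgroup.mem_bot.1 (e.le hh₀))
  haveI : Group.IsSolvable H := MinSimple.isSolvable hG (ne_top_of_le_ne_top hL.1 (FHall.fittingHallOf_le L))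
  obtain ⟨x, hxA, hx1, h, hh, hhd, hc⟩ := exists_outer_fixed hH1 hp hAe hA hAH hcop
  have hx : orderOf x = p := orderOf_eq_prime (hAe.2 x hxA) hx1
  have hh1 : h ≠ 1 := fun e => hhd (e ▸ one_mem _)
  obtain ⟨-, ⟨L', hL', hσ'⟩, hCL, hu⟩ := large_facts hG hL hI hp hpσ (hAL hxA) hh hx hh1 hc
  obtain ⟨M, hM, hxM⟩ := exists_conj_sigmaCore hG hL hx1
    (fun t ht hd => by rwa [(Nat.prime_dvd_prime_iff_eq ht hp).1 (hx ▸ hd)]) hu hL'
    (fun t ht hd => by rwa [(Nat.prime_dvd_prime_iff_eq ht hp).1 (hx ▸ hd)])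
  have hno : ¬ Subgroup.centralizer ({x} : Set G) ≤ M := fun hle => hpσ (by
    rw [← hu M hM hle]
    exact primes_of_mem_sigmaCore hxM hp hx.symm.dvd)
  obtain ⟨-, -, -, hcompl, -⟩ := PSupp.support hG hM hxM hx1 hno hL hCL
  obtain ⟨m, hm, hle⟩ := ComplBasics.exists_conj_le hG hL hcompl hAL (he ▸ hcop)
  obtain ⟨a, ha, s, hs, rfl⟩ := hcompl.2.2.2 m hm
  set A' := A.map (MulAut.conj s).toMonoidHom with hA'
  have hA'V : A' ≤ M ⊓ L := by
    rintro _ ⟨y, hy, rfl⟩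
    have h1 := hle ⟨y, hy, rfl⟩
    have := mul_mem (mul_mem (inv_mem ha) h1) ha
    simpa [mul_assoc] using this
  have hxs : s * x * s⁻¹ = x := by
    have h1 : s * x * s⁻¹ * x⁻¹ ∈ (M ⊓ L) ⊓ Cfsg.sigmaCore L := by
      refine ⟨(M ⊓ L).mul_mem (hA'V ⟨x, hxA, rfl⟩) ((M ⊓ L).inv_mem ⟨sigmaCore_le M hxM, hAL hxA⟩), ?_⟩
      show s * x * s⁻¹ * x⁻¹ ∈ Cfsg.sigmaCore L
      rw [mul_assoc s, mul_assoc s]
      exact mul_mem hs ((Subgroup.mem_normalizer_iff.1 (le_normalizer_sigmaCore L (hAL hxA)) _).1 (inv_mem hs))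
    rwa [hcompl.2.2.1, Subgroup.mem_bot, mul_inv_eq_one] at h1
  refine ⟨L, M, p, x, hb, hmin, hM, hxM, hx, hAL hxA, ⟨h, hh, hhd, hc⟩, hCL, hu, hno, ?_,
    A', hA'V, ⟨x, hxA, hxs⟩, ⟨?_, ?_⟩, ?_⟩
  · rw [kernel_eq hG hL hI]; exact hcompl
  · haveI := hAe.1; infer_instance
  · rintro _ ⟨y, hy, rfl⟩
    rw [← map_pow, hAe.2 y hy, map_one]
  · rw [hA', Subgroup.card_map_of_injective (MulAut.conj s).injective, hA]

theorem Pre.mem_M {L M : Subgroup G} {p : ℕ} {x : G} (P : Pre L M p x) : x ∈ M :=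
  sigmaCore_le M P.mem_core

theorem Pre.ne_one {L M : Subgroup G} {p : ℕ} {x : G} (P : Pre L M p x) : x ≠ 1 := fun e =>
  P.bad.2.2.1.one_lt.ne (by rw [← P.order, e, orderOf_one])

/-- A normal subgroup of `M` that contains `x` is not a TI-subset. -/
theorem Pre.not_ti (hG : Cfsg.IsMinSimpleOddOrder G) {L M : Subgroup G} {p : ℕ} {x : G} (P : Pre L M p x)
    {X : Subgroup G} (hXM : X ≤ M) (hn : M ≤ Subgroup.normalizer (X : Set G)) (hx : x ∈ X) :
    ¬ Cfsg.IsTISubset (X : Set G) := fun hTI => P.cent_not fun c hc => by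
  by_contra hcM
  refine P.ne_one (hTI c (fun h => hcM ?_) x hx ?_)
  · rwa [FTI.normalizer_of_normal hG P.coatom hXM
      (fun e => P.ne_one (Subgroup.mem_bot.1 (e.le hx))) hn] at h
  · rw [Subgroup.mem_centralizer_singleton_iff.1 hc, mul_inv_cancel_right]
    exact hx

theorem Pre.mem_fittingHallOf {L M : Subgroup G} {p : ℕ} {x : G} (P : Pre L M p x)
    (hd : p ∣ Nat.card (Cfsg.fittingHallOf M)) : x ∈ Cfsg.fittingHallOf M := by
  set H := Cfsg.fittingHallOf M with hH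
  haveI : (H.subgroupOf M).Normal :=
    Subgroup.normal_subgroupOf_of_le_normalizer (FHall.le_normalizer_fittingHallOf M)
  refine Subgroup.mem_subgroupOf.1 (le_of_coprime_index (N := H.subgroupOf M)
    (X := Subgroup.zpowers (⟨x, P.mem_M⟩ : M)) ?_ (Subgroup.mem_zpowers _))
  rw [Nat.card_zpowers, Subgroup.orderOf_mk, P.order]
  exact (FHall.fittingHallOf_coprime M).coprime_dvd_left hd

/-- `M` is of Type I. -/
theorem Pre.typeI (hG : Cfsg.IsMinSimpleOddOrder G) (hV : NoTypeV G) (hIV : NoTypeIV G)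
    (hcyc : TypeThreeCyclic G) {L M : Subgroup G} {p : ℕ} {x : G} (P : Pre L M p x) :
    Cfsg.IsOfTypeI M := by
  have hM := P.coatom
  obtain ⟨K, U, hKU⟩ := FStruct.exists_decomp hG hM
  rw [TypeA.typeI_iff hG hM]
  by_contra hκ
  have hK := Types.K_ne hKU (Set.nonempty_iff_ne_empty.2 hκ)
  by_cases hU : U = ⊥
  swap
  · have hII := (Types.typeII_iff hG hM hKU).2 ⟨hK, hU⟩
    obtain ⟨-, -, hTI, hN⟩ := S1538.result hG M hM hII
    refine P.cent_not fun c hc => ?_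
    by_contra hcM
    have hxA : x ∈ Cfsg.typeA1 M := by
      rw [TypeA.typeA1_eq hG hM]; exact ⟨P.mem_core, P.ne_one⟩
    refine P.ne_one (hTI c (fun h => hcM (hN ▸ h)) x hxA ?_)
    rwa [Subgroup.mem_centralizer_singleton_iff.1 hc, mul_inv_cancel_right]
  by_cases he : Cfsg.fittingHallOf M = Cfsg.sigmaCore M
  · exact hV M hM ((Types.typeV_iff hG hM hKU).2 ⟨hK, hU, he⟩)
  rcases (Types.typeIII_IV_iff hG hM hKU).2 ⟨hK, hU, he⟩ with h3 | h4
  swap
  · exact hIV M hM h4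
  obtain ⟨W₁, W, W₂, hP, -, -, hTI, -, -⟩ := id h3
  haveI hWc := hcyc M W₁ W W₂ hM h3 hP
  by_cases hd : p ∣ Nat.card (Cfsg.fittingHallOf M)
  · exact P.not_ti hG (FitOf.fittingOf_le M) (FitOf.le_normalizer_fittingOf M)
      (hP.fitting_eq ▸ Subgroup.mem_sup_left (P.mem_fittingHallOf hd)) hTI
  obtain ⟨A, hA, -, hAe, hAc⟩ := P.plane
  have hp : p.Prime := P.bad.2.2.1
  obtain ⟨-, -, hSd, -, -⟩ := S1355.result hG M hM
  have hAM : A ≤ ⁅M, M⁆ := fun y hy => hSd (mem_sigmaCore_of_primes hG hM (hA hy).1 fun t ht htd => by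
    rw [(Nat.prime_dvd_prime_iff_eq ht hp).1 (htd.trans (orderOf_dvd_of_pow_eq_one (hAe.2 y hy)))]
    exact primes_of_mem_sigmaCore P.mem_core hp P.order.symm.dvd)
  have hc := TypeA.compl_swap hP.U_compl
  haveI := MinSimple.isSolvable hG (ne_top_of_le_ne_top hM.1 hP.W₁_compl.1)
  obtain ⟨m, hle⟩ := HallSolv.hall_conj_le (G := (⁅M, M⁆ : Subgroup G)) (Compl.card_eq hc)
    (TypeP.coprime_H_U hP).symm (H := W.subgroupOf ⁅M, M⁆) (K := A.subgroupOf ⁅M, M⁆)
    (Nat.card_congr (Subgroup.subgroupOfEquivOfLe hc.1).toEquiv)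
    (by
      rw [Nat.card_congr (Subgroup.subgroupOfEquivOfLe hAM).toEquiv, hAc]
      exact Nat.Coprime.pow_left _ (hp.coprime_iff_not_dvd.2 hd))
  have hle' : A.map (MulAut.conj (m : G)).toMonoidHom ≤ W := by
    rintro _ ⟨y, hy, rfl⟩
    exact hle (Subgroup.smul_mem_pointwise_smul (⟨y, hAM hy⟩ : (⁅M, M⁆ : Subgroup G)) (MulAut.conj m) _ hy)
  haveI : IsCyclic (A.map (MulAut.conj (m : G)).toMonoidHom) :=
    isCyclic_of_injective (Subgroup.inclusion hle') (Subgroup.inclusion_injective _)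
  haveI : IsCyclic A :=
    (A.equivMapOfInjective (MulAut.conj (m : G)).toMonoidHom (MulAut.conj (m : G)).injective).isCyclic.2 inferInstance
  obtain ⟨g, hg⟩ := IsCyclic.exists_ofOrder_eq_natCard (α := A)
  have h1 : orderOf g ∣ p := orderOf_dvd_of_pow_eq_one (Subtype.ext (hAe.2 g g.2))
  rw [hg, hAc] at h1
  have := Nat.le_of_dvd hp.pos h1
  nlinarith [hp.two_le]

end Cfsg.Agent.OddChar.P12
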