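/-
PF 12.7: the maximal subgroup over the minimal bad prime is a Frobenius group with a small complement.
-/
import Cfsg.Agent.Lib.OddChar.P12Config
import Cfsg.Agent.Lib.OddOrder.RankTwoAut
import Cfsg.Agent.Lib.OddOrder.PlaneCyclicAct
import Cfsg.Agent.Lib.Solvable.FixedPointFree

set_option autoImplicit false
set_option linter.style.haveILetI false
set_option linter.unusedSectionVars false

namespace Cfsg.Agent.OddChar.P12

open scoped Classical commutatorElement IsMulCommutative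
open Cfsg.Agent.OddOrder Cfsg.Agent.OddOrder.Exceptional Cfsg.Agent.OddOrder.Support Cfsg.Agent.OddOrder.Pairing

universe u

/-- A nilpotent group with a plane has abelianisation of order at least `p ^ 2`. -/
theorem sq_le_index_commutator_of_plane {X : Type u} [Group X] [Finite X] [Group.IsNilpotent X] {p : ℕ}
    [Fact p.Prime] {A : Subgroup X} (hAe : Cfsg.IsElementaryAbelian p A) (hA : Nat.card A = p ^ 2) :
    p ^ 2 ≤ (commutator X).index := by
  haveI := hAe.1
  have hAp : IsPGroup p A := IsPGroup.of_card hA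
  obtain ⟨P, hAP⟩ := hAp.exists_le_sylow
  by_cases hab : commutator X = ⊥
  · rw [hab, Subgroup.index_bot, ← hA]
    exact Nat.le_of_dvd Nat.card_pos (Subgroup.card_subgroup_dvd_card A)
  let e := (Sylow.directProductOfNormal (G := X) fun {q hq Q} => inferInstance).symm
  have hpm : p ∈ (Nat.card X).primeFactors := Nat.mem_primeFactors.2 ⟨Fact.out,
    (hA ▸ dvd_pow_self p two_ne_zero).trans (Subgroup.card_subgroup_dvd_card A), Nat.card_pos.ne'⟩
  let π : X →* (P : Subgroup X) :=
    ((Pi.evalMonoidHom (fun P : Sylow p X => (P : Subgroup X)) P).comp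
      (Pi.evalMonoidHom (fun q : (Nat.card X).primeFactors => ∀ Q : Sylow q X, (Q : Subgroup X)) ⟨p, hpm⟩)).comp
      e.toMonoidHom
  have hπ : Function.Surjective π := fun y =>
    ⟨e.symm (Pi.mulSingle ⟨p, hpm⟩ (Pi.mulSingle P y)), by simp [π]⟩
  have hle : (commutator (P : Subgroup X)).index ∣ (commutator X).index := by
    rw [commutator_def, ← Subgroup.map_top_of_surjective π hπ, ← Subgroup.map_commutator, ← commutator_def]
    exact Subgroup.index_map_dvd _ hπ
  refine le_trans ?_ (Nat.le_of_dvd (Nat.pos_of_ne_zero Subgroup.index_ne_zero_of_finite) hle)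
  by_cases hP : commutator (P : Subgroup X) = ⊥
  · rw [hP, Subgroup.index_bot, ← hA]
    exact Nat.le_of_dvd Nat.card_pos (Subgroup.card_dvd_of_le hAP)
  · exact MaxClass.sq_le_index_commutator P.isPGroup' hP

variable {G : Type u} [Group G] [Finite G]

theorem Pre.plane_le (hG : Cfsg.IsMinSimpleOddOrder G) {L M A : Subgroup G} {p : ℕ} {x : G} (P : Pre L M p x)
    (hA : A ≤ M ⊓ L) (hAe : Cfsg.IsElementaryAbelian p A) (hI : Cfsg.IsOfTypeI M) :
    A ≤ Cfsg.fittingHallOf M := fun y hy => by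
  have hp := P.bad.2.2.1
  rw [kernel_eq hG P.coatom hI]
  refine mem_sigmaCore_of_primes hG P.coatom (hA hy).1 fun t ht htd => ?_
  rw [(Nat.prime_dvd_prime_iff_eq ht hp).1 (htd.trans (orderOf_dvd_of_pow_eq_one (hAe.2 y hy)))]
  exact primes_of_mem_sigmaCore P.mem_core hp P.order.symm.dvd

/-- In the abelian case every element of order dividing `p` lies in the plane. -/
theorem mem_plane {K A : Subgroup G} [IsMulCommutative K] (hr : Cfsg.RankLE 2 K) {p : ℕ} (hp : p.Prime)
    (hAK : A ≤ K) (hAe : Cfsg.IsElementaryAbelian p A) (hA : Nat.card A = p ^ 2) {y : G} (hy : y ∈ K)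
    (hyp : y ^ p = 1) : y ∈ A := by
  let B : Subgroup K :=
    { carrier := {b | b ^ p = 1}
      one_mem' := one_pow p
      mul_mem' := fun {a b} ha hb => by
        show (a * b) ^ p = 1
        rw [mul_pow, ha, hb, one_mul]
      inv_mem' := fun {a} ha => by
        show a⁻¹ ^ p = 1
        rw [inv_pow, ha, inv_one] }
  have hB := hr p hp B inferInstance fun b hb => hb
  have hle : A.subgroupOf K ≤ B := fun a ha => Subtype.ext (by simpa using hAe.2 a ha)
  have heq : A.subgroupOf K = B := Subgroup.eq_of_le_of_card_ge hle (by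
    rw [Nat.card_congr (Subgroup.subgroupOfEquivOfLe hAK).toEquiv, hA]; exact hB)
  exact Subgroup.mem_subgroupOf.1 (heq.ge (show (⟨y, hy⟩ : K) ∈ B from Subtype.ext hyp))

theorem normalizes_plane {K A M : Subgroup G} [IsMulCommutative K] (hr : Cfsg.RankLE 2 K) {p : ℕ} (hp : p.Prime)
    (hAK : A ≤ K) (hAe : Cfsg.IsElementaryAbelian p A) (hA : Nat.card A = p ^ 2)
    (hn : M ≤ Subgroup.normalizer (K : Set G)) : M ≤ Subgroup.normalizer (A : Set G) := fun m hm =>
  ComplAbelian.mem_normalizer_of_map_le fun z hz => by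
    refine mem_plane hr hp hAK hAe hA ((Subgroup.mem_normalizer_iff.1 (hn hm) z).1 (hAK hz)) ?_
    rw [conj_pow, hAe.2 z hz, mul_one, mul_inv_cancel]

/-- The kernel of `M` contains all fixed points. -/
theorem Pre.frob (hG : Cfsg.IsMinSimpleOddOrder G) {L M : Subgroup G} {p : ℕ} {x : G} (P : Pre L M p x)
    (hI : Cfsg.IsOfTypeI M) : FrobOne M := by
  refine ⟨P.coatom, hI, fun y hy hy1 => ?_⟩
  by_contra hno
  obtain ⟨q, b⟩ := exists_badPrime P.coatom hI hy hy1 hno
  have hpq := P.min M q b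
  have hqσ := b.not_sigma hG
  obtain ⟨-, -, hq, hqK, z₀, hz₀, h₀, hh₀, hz₀o, hh₀1, hc₀⟩ := b
  have hp := P.bad.2.2.1
  haveI := Fact.mk hp
  haveI := Fact.mk hq
  have hK := kernel_eq hG P.coatom hI
  have hxK : x ∈ Cfsg.fittingHallOf M := hK ▸ P.mem_core
  have hpK : p ∣ Nat.card (Cfsg.fittingHallOf M) := P.order ▸ Subgroup.orderOf_dvd_natCard _ hxK
  rcases hI.2 with hTI | ⟨hab, hr2, -⟩ | ⟨hexp, -⟩
  · exact P.not_ti hG (FHall.fittingHallOf_le M) (FHall.le_normalizer_fittingHallOf M) hxK hTI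
  · obtain ⟨A, hA, hxA, hAe, hAc⟩ := P.plane
    haveI := hab
    haveI := hAe.1
    have hAK := P.plane_le hG hA hAe hI
    have hn := normalizes_plane hr2 hp hAK hAe hAc (FHall.le_normalizer_fittingHallOf M)
    have hτ := (large_facts hG P.coatom hI hq hqσ hz₀ hh₀ hz₀o hh₀1 hc₀).1
    obtain ⟨F, hF⟩ := exists_complement hG P.coatom
    obtain ⟨Q, hQF, hQe, hQc⟩ := TauTwo.exists_plane hG P.coatom hF hτ
    haveI := hQe.1
    have hQM : Q ≤ M := hQF.trans hF.1
    by_cases hall : ∀ z ∈ Q, z * x = x * z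
    · have hQL : Q ≤ M ⊓ L := fun z hz =>
        ⟨hQM hz, P.cent_le (Subgroup.mem_centralizer_singleton_iff.2 (hall z hz))⟩
      have hcop : (Nat.card Q).Coprime (Nat.card (Cfsg.fittingHallOf L)) := by
        rw [kernel_eq hG P.bad.1 P.bad.2.1]
        refine (ComplBasics.coprime_card hG P.bad.1 ?_).coprime_dvd_left (Subgroup.card_dvd_of_le hQL)
        exact kernel_eq hG P.bad.1 P.bad.2.1 ▸ P.compl
      have hnc : ¬ IsCyclic Q := fun hc => by
        obtain ⟨g, hg⟩ := hc.exists_ofOrder_eq_natCard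
        have h1 : orderOf g ∣ q := orderOf_dvd_of_pow_eq_one (Subtype.ext (hQe.2 g g.2))
        rw [hg, hQc] at h1
        have := Nat.le_of_dvd hq.pos h1
        nlinarith [hq.two_le]
      have hLM : Cfsg.fittingHallOf L ≤ M := by
        refine (CoprimeAct.generated_by_centralizers hnc
          ((hQL.trans inf_le_right).trans (FHall.le_normalizer_fittingHallOf L)) hcop).ge.trans
          (iSup₂_le fun z hz => inf_le_right.trans ?_)
        exact (large_facts hG P.coatom hI hq hqσ (hQM hz.1) hxK (orderOf_eq_prime (hQe.2 z hz.1) hz.2)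
          P.ne_one (hall z hz.1)).2.2.1
      obtain ⟨h, hh, hhd, -⟩ := P.fixed
      have h1 : h = 1 := Subgroup.mem_bot.1
        (P.compl.2.2.1.le ⟨⟨hLM hh, FHall.fittingHallOf_le L hh⟩, hh⟩)
      exact hhd (h1 ▸ one_mem _)
    push Not at hall
    obtain ⟨z, hz, hzx⟩ := hall
    let φ : M →* MulAut A := A.normalizerMonoidHom.comp (Subgroup.inclusion hn)
    have hz1 : z ≠ 1 := fun e => hzx (by rw [e, one_mul, mul_one])
    have hzo : orderOf (⟨z, hQM hz⟩ : M) = q := by
      rw [Subgroup.orderOf_mk]; exact orderOf_eq_prime (hQe.2 z hz) hz1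
    have hφ : orderOf (φ ⟨z, hQM hz⟩) = q := by
      refine ((hq.eq_one_or_self_of_dvd _ (hzo ▸ orderOf_map_dvd φ _)).resolve_left fun e => hzx ?_)
      have h := congrArg Subtype.val (DFunLike.congr_fun (orderOf_eq_one_iff.1 e) (⟨x, hxA⟩ : A))
      exact mul_inv_eq_iff_eq_mul.1 (show z * x * z⁻¹ = x from h)
    have hp2 : p ≠ 2 := fun e => by
      have h := Odd.of_dvd_nat hG.1 (P.order ▸ orderOf_dvd_natCard x : p ∣ Nat.card G)
      rw [e] at h
      exact absurd h (by decide)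
    have hqp : q ≠ p := fun e => hqK (e ▸ hpK)
    exact absurd (RankTwoAut.act_prime hp2 (fun v : A => Subtype.ext (hAe.2 v v.2)) hAc.le hq hqp hφ).2
      (Nat.not_lt.2 hpq)
  · haveI : (Cfsg.fittingHall M).Normal := Cfsg.fittingHall_normal M
    have hd := hexp p hp hpK
    have hz : (⟨z₀, hz₀⟩ : M) ∉ Cfsg.fittingHall M := fun h => hqK (hz₀o ▸ Subgroup.orderOf_dvd_natCard _
      (show z₀ ∈ Cfsg.fittingHallOf M from ⟨_, h, rfl⟩))
    have h1 : orderOf ((⟨z₀, hz₀⟩ : M) : M ⧸ Cfsg.fittingHall M) = q := by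
      refine (hq.eq_one_or_self_of_dvd _ ?_).resolve_left fun e => hz ((QuotientGroup.eq_one_iff _).1
        (orderOf_eq_one_iff.1 e))
      have := orderOf_map_dvd (QuotientGroup.mk' (Cfsg.fittingHall M)) (⟨z₀, hz₀⟩ : M)
      rwa [Subgroup.orderOf_mk, hz₀o] at this
    have h2 : q ∣ p - 1 := (h1 ▸ Monoid.order_dvd_exponent _).trans hd
    have h3 := Nat.le_of_dvd (by have := hp.two_le; omega) h2
    have := hp.two_le
    exact absurd hpq (by omega)

/-- A Frobenius group of order `p r` does not act fixed-point-freely on a nilpotent group. -/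
theorem commute_of_fpf {H : Subgroup G} [Group.IsNilpotent H] (hH : H ≠ ⊥) {v w : G} {p r : ℕ} (hp : p.Prime)
    (hr : r.Prime) (hpr : p ≠ r) (hv : orderOf v = p) (hw : orderOf w = r)
    (hnorm : w * v * w⁻¹ ∈ Subgroup.zpowers v) {X : Subgroup G} (hX : X ≤ Subgroup.normalizer (H : Set G))
    (hvX : v ∈ X) (hwX : w ∈ X) (hfpf : ∀ a ∈ X, a ≠ 1 → ∀ h ∈ H, a * h = h * a → h = 1) :
    w * v = v * w := by
  haveI : Nontrivial H := (Subgroup.nontrivial_iff_ne_bot H).2 hH
  set Z := (Subgroup.center H).map H.subtype with hZ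
  have hZ1 : Z ≠ ⊥ := fun e => Group.IsNilpotent.center_ne_bot (G := H)
    ((Subgroup.map_eq_bot_iff_of_injective _ H.subtype_injective).1 e)
  haveI : IsMulCommutative Z := .of_setLike_mul_comm (by
    rintro _ ⟨a, ha, rfl⟩ _ ⟨b, -, rfl⟩
    exact congrArg Subtype.val (Subgroup.mem_center_iff.1 ha b).symm)
  have hZn : X ≤ Subgroup.normalizer (Z : Set G) := fun a ha => ComplAbelian.mem_normalizer_of_map_le fun y hy => by
    obtain ⟨c, hc, rfl⟩ := hy
    have hn := Subgroup.mem_normalizer_iff.1 (hX ha)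
    refine ⟨⟨a * c * a⁻¹, (hn c).1 c.2⟩, Subgroup.mem_center_iff.2 fun b => Subtype.ext ?_, rfl⟩
    have hb : a⁻¹ * (b : G) * a ∈ H := (hn _).2 (by simpa [mul_assoc] using b.2)
    have h := congrArg Subtype.val (Subgroup.mem_center_iff.1 hc ⟨_, hb⟩)
    simp only [Subgroup.coe_mul] at h ⊢
    calc (b : G) * (a * c * a⁻¹) = a * (a⁻¹ * b * a * c) * a⁻¹ := by group
      _ = a * ((c : G) * (a⁻¹ * b * a)) * a⁻¹ := by rw [h]
      _ = a * c * a⁻¹ * b := by group
  set A := Subgroup.zpowers v ⊔ Subgroup.zpowers w with hA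
  have hAX : A ≤ X := sup_le (Subgroup.zpowers_le.2 hvX) (Subgroup.zpowers_le.2 hwX)
  have hwn : Subgroup.zpowers w ≤ Subgroup.normalizer (Subgroup.zpowers v : Set G) :=
    Subgroup.zpowers_le.2 (ComplAbelian.mem_normalizer_of_map_le fun z hz => by
      obtain ⟨i, rfl⟩ := Subgroup.mem_zpowers_iff.1 hz
      rw [← conj_zpow]
      exact Subgroup.zpow_mem _ hnorm i)
  have hcard : Nat.card A = p * r := by
    have h := SolvBasic.card_sup_mul_card_inf hwn
    rw [Nat.card_zpowers, Nat.card_zpowers, hv, hw] at h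
    have hb : Subgroup.zpowers v ⊓ Subgroup.zpowers w = ⊥ := Subgroup.inf_eq_bot_of_coprime (by
      rw [Nat.card_zpowers, Nat.card_zpowers, hv, hw]; exact (Nat.coprime_primes hp hr).2 hpr)
    rwa [hb, Subgroup.card_bot, mul_one] at h
  have hc : IsCyclic A := FpfStruct.pq_cyclic hZ1 (hAX.trans hZn) (fun a ha ha1 =>
    (Subgroup.eq_bot_iff_forall _).2 fun y hy => by
      obtain ⟨_, -, rfl⟩ := hy.1
      exact hfpf a (hAX ha) ha1 _ (SetLike.coe_mem _) (Subgroup.mem_centralizer_singleton_iff.1 hy.2).symm) hp hr hcard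
  haveI : IsMulCommutative A := hc.isMulCommutative
  exact congrArg Subtype.val (mul_comm'
    (⟨w, Subgroup.mem_sup_right (Subgroup.mem_zpowers w)⟩ : A) ⟨v, Subgroup.mem_sup_left (Subgroup.mem_zpowers v)⟩)

/-- A cyclic group has at most one subgroup of each order. -/
theorem eq_of_card_eq_cyclic {C : Type u} [Group C] [Finite C] [IsCyclic C] {X Y : Subgroup C}
    (h : Nat.card X = Nat.card Y) : X = Y := by
  letI : Fintype C := Fintype.ofFinite C
  have key : ∀ Z : Subgroup C, (Z : Set C).toFinset = Finset.univ.filter fun a : C => a ^ Nat.card Z = 1 := fun Z => by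
    refine Finset.eq_of_subset_of_card_le (fun a ha => ?_) ?_
    · rw [Set.mem_toFinset] at ha
      rw [Finset.mem_filter]
      exact ⟨Finset.mem_univ _, orderOf_dvd_iff_pow_eq_one.1 (Subgroup.orderOf_dvd_natCard Z ha)⟩
    · refine (IsCyclic.card_pow_eq_one_le (Nat.card_pos (α := Z))).trans ?_
      rw [← Set.ncard_eq_toFinset_card', ← Nat.card_coe_set_eq]
      exact le_rfl
  refine SetLike.coe_injective (Set.toFinset_inj.1 ?_)
  rw [key X, key Y, h]

/-- A Frobenius complement in a Type I subgroup with abelian kernel of rank two contains no scalars on the plane. -/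
theorem Pre.no_scalar (hG : Cfsg.IsMinSimpleOddOrder G) {L M : Subgroup G} {p : ℕ} {x : G} (P : Pre L M p x)
    (F : FrobOne M) [IsMulCommutative (Cfsg.fittingHallOf M)] {E : Subgroup G}
    (hE : Cfsg.IsComplIn E (Cfsg.sigmaCore M) M) [IsCyclic E] {A : Subgroup G} (hA : A ≤ M ⊓ L) (hxA : x ∈ A)
    (hAe : Cfsg.IsElementaryAbelian p A) (hAc : Nat.card A = p ^ 2) (hr2 : Cfsg.RankLE 2 (Cfsg.fittingHallOf M))
    {z : G} (hz : z ∈ E) {r : ℕ} (hr : r.Prime) (hzo : orderOf z = r) {m : ℕ}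
    (hs : ∀ v ∈ A, z * v * z⁻¹ = v ^ m) : False := by
  have hI := F.typeI
  have hM := P.coatom
  have hL := P.bad.1
  have hp := P.bad.2.2.1
  haveI := Fact.mk hp
  haveI := Fact.mk hr
  haveI := hAe.1
  have hK := kernel_eq hG hM hI
  have hcop := ComplBasics.coprime_card hG hM hE
  have hrK : ¬ r ∣ Nat.card (Cfsg.fittingHallOf M) := fun h => hr.one_lt.ne'
    (Nat.eq_one_of_dvd_coprimes hcop (hzo ▸ Subgroup.orderOf_dvd_natCard _ hz) (hK ▸ h))
  have hzM : z ∈ M := hE.1 hz
  have hxK : x ∈ Cfsg.fittingHallOf M := hK ▸ P.mem_core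
  have hfix : ∀ w ∈ M, orderOf w = r → ∀ v ∈ A, v ≠ 1 → w * v ≠ v * w := fun w hw hwo v hv hv1 hc => hrK
    (hwo ▸ Subgroup.orderOf_dvd_natCard _ (F.frob v (P.plane_le hG hA hAe hI hv) hv1
      ⟨hw, Subgroup.mem_centralizer_singleton_iff.2 hc⟩))
  have hxm : x ^ m ≠ 1 := fun e => P.ne_one (conj_eq_one_iff.1 ((hs x hxA).trans e))
  have hzL : z ∈ L := by
    have hsub : Subgroup.centralizer ({x} : Set G) ≤ L.map (MulAut.conj z).toMonoidHom := by
      intro c hc
      refine ⟨z⁻¹ * c * z, P.cent_le (Subgroup.mem_centralizer_singleton_iff.2 ?_), by simp [mul_assoc]⟩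
      have h1 : c * x ^ m = x ^ m * c := ((show Commute c x from
        Subgroup.mem_centralizer_singleton_iff.1 hc).pow_right m).eq
      rw [← hs x hxA] at h1
      calc z⁻¹ * c * z * x = z⁻¹ * (c * (z * x * z⁻¹)) * z := by group
        _ = z⁻¹ * ((z * x * z⁻¹) * c) * z := by rw [h1]
        _ = x * (z⁻¹ * c * z) := by group
    have he := P.unique _ (coatom_conj hL z) hsub
    have : z ∈ Subgroup.normalizer (L : Set G) := Subgroup.mem_normalizer_iff_map_conj_eq.2 he
    rwa [FTI.normalizer_of_normal hG hL le_rfl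
      (fun e => P.ne_one (Subgroup.mem_bot.1 (e.le P.mem))) Subgroup.le_normalizer] at this
  set H := Cfsg.fittingHallOf L with hH
  have hcompl : Cfsg.IsComplIn (M ⊓ L) (Cfsg.sigmaCore L) L := kernel_eq hG hL P.bad.2.1 ▸ P.compl
  obtain ⟨-, -, hH1, -, U, -, hUc, -, U₀, hU₀, hexp, hfpf⟩ := P.bad.2.1.1
  have hUcard : Nat.card U = Nat.card (M ⊓ L : Subgroup G) := by
    have h1 := Compl.card_eq hcompl
    have h2 := hUc.card_mul
    rw [← show Nat.card (Cfsg.fittingHallOf L) = Nat.card (Cfsg.fittingHall L) from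
        Subgroup.card_map_of_injective L.subtype_injective, kernel_eq hG hL P.bad.2.1, mul_comm] at h2
    exact Nat.eq_of_mul_eq_mul_right Nat.card_pos (h2.trans h1)
  obtain ⟨l, hl, hle⟩ := ComplBasics.exists_conj_le hG hL hcompl (Subgroup.map_subtype_le U) (by
    rw [Subgroup.card_map_of_injective L.subtype_injective, hUcard]
    exact ComplBasics.coprime_card hG hL hcompl)
  let f : L →* G := (MulAut.conj l).toMonoidHom.comp L.subtype
  have hf : Function.Injective f := (MulAut.conj l).injective.comp L.subtype_injective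
  have heq : U.map f = M ⊓ L := Subgroup.eq_of_le_of_card_ge (by rwa [← Subgroup.map_map]) (by
    rw [Subgroup.card_map_of_injective hf, hUcard])
  have hexp' : Monoid.exponent (U₀.map f) = Monoid.exponent (M ⊓ L : Subgroup G) := by
    rw [← Monoid.exponent_eq_of_mulEquiv (U₀.equivMapOfInjective f hf), hexp,
      Monoid.exponent_eq_of_mulEquiv (U.equivMapOfInjective f hf), heq]
  have hW : U₀.map f ≤ M ⊓ L := heq ▸ Subgroup.map_mono hU₀
  have hfp : ∀ a ∈ U₀.map f, a ≠ 1 → ∀ h ∈ H, a * h = h * a → h = 1 := by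
    rintro _ ⟨a, ha, rfl⟩ ha1 h hh hc
    have hh' : l⁻¹ * h * l ∈ H := by
      simpa using (Subgroup.mem_normalizer_iff.1 (FHall.le_normalizer_fittingHallOf L (L.inv_mem hl)) h).1 hh
    obtain ⟨h', hh'', he⟩ := hh'
    have h1 : h' = 1 := hfpf a ha (fun e => ha1 (by rw [e, map_one])) h' hh'' (Subtype.ext (by
      change (h' : G) = l⁻¹ * h * l at he
      change (a : G) * h' = h' * a
      rw [he]
      calc (a : G) * (l⁻¹ * h * l) = l⁻¹ * ((l * a * l⁻¹) * h) * l := by group
        _ = l⁻¹ * (h * (l * a * l⁻¹)) * l := by rw [show (l * a * l⁻¹) * h = h * (l * a * l⁻¹) from hc]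
        _ = l⁻¹ * h * l * a := by group))
    rw [h1] at he
    exact conj_eq_one_iff.1 (show l⁻¹ * h * l⁻¹⁻¹ = 1 by rw [inv_inv]; exact he.symm)
  have hprimes : ∀ (q : ℕ) (g : G), q.Prime → g ∈ M ⊓ L → orderOf g = q → ∃ w ∈ U₀.map f, orderOf w = q := by
    intro q g hq hg hgo
    haveI := Fact.mk hq
    obtain ⟨w, hw⟩ := exists_prime_orderOf_dvd_card' (G := U₀.map f) q (by
      refine dvd_trans ?_ Group.exponent_dvd_nat_card
      rw [hexp', ← hgo, ← Subgroup.orderOf_mk g hg]
      exact Monoid.order_dvd_exponent _)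
    exact ⟨w, w.2, by rwa [Subgroup.orderOf_coe]⟩
  obtain ⟨v, hv, hvo⟩ := hprimes p x hp ⟨P.mem_M, P.mem⟩ P.order
  obtain ⟨w, hw, hwo⟩ := hprimes r z hr ⟨hzM, hzL⟩ hzo
  have hvA : v ∈ A := by
    refine mem_plane hr2 hp (P.plane_le hG hA hAe hI) hAe hAc ?_ (by rw [← hvo]; exact pow_orderOf_eq_one v)
    rw [hK]
    refine mem_sigmaCore_of_primes hG hM (hW hv).1 fun t ht htd => ?_
    rw [(Nat.prime_dvd_prime_iff_eq ht hp).1 (hvo ▸ htd)]
    exact primes_of_mem_sigmaCore P.mem_core hp P.order.symm.dvd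
  have hwM : w ∈ M := (hW hw).1
  obtain ⟨c, hc, hcE⟩ := ComplBasics.exists_conj_le hG hM hE (Subgroup.zpowers_le.2 hwM) (by
    rw [Nat.card_zpowers, hwo, ← hK]
    exact hr.coprime_iff_not_dvd.2 hrK)
  have hw' : c * w * c⁻¹ ∈ E := hcE ⟨w, Subgroup.mem_zpowers w, rfl⟩
  have hzw : c * w * c⁻¹ ∈ Subgroup.zpowers z := by
    have h1 : Subgroup.zpowers (⟨c * w * c⁻¹, hw'⟩ : E) = Subgroup.zpowers (⟨z, hz⟩ : E) := by
      have h2 : orderOf (⟨c * w * c⁻¹, hw'⟩ : E) = orderOf (⟨z, hz⟩ : E) := by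
        rw [Subgroup.orderOf_mk, Subgroup.orderOf_mk, ← MulAut.conj_apply, MulEquiv.orderOf_eq, hwo, hzo]
      refine eq_of_card_eq_cyclic ?_
      rw [Nat.card_zpowers, Nat.card_zpowers, h2]
    obtain ⟨i, hi⟩ := Subgroup.mem_zpowers_iff.1 (h1.le (Subgroup.mem_zpowers _))
    exact Subgroup.mem_zpowers_iff.2 ⟨i, congrArg Subtype.val hi⟩
  obtain ⟨i, hi⟩ := (mem_powers_iff_mem_zpowers.2 hzw)
  have hscal : ∀ j : ℕ, ∀ a ∈ A, z ^ j * a * (z ^ j)⁻¹ = a ^ m ^ j := by
    intro j
    induction j with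
    | zero => intro a _; simp
    | succ j ih =>
      intro a ha
      calc z ^ (j + 1) * a * (z ^ (j + 1))⁻¹ = z ^ j * (z * a * z⁻¹) * (z ^ j)⁻¹ := by
            rw [pow_succ]; group
        _ = (z ^ j * a * (z ^ j)⁻¹) ^ m := by rw [hs a ha, conj_pow]
        _ = a ^ m ^ (j + 1) := by rw [ih a ha, ← pow_mul, pow_succ]
  have hn := normalizes_plane hr2 hp (P.plane_le hG hA hAe hI) hAe hAc (FHall.le_normalizer_fittingHallOf M)
  have hnorm : w * v * w⁻¹ = v ^ m ^ i := by
    have h1 := hscal i (c * v * c⁻¹) ((Subgroup.mem_normalizer_iff.1 (hn hc) v).1 hvA)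
    rw [show z ^ i = c * w * c⁻¹ from hi, conj_pow] at h1
    have h2 : c * (w * v * w⁻¹) * c⁻¹ = c * v ^ m ^ i * c⁻¹ := by rw [← h1]; group
    exact mul_left_cancel (mul_right_cancel h2)
  have hv1 : v ≠ 1 := fun e => hp.one_lt.ne (by rw [← hvo, e, orderOf_one])
  refine hfix w hwM hwo v hvA hv1 ?_
  haveI := FHall.fittingHallOf_nilpotent L
  exact commute_of_fpf (H := H) (fun e => hH1 ((Subgroup.map_eq_bot_iff_of_injective _ L.subtype_injective).1 e))
    hp hr (fun e => hrK (e ▸ P.order ▸ Subgroup.orderOf_dvd_natCard _ hxK)) hvo hwo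
    (hnorm ▸ Subgroup.npow_mem_zpowers v _) ((hW.trans inf_le_right).trans (FHall.le_normalizer_fittingHallOf L))
    hv hw hfp

/-- The configuration of PF 12.7. -/
structure Cfg (L M : Subgroup G) (p : ℕ) (x : G) : Prop where
  pre : Pre L M p x
  frob : FrobOne M
  small : 2 * (Cfsg.fittingHall M).index ≤ p + 1
  abel : p ^ 2 ≤ (commutator (Cfsg.fittingHallOf M)).index

theorem index_eq {M E : Subgroup G} (hK : Cfsg.fittingHallOf M = Cfsg.sigmaCore M)
    (hE : Cfsg.IsComplIn E (Cfsg.sigmaCore M) M) : (Cfsg.fittingHall M).index = Nat.card E := by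
  have h1 := Compl.card_eq hE
  have h2 := (Cfsg.fittingHall M).card_mul_index
  rw [← show Nat.card (Cfsg.fittingHallOf M) = Nat.card (Cfsg.fittingHall M) from
      Subgroup.card_map_of_injective M.subtype_injective, hK, h1, mul_comm] at h2
  exact Nat.eq_of_mul_eq_mul_right Nat.card_pos h2

theorem Pre.cfg (hG : Cfsg.IsMinSimpleOddOrder G) {L M : Subgroup G} {p : ℕ} {x : G} (P : Pre L M p x)
    (hI : Cfsg.IsOfTypeI M) : Cfg L M p x := by
  have F := P.frob hG hI
  have hM := P.coatom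
  have hp := P.bad.2.2.1
  haveI := Fact.mk hp
  have hK := kernel_eq hG hM hI
  obtain ⟨A, hA, hxA, hAe, hAc⟩ := P.plane
  haveI := hAe.1
  have hAK := P.plane_le hG hA hAe hI
  have hxK : x ∈ Cfsg.fittingHallOf M := hK ▸ P.mem_core
  have hoddM : Odd (Nat.card M) := hG.1.of_dvd_nat (Subgroup.card_subgroup_dvd_card M)
  refine ⟨P, F, ?_, ?_⟩
  swap
  · haveI := FHall.fittingHallOf_nilpotent M
    refine sq_le_index_commutator_of_plane (A := A.subgroupOf (Cfsg.fittingHallOf M)) ⟨?_, ?_⟩ ?_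
    · exact .of_setLike_mul_comm fun a ha b hb => Subtype.ext
        (congrArg (fun t : A => (t : G)) (mul_comm' (⟨(a : G), ha⟩ : A) ⟨(b : G), hb⟩))
    · exact fun a ha => Subtype.ext (by simpa using hAe.2 a ha)
    · rw [Nat.card_congr (Subgroup.subgroupOfEquivOfLe hAK).toEquiv, hAc]
  haveI : (Cfsg.fittingHall M).Normal := Cfsg.fittingHall_normal M
  have hfr : ∀ k ∈ Cfsg.fittingHall M, k ≠ 1 → Subgroup.centralizer ({k} : Set M) ≤ Cfsg.fittingHall M := by
    letI : Fintype G := Fintype.ofFinite G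
    letI : Fintype M := Fintype.ofFinite M
    exact kernel_frob hG F
  rcases hI.2 with hTI | ⟨hab, hr2, -⟩ | ⟨hexp, -⟩
  · exact absurd hTI (P.not_ti hG (FHall.fittingHallOf_le M) (FHall.le_normalizer_fittingHallOf M) hxK)
  · haveI := hab
    obtain ⟨E, hE⟩ := exists_complement hG hM
    rw [index_eq hK hE]
    have hn := normalizes_plane hr2 hp hAK hAe hAc (FHall.le_normalizer_fittingHallOf M)
    let φ : E →* MulAut A := A.normalizerMonoidHom.comp (Subgroup.inclusion (hE.1.trans hn))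
    have hfree : ∀ (a : E) (v : A), φ a v = v → v ≠ 1 → a = 1 := by
      intro a v hav hv1
      have h1 : (a : G) * v * (a : G)⁻¹ = v := congrArg Subtype.val hav
      have h2 : (a : G) ∈ E ⊓ Cfsg.sigmaCore M := ⟨a.2, hK ▸ F.frob v (hAK v.2) (fun e => hv1 (Subtype.ext e))
        ⟨hE.1 a.2, Subgroup.mem_centralizer_singleton_iff.2 (mul_inv_eq_iff_eq_mul.1 h1)⟩⟩
      rw [hE.2.2.1, Subgroup.mem_bot] at h2
      exact Subtype.ext h2
    have hodd : Odd (Nat.card E) := hG.1.of_dvd_nat (Subgroup.card_subgroup_dvd_card E)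
    have hp2 : p ≠ 2 := fun e => by
      have h := Odd.of_dvd_nat hG.1 (P.order ▸ orderOf_dvd_natCard x : p ∣ Nat.card G)
      rw [e] at h
      exact absurd h (by decide)
    have hexpA : ∀ v : A, v ^ p = 1 := fun v => Subtype.ext (hAe.2 v v.2)
    haveI := MinSimple.isSolvable hG (ne_top_of_le_ne_top hM.1 hE.1)
    haveI hEc : IsMulCommutative E := by
      refine .of_setLike_mul_comm fun a ha b hb => ?_
      refine commutatorElement_eq_one_iff_mul_comm.1 ?_
      have h1 := RankTwoAut.act_derived hp2 hodd hexpA hAc.le φ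
        ((commutator_def E).ge (Subgroup.commutator_mem_commutator (Subgroup.mem_top (⟨a, ha⟩ : E))
          (Subgroup.mem_top (⟨b, hb⟩ : E))))
      rw [← map_pow] at h1
      have h2 : (⁅(⟨a, ha⟩ : E), (⟨b, hb⟩ : E)⁆) ^ p = 1 := hfree _ ⟨x, hxA⟩ (DFunLike.congr_fun h1 _)
        (fun e => P.ne_one (congrArg Subtype.val e))
      have h3 : orderOf ⁅(⟨a, ha⟩ : E), (⟨b, hb⟩ : E)⁆ = 1 := Nat.eq_one_of_dvd_coprimes
        ((hp.coprime_iff_not_dvd.2 fun h => hp.one_lt.ne' (Nat.eq_one_of_dvd_coprimes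
          (ComplBasics.coprime_card hG hM hE) h (P.order ▸ Subgroup.orderOf_dvd_natCard _ P.mem_core))).symm)
        (orderOf_dvd_natCard _) (orderOf_dvd_of_pow_eq_one h2)
      exact congrArg Subtype.val (orderOf_eq_one_iff.1 h3)
    haveI : IsCyclic E := FpfStruct.abelian_cyclic
      (fun e => P.ne_one (Subgroup.mem_bot.1 (e.le hxA))) (hE.1.trans hn) fun a ha ha1 =>
        (Subgroup.eq_bot_iff_forall _).2 fun v hv => by
          by_contra hv1
          refine ha1 (congrArg Subtype.val (hfree ⟨a, ha⟩ ⟨v, hv.1⟩ (Subtype.ext ?_)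
            fun e => hv1 (congrArg Subtype.val e)))
          show a * v * a⁻¹ = v
          rw [← Subgroup.mem_centralizer_singleton_iff.1 hv.2, mul_inv_cancel_right]
    have hscal : ∀ (a : E) (m : ℕ), (∀ v, φ a v = v ^ m) → a = 1 := by
      intro a m ham
      by_contra ha1
      obtain ⟨r, hr, hrd⟩ := Nat.exists_prime_and_dvd fun e => ha1 (orderOf_eq_one_iff.1 e)
      have hpow : ∀ (k : ℕ) (v : A), φ (a ^ k) v = v ^ m ^ k := by
        intro k
        induction k with
        | zero => intro v; simp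
        | succ k ih =>
          intro v
          rw [pow_succ, map_mul, show (φ (a ^ k) * φ a) v = φ (a ^ k) (φ a v) from rfl, ham, map_pow, ih, ← pow_mul,
            pow_succ]
      refine P.no_scalar hG F hE hA hxA hAe hAc hr2 (z := ((a ^ (orderOf a / r) : E) : G)) (SetLike.coe_mem _) hr
        ?_ (m := m ^ (orderOf a / r)) fun v hv => congrArg Subtype.val (hpow _ ⟨v, hv⟩)
      rw [Subgroup.orderOf_coe]
      exact orderOf_pow_orderOf_div (orderOf_pos a).ne' hrd
    have hp' := hp.two_le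
    obtain ⟨j, hj⟩ := hodd
    rcases PlaneCyclic.card_dvd_or ⟨j, hj⟩ hexpA hAc φ hfree hscal with h | h
    · have h2 := Nat.le_of_dvd (by omega) h
      obtain ⟨i, hi⟩ := h
      rcases Nat.lt_or_ge i 2 with hi2 | hi2
      · interval_cases i
        · omega
        · obtain ⟨t, ht⟩ := hp.odd_of_ne_two hp2
          omega
      · have := Nat.mul_le_mul_left (Nat.card E) hi2
        omega
    · obtain ⟨i, hi⟩ := h
      rcases Nat.lt_or_ge i 2 with hi2 | hi2
      · interval_cases i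
        · omega
        · obtain ⟨t, ht⟩ := hp.odd_of_ne_two hp2
          omega
      · have := Nat.mul_le_mul_left (Nat.card E) hi2
        omega
  · have hpK : p ∣ Nat.card (Cfsg.fittingHallOf M) := P.order ▸ Subgroup.orderOf_dvd_natCard _ hxK
    have hd : (Cfsg.fittingHall M).index ∣ p - 1 := by
      have h := hexp p hp hpK
      letI : Fintype M := Fintype.ofFinite M
      rwa [exponent_quotient _ hoddM hI.1.2.2.1 hfr] at h
    obtain ⟨i, hi⟩ := hd
    obtain ⟨j, hj⟩ := hoddM.of_dvd_nat (Cfsg.fittingHall M).index_dvd_card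
    have hp' := hp.two_le
    have hp2 : p ≠ 2 := fun e => by
      have h := Odd.of_dvd_nat hG.1 (P.order ▸ orderOf_dvd_natCard x : p ∣ Nat.card G)
      rw [e] at h
      exact absurd h (by decide)
    rcases Nat.lt_or_ge i 2 with hi2 | hi2
    · interval_cases i
      · omega
      · obtain ⟨t, ht⟩ := hp.odd_of_ne_two hp2
        omega
    · have := Nat.mul_le_mul_left (Cfsg.fittingHall M).index hi2
      omega

/-- A maximal subgroup of Type I that is not a Frobenius group gives the configuration. -/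
theorem exists_cfg (hG : Cfsg.IsMinSimpleOddOrder G) (hV : NoTypeV G) (hIV : NoTypeIV G) (hcyc : TypeThreeCyclic G)
    {L₀ : Subgroup G} {p₀ : ℕ} (b : BadPrime L₀ p₀) : ∃ (L M : Subgroup G) (p : ℕ) (x : G), Cfg L M p x := by
  obtain ⟨L, M, p, x, P⟩ := exists_pre hG b
  exact ⟨L, M, p, x, P.cfg hG (P.typeI hG hV hIV hcyc)⟩

end Cfsg.Agent.OddChar.P12
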