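/-
The character setting of a maximal subgroup of Type I (PF 12.1, 12.2).
-/
import Cfsg.Agent.Lib.OddChar.P12Rho
import Cfsg.Agent.Lib.OddChar.P12Config

set_option autoImplicit false
set_option linter.style.haveILetI false
set_option linter.unusedSectionVars false

namespace Cfsg.Agent.OddChar.P12

open scoped ComplexConjugate Classical
open Cfsg.Agent.OddOrder

universe u

section Abstract

variable {L : Type u} [Group L] [Finite L] (H : Subgroup L) [hH : H.Normal]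

/-- If `u` has no fixed points on `H`, neither has any element of `H u`. -/
theorem hasFixed_coset {u n : L} (hn : n ∈ H) (hx : HasFixed H (n * u)) : HasFixed H u := by
  by_contra hno
  let F : H → H := fun h => ⟨(h : L) * u * (h : L)⁻¹ * u⁻¹, by
    rw [show (h : L) * u * (h : L)⁻¹ * u⁻¹ = (h : L) * (u * (h : L)⁻¹ * u⁻¹) by group]
    exact H.mul_mem h.2 (hH.conj_mem _ (H.inv_mem h.2) u)⟩
  have hinj : Function.Injective F := by
    intro a b hab
    have e := mul_right_cancel (congrArg Subtype.val hab)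
    by_contra hne
    refine hno ⟨(b : L)⁻¹ * a, H.mul_mem (H.inv_mem b.2) a.2, fun h => hne (Subtype.ext (inv_mul_eq_one.1 h).symm), ?_⟩
    symm
    calc (b : L)⁻¹ * a * u = (b : L)⁻¹ * ((a : L) * u * (a : L)⁻¹) * a := by group
      _ = (b : L)⁻¹ * ((b : L) * u * (b : L)⁻¹) * a := by rw [show (a : L) * u * (a : L)⁻¹ = _ from e]
      _ = u * ((b : L)⁻¹ * a) := by group
  obtain ⟨h, hh⟩ := Finite.surjective_of_injective hinj ⟨n, hn⟩
  have e : (h : L) * u * (h : L)⁻¹ = n * u := by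
    rw [← show (h : L) * u * (h : L)⁻¹ * u⁻¹ = n from congrArg Subtype.val hh]; group
  obtain ⟨k, hk, hk1, hc⟩ := hx
  refine hno ⟨(h : L)⁻¹ * k * h, H.mul_mem (H.mul_mem (H.inv_mem h.2) hk) h.2, fun e' => hk1 ?_, ?_⟩
  · exact conj_eq_one_iff.1 (show (h : L)⁻¹ * k * (h : L)⁻¹⁻¹ = 1 by rw [inv_inv]; exact e')
  · rw [← e] at hc
    calc u * ((h : L)⁻¹ * k * h) = (h : L)⁻¹ * ((h : L) * u * (h : L)⁻¹ * k) * h := by group
      _ = (h : L)⁻¹ * (k * ((h : L) * u * (h : L)⁻¹)) * h := by rw [hc]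
      _ = (h : L)⁻¹ * k * h * u := by group

end Abstract

variable {G : Type u} [Group G] [Finite G] {L : Subgroup G}

theorem inertiaSetting_of_typeI [Fintype L] (hI : Cfsg.IsOfTypeI L) : InertiaSetting (Cfsg.fittingHall L) := by
  obtain ⟨-, hodd, -, -, U, -, hUc, ⟨U₁, hU₁, -, hab, hcent⟩, -⟩ := hI.1
  refine ⟨(FHall.isNNH_fittingHall (G := L)).2.2, hodd, fun x y hx hy => ?_⟩
  have key : ∀ z : L, HasFixed (Cfsg.fittingHall L) z →
      ∃ u ∈ U₁, (z : L ⧸ Cfsg.fittingHall L) = (u : L ⧸ Cfsg.fittingHall L) := by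
    intro z hz
    obtain ⟨⟨n, v⟩, e, -⟩ := hUc.existsUnique z
    simp only at e
    obtain ⟨k, hk, hk1, hc⟩ := hasFixed_coset _ n.2 (e ▸ hz)
    refine ⟨v, hcent k hk hk1 ⟨v.2, Subgroup.mem_centralizer_singleton_iff.2 hc⟩, ?_⟩
    rw [← e, QuotientGroup.mk_mul, (QuotientGroup.eq_one_iff _).2 n.2, one_mul]
  obtain ⟨a, ha, ea⟩ := key x hx
  obtain ⟨b, hb, eb⟩ := key y hy
  rw [← QuotientGroup.eq_one_iff]
  simp only [QuotientGroup.mk_mul, QuotientGroup.mk_inv]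
  rw [ea, eb, ← QuotientGroup.mk_mul, show a * b = b * a from congrArg Subtype.val (hab.is_comm.comm (⟨a, ha⟩ : U₁) ⟨b, hb⟩)]
  simp

variable (hG : Cfsg.IsMinSimpleOddOrder G)

theorem mem_fittingHall_iff {x : L} : x ∈ Cfsg.fittingHall L ↔ (x : G) ∈ Cfsg.fittingHallOf L :=
  ⟨fun h => ⟨x, h, rfl⟩, fun ⟨y, hy, e⟩ => Subtype.ext e ▸ hy⟩

/-- Membership of `A(L)` for Type I. -/
theorem mem_typeA_of_typeI (hI : Cfsg.IsOfTypeI L) {x : L} :
    (x : G) ∈ Cfsg.typeA L ↔ x ≠ 1 ∧ HasFixed (Cfsg.fittingHall L) x := by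
  rw [Cfsg.typeA, if_pos hI]
  constructor
  · rintro ⟨-, hx1, _, ⟨k, hk, rfl⟩, hk1, hc⟩
    exact ⟨fun e => hx1 (by rw [e]; rfl), k, hk, fun e => hk1 (by rw [e]; rfl), Subtype.ext hc⟩
  · rintro ⟨hx1, k, hk, hk1, hc⟩
    exact ⟨x.2, fun e => hx1 (Subtype.ext e), k, mem_fittingHall_iff.1 hk, fun e => hk1 (Subtype.ext e),
      congrArg Subtype.val hc⟩

theorem nonTriv_supp [Fintype L] (hI : Cfsg.IsOfTypeI L) :
    ∀ φ ∈ nonTriv (Cfsg.fittingHall L), ∀ x : L, x ≠ 1 → (x : G) ∉ Cfsg.typeA L → φ x = 0 := by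
  intro φ hφ x hx1 hx
  refine vanish_of_fpf (Cfsg.fittingHall L) hφ.1 hφ.2 fun h hh hc => ?_
  by_contra hh1
  exact hx ((mem_typeA_of_typeI hI).2 ⟨hx1, h, hh, hh1, hc.symm⟩)

include hG in
theorem dade_typeA (hL : IsCoatom L) : Cfsg.DadeHypothesis (Cfsg.typeA L) L (Cfsg.supportR L) :=
  TypeA.hypothesis hG hL _ (fun _ ha => Or.inl ha) fun _ hy _ ha => TypeA.typeA_conj hG hL hy ha

include hG in
/-- Outside the kernel the support is trivial. -/
theorem supportR_outer (hL : IsCoatom L) (hI : Cfsg.IsOfTypeI L) {x : G} (hx : x ∈ Cfsg.typeA L)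
    (hH : x ∉ Cfsg.fittingHallOf L) : Cfsg.supportR L x = ⊥ := by
  refine TypeA.supportR_eq_bot hG hL ?_
  by_contra hno
  exact hH (kernel_eq hG hL hI ▸ (TypeA.mem_sigma_of_large hG hL (Or.inl hx) hno).1)

end Cfsg.Agent.OddChar.P12
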