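/-
Orthogonality of the two Dade maps in PF 12.7.
-/
import Cfsg.Agent.Lib.OddChar.P12Setup
import Cfsg.Agent.Lib.OddChar.P12TypeOne
import Cfsg.Agent.Lib.Char.Degree
import Cfsg.Agent.S1539

set_option autoImplicit false
set_option linter.style.haveILetI false
set_option linter.unusedSectionVars false

namespace Cfsg.Agent.OddChar.P12

open scoped ComplexConjugate Classical
open Cfsg.Agent.Char Cfsg.Agent.OddOrder Cfsg.Agent.OddOrder.Exceptional Cfsg.Agent.OddOrder.Support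

universe u

/-- A virtual character that is not trivial on `H` sums to zero over each coset of `H`. -/
theorem span_coset_sum {X : Type u} [Group X] [Fintype X] (H : Subgroup X) [H.Normal] [Fintype H] {β : X → ℂ}
    (hβ : β ∈ Cfsg.zspan (nonTriv H)) (g : X) : ∑ n : H, β ((n : X) * g) = 0 := by
  induction hβ using Submodule.span_induction with
  | mem φ hφ =>
    rw [← CharX.sum_coset_eq_zero hφ.1 H hφ.2 g]
    refine Finset.sum_congr rfl fun n _ => ?_
    rw [← IsCharacter.isClassFunction (IsIrrCharacter.isCharacter hφ.1) ((n : X) * g) g]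
    congr 1
    group
  | zero => simp
  | add a b _ _ ha hb => simp only [Pi.add_apply, Finset.sum_add_distrib, ha, hb, add_zero]
  | smul n a _ ha => simp only [Pi.smul_apply, ← Finset.smul_sum, ha, smul_zero]

variable {G : Type u} [Group G] [Fintype G] {L M : Subgroup G} [Fintype L] [Fintype M]

theorem rho_dade_eq_zero (hG : Cfsg.IsMinSimpleOddOrder G) (hL : IsCoatom L) (hI : Cfsg.IsOfTypeI L)
    (F : FrobOne M) (hnc : ∀ g : G, L.map (MulAut.conj g).toMonoidHom ≠ M)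
    (hdis : Cfsg.tildeOf L (Cfsg.typeA1 L) ∩ Cfsg.tildeOf M (Cfsg.typeA M) = ∅)
    {β : L → ℂ} (hβ : β ∈ Cfsg.zspanOn (nonTriv (Cfsg.fittingHall L)) ({1}ᶜ : Set L))
    (a : M) :
    rho (Cfsg.typeA M) M (Cfsg.supportR M) (Cfsg.dadeIsometry (Cfsg.typeA L) L (Cfsg.supportR L) β) a = 0 := by
  by_cases haA : (a : G) ∈ Cfsg.typeA M
  swap
  · exact if_neg haA
  have hM := F.coatom
  have hDL := dade_typeA hG hL
  have hβc : Cfsg.IsClassFunction L β :=
    IsGeneralizedCharacter.isClassFunction (Coherence.zspan_gen (fun _ hφ => Coherence.irr_gen hφ.1) hβ.1)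
  set f := Cfsg.dadeIsometry (Cfsg.typeA L) L (Cfsg.supportR L) β with hf
  have hfc : Cfsg.IsClassFunction G f := Dade.isClassFunction_dade hDL hβc
  rw [rho_of_mem haA]
  by_cases hall : ∀ u ∈ Cfsg.supportR M (a : G), f ((a : G) * u) = 0
  · rw [Finset.sum_eq_zero fun u hu => hall u (Dade.mem_fin.1 hu), mul_zero]
  push Not at hall
  obtain ⟨u₀, hu₀, hne⟩ := hall
  obtain ⟨b, hb, hcos⟩ : ∃ b ∈ Cfsg.typeA L, (a : G) * u₀ ∈ Dade.coset (Cfsg.supportR L) b := by
    by_contra h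
    push Not at h
    exact hne (Dade.dadeIsometry_zero hDL h)
  obtain ⟨v, hv, z, hz⟩ := Dade.mem_coset.1 hcos
  have hK := fitting_eq_sigma hG F
  obtain ⟨haK, ha1⟩ := (mem_typeA_iff hG F).1 haA
  rw [hK] at haK
  set H := Cfsg.fittingHallOf L with hH
  have hHσ := kernel_eq hG hL hI
  by_cases hbH : b ∈ H
  · refine absurd hdis (Set.nonempty_iff_ne_empty.1 ⟨(a : G) * u₀, ⟨b, ?_, v, hv, z⁻¹, ?_⟩, a, haA, u₀, hu₀, 1, by group⟩)
    · rw [TypeA.typeA1_eq hG hL]
      exact ⟨hHσ ▸ hbH, fun e => (TypeA.typeA_mem hG hL hb).2.1 e⟩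
    · rw [← hz]; group
  rw [supportR_outer hG hL hI hb hbH, Subgroup.mem_bot] at hv
  rw [hv, mul_one] at hz
  set a' := z * (a : G) * z⁻¹ with ha'
  have hcom := commute_supportR hG hM haK ha1 hu₀
  have hcop : (orderOf u₀).Coprime (orderOf (a : G)) := by
    rcases supportR_cases hG hM haK ha1 with ⟨-, e⟩ | ⟨N, -, -, -, -, hd, -, e⟩ <;> rw [e] at hu₀
    · rw [Subgroup.mem_bot.1 hu₀, orderOf_one]
      exact Nat.coprime_one_left _
    · exact Nat.coprime_of_dvd fun t ht h1 h2 =>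
        hd t (primes_of_mem_sigmaCore haK ht h2) (primes_of_mem_sigmaCore hu₀.1 ht h1)
  have hzp : a' ∈ Subgroup.zpowers b := by
    have h1 : a' * (z * u₀ * z⁻¹) = b := by rw [← hz, ha']; group
    have hcom' : Commute a' (z * u₀ * z⁻¹) := (Commute.conj_iff z).2 hcom
    have hcop' : (orderOf (z * u₀ * z⁻¹)).Coprime (orderOf a') := by
      rwa [ha', ← MulAut.conj_apply, ← MulAut.conj_apply, MulEquiv.orderOf_eq, MulEquiv.orderOf_eq]
    exact h1 ▸ Pairing.mem_zpowers_mul hcom' hcop'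
  have ha'1 : a' ≠ 1 := fun e => ha1 (conj_eq_one_iff.1 e)
  have ha'A : a' ∈ Cfsg.typeA L := by
    obtain ⟨hbL, -, ⟨w, hw, hw1, hbw⟩, -⟩ := TypeA.typeA_mem hG hL hb
    refine TypeA.mem_typeA hG hL ((Subgroup.zpowers_le.2 hbL) hzp) ha'1 (fun h => absurd hI h) ⟨w, hw, hw1, ?_⟩
    obtain ⟨i, hi⟩ := Subgroup.mem_zpowers_iff.1 hzp
    rw [← hi]
    exact ((show Commute b w from hbw).zpow_left i).eq
  have hM' := coatom_conj hM z
  have hnc' : ∀ g : G, L.map (MulAut.conj g).toMonoidHom ≠ M.map (MulAut.conj z).toMonoidHom := fun g e =>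
    hnc (z⁻¹ * g) (by rw [← Sigma.map_conj_map, e, Supporting.map_back])
  have ha'1A : a' ∈ Cfsg.typeA1 (M.map (MulAut.conj z).toMonoidHom) :=
    Supporting.typeA1_transport hG hM z (by rw [TypeA.typeA1_eq hG hM]; exact ⟨haK, ha1⟩)
  obtain ⟨hno', hle'⟩ := Supporting.centralizer_of_mem hG hM' hL hnc' ha'1A ha'A
  have hno : ¬ Subgroup.centralizer ({(a : G)} : Set G) ≤ M := fun hle => hno' fun d hd =>
    mem_map_conj.2 (hle (centralizer_conj.1 hd))
  have hCN : Subgroup.centralizer ({(a : G)} : Set G) ≤ L.map (MulAut.conj z⁻¹).toMonoidHom := fun d hd =>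
    mem_map_conj.2 (by
      have h1 : z⁻¹⁻¹ * d * z⁻¹ ∈ Subgroup.centralizer ({a'} : Set G) :=
        centralizer_conj.2 (by simpa [mul_assoc] using hd)
      exact hle' h1)
  have hR : ∀ w : G, w ∈ Cfsg.supportR M (a : G) ↔
      z * w * z⁻¹ ∈ H ⊓ Subgroup.centralizer ({a'} : Set G) := by
    intro w
    rcases supportR_cases hG hM haK ha1 with ⟨hle, -⟩ | ⟨N, -, -, -, hu, -, -, e⟩
    · exact absurd hle hno
    rw [e, ← hu _ (coatom_conj hL z⁻¹) hCN, sigmaCore_conj, ← hHσ]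
    constructor
    · rintro ⟨h1, h2⟩
      exact ⟨by simpa using mem_map_conj.1 h1, centralizer_conj.2 (by simpa [mul_assoc] using h2)⟩
    · rintro ⟨h1, h2⟩
      exact ⟨mem_map_conj.2 (by simpa using h1), by simpa [mul_assoc] using centralizer_conj.1 h2⟩
  set C := H ⊓ Subgroup.centralizer ({a'} : Set G) with hC
  have hsum : ∑ u ∈ Dade.fin (Cfsg.supportR M (a : G)), f ((a : G) * u) = ∑ c ∈ Dade.fin C, f (c * a') := by
    refine Finset.sum_nbij (fun w => z * w * z⁻¹) (fun w hw => ?_) (fun w _ w' _ e => by simpa using e) ?_ ?_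
    · rw [Dade.mem_fin] at hw ⊢
      exact (hR w).1 hw
    · intro c hc
      rw [Finset.mem_coe, Dade.mem_fin] at hc
      exact ⟨z⁻¹ * c * z, Dade.mem_fin.2 ((hR _).2 (by simpa [mul_assoc] using hc)), by group⟩
    · intro w hw
      rw [Dade.mem_fin, hR] at hw
      show f _ = f (z * w * z⁻¹ * a')
      have hcw : z * w * z⁻¹ * a' = a' * (z * w * z⁻¹) := Subgroup.mem_centralizer_singleton_iff.1 hw.2
      rw [hcw, ← hfc ((a : G) * w) z, ha']
      congr 1
      group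
  rw [hsum]
  have ha'L : a' ∈ L := (TypeA.typeA_mem hG hL ha'A).1
  have ha'n : a' ∈ Subgroup.normalizer (H : Set G) := FHall.le_normalizer_fittingHallOf L ha'L
  have hcopH : (orderOf a').Coprime (Nat.card H) := Nat.coprime_of_dvd fun t ht h1 h2 => by
    rw [hH, hHσ] at h2
    rw [TypeA.typeA1_eq hG hM'] at ha'1A
    exact Supporting.disjoint hG hM' hL hnc' (primes_of_mem_sigmaCore ha'1A.1 ht h1) (mem_sigma_of_dvd ht h2)
  have key := Dade.sum_coprime_coset H ha'n hcopH hfc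
  rw [← hC] at key
  have hzero : ∑ h ∈ Dade.fin H, f (h * a') = 0 := by
    have hval : ∀ h : Cfsg.fittingHall L, f (((h : L) : G) * a') = β ((h : L) * ⟨a', ha'L⟩) := by
      intro h
      have hhH : ((h : L) : G) ∈ H := mem_fittingHall_iff.1 h.2
      obtain ⟨y, hy, c, hc, hcx, e⟩ := exists_coprime_conj H ha'n hcopH hhH
      have ha'H : a' ∉ H := fun h' => ha'1 (orderOf_eq_one_iff.1
        (Nat.eq_one_of_dvd_coprimes hcopH dvd_rfl (Subgroup.orderOf_dvd_natCard _ h')))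
      have hcA : c * a' ∈ Cfsg.typeA L := by
        by_cases hc1 : c = 1
        · rw [hc1, one_mul]; exact ha'A
        · refine TypeA.mem_typeA hG hL (L.mul_mem (FHall.fittingHallOf_le L hc) ha'L) (fun e' => ha'H ?_)
            (fun h' => absurd hI h') ⟨c, hHσ ▸ hc, hc1, ?_⟩
          · rw [eq_inv_of_mul_eq_one_right e']; exact H.inv_mem hc
          · rw [mul_assoc, ← hcx]
      have hA : ((h : L) : G) * a' ∈ Cfsg.typeA L := by
        have := hDL.conj_mem y⁻¹ (L.inv_mem (FHall.fittingHallOf_le L hy)) _ hcA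
        rwa [← e, show y⁻¹ * (y * (((h : L) : G) * a') * y⁻¹) * y⁻¹⁻¹ = ((h : L) : G) * a' by group] at this
      have hnH : ((h : L) : G) * a' ∉ H := fun h' => ha'H ((H.mul_mem_cancel_left hhH).1 h')
      have := Dade.dadeIsometry_coset hDL hβc hA (u := 1) (one_mem _)
      rw [mul_one] at this
      exact this
    rw [show ∑ h ∈ Dade.fin H, f (h * a') = ∑ h : Cfsg.fittingHall L, f (((h : L) : G) * a') from
      (Finset.sum_nbij (fun h : Cfsg.fittingHall L => ((h : L) : G))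
        (fun h _ => Dade.mem_fin.2 (mem_fittingHall_iff.1 h.2))
        (fun a _ b _ e => Subtype.ext (Subtype.ext e))
        (fun g hg => by
          rw [Finset.mem_coe, Dade.mem_fin] at hg
          exact ⟨⟨⟨g, FHall.fittingHallOf_le L hg⟩, mem_fittingHall_iff.2 hg⟩, by simp, rfl⟩)
        fun _ _ => rfl).symm, Finset.sum_congr rfl fun h _ => hval h]
    exact span_coset_sum (Cfsg.fittingHall L) hβ.1 _
  rw [hzero, mul_zero] at key
  have hC0 : (Nat.card C : ℂ)⁻¹ ≠ 0 := inv_ne_zero (Nat.cast_ne_zero.mpr Nat.card_pos.ne')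
  rw [(mul_eq_zero.1 key.symm).resolve_left hC0, mul_zero]

/-- The two Dade maps have orthogonal images. -/
theorem inner_dade_eq_zero (hG : Cfsg.IsMinSimpleOddOrder G) (hL : IsCoatom L) (hI : Cfsg.IsOfTypeI L)
    (F : FrobOne M) (hnc : ∀ g : G, L.map (MulAut.conj g).toMonoidHom ≠ M)
    (hdis : Cfsg.tildeOf L (Cfsg.typeA1 L) ∩ Cfsg.tildeOf M (Cfsg.typeA M) = ∅)
    {α : M → ℂ} (hα : α ∈ Cfsg.zspanOn (Cfsg.inducedIrrAbove (Cfsg.fittingHall M) ⊥) ({1}ᶜ : Set M))
    {β : L → ℂ} (hβ : β ∈ Cfsg.zspanOn (nonTriv (Cfsg.fittingHall L)) ({1}ᶜ : Set L)) :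
    Cfsg.classInner (Cfsg.dadeIsometry (Cfsg.typeA M) M (Cfsg.supportR M) α)
      (Cfsg.dadeIsometry (Cfsg.typeA L) L (Cfsg.supportR L) β) = 0 := by
  rw [inner_rho (dade_hyp hG F)
    (IsGeneralizedCharacter.isClassFunction (Coherence.zspan_gen (fun _ hφ => above_gen _ hφ) hα.1))
    (supp_of_span hG F hα)
    (Dade.isClassFunction_dade (dade_typeA hG hL)
      (IsGeneralizedCharacter.isClassFunction (Coherence.zspan_gen (fun _ hφ => Coherence.irr_gen hφ.1) hβ.1))),
    funext (rho_dade_eq_zero hG hL hI F hnc hdis hβ)]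
  simp [Cfsg.classInner]

end Cfsg.Agent.OddChar.P12
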