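/-
Averaged character values: integrality and congruences (PF 12.7).
-/
import Cfsg.Agent.Lib.Char.GlaubermanMod
import Cfsg.Agent.Lib.Char.GaloisRat
import Cfsg.Agent.Lib.Char.Degree
import Cfsg.Agent.Lib.Blocks.Congr
import Cfsg.Agent.Lib.Blocks.SubsectionRow
import Cfsg.Agent.Lib.Char.Dade

set_option autoImplicit false
set_option linter.style.haveILetI false
set_option linter.unusedSectionVars false

namespace Cfsg.Agent.OddChar.P12

open scoped ComplexConjugate Classical
open Cfsg.Agent.Char Cfsg.Agent.Blocks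

universe u

variable {G : Type u} [Group G] [Fintype G]

/-- The average of a character over a coset of a centralised subgroup is an algebraic integer. -/
theorem isIntegral_avg {χ : G → ℂ} (hχ : Cfsg.IsCharacter G χ) {h : G} {R : Subgroup G}
    (hR : R ≤ Subgroup.centralizer ({h} : Set G)) :
    IsIntegral ℤ ((Nat.card R : ℂ)⁻¹ * ∑ r ∈ Dade.fin R, χ (h * r)) := by
  set B := Subgroup.zpowers h ⊔ R with hB
  have hn : B ≤ Subgroup.normalizer (R : Set G) := by
    refine sup_le (Subgroup.zpowers_le.2 (Subgroup.mem_normalizer_iff.2 fun r => ?_)) Subgroup.le_normalizer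
    have key : ∀ r ∈ R, h * r * h⁻¹ = r := fun r hr => by
      rw [← Subgroup.mem_centralizer_singleton_iff.1 (hR hr), mul_inv_cancel_right]
    refine ⟨fun hr => by rwa [key r hr], fun hr => ?_⟩
    have h1 : h⁻¹ * (h * r * h⁻¹) * h = h * r * h⁻¹ := by
      have := key _ hr
      calc h⁻¹ * (h * r * h⁻¹) * h = h⁻¹ * (h * (h * r * h⁻¹) * h⁻¹) * h := by rw [this]
        _ = h * r * h⁻¹ := by group
 
    rw [show h⁻¹ * (h * r * h⁻¹) * h = r by group] at h1
    exact h1 ▸ hr
  haveI : (R.subgroupOf B).Normal := Subgroup.normal_subgroupOf_of_le_normalizer hn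
  haveI : Fintype B := Fintype.ofFinite B
  haveI : Fintype (R.subgroupOf B) := Fintype.ofFinite _
  have hhB : h ∈ B := Subgroup.mem_sup_left (Subgroup.mem_zpowers h)
  have hRB : R ≤ B := le_sup_right
  have hsum : ∑ r ∈ Dade.fin R, χ (h * r) = ∑ n : R.subgroupOf B, χ ((⟨h, hhB⟩ * (n : B) : B) : G) :=
    (Finset.sum_nbij (fun n : R.subgroupOf B => ((n : B) : G)) (fun n _ => Dade.mem_fin.2 n.2)
      (fun a _ b _ e => Subtype.ext (Subtype.ext e))
      (fun g hg => by
        rw [Finset.mem_coe, Dade.mem_fin] at hg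
        exact ⟨⟨⟨g, hRB hg⟩, hg⟩, by simp, rfl⟩)
      fun _ _ => rfl).symm
  obtain ⟨c, hc⟩ := IsCharacter.exists_decomp (IsCharacter.restrict hχ B)
  have hval : ∀ b : B, χ (b : G) = ∑ ψ : Cfsg.IrrCharacter B, (c ψ : ℂ) * (ψ : B → ℂ) b := fun b => by
    simpa [Finset.sum_apply] using congrFun hc b
  rw [hsum, Finset.sum_congr rfl fun n _ => hval _, Finset.sum_comm, Finset.mul_sum]
  refine IsIntegral.sum _ fun ψ _ => ?_
  rw [← Finset.mul_sum, mul_left_comm]
  refine IsIntegral.mul (isIntegral_algebraMap (x := (c ψ : ℤ))) ?_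
  by_cases hnt : ∃ x ∈ R.subgroupOf B, (ψ : B → ℂ) x ≠ (ψ : B → ℂ) 1
  · rw [CharX.sum_coset_eq_zero ψ.2 _ hnt, mul_zero]
    exact isIntegral_zero
  · push Not at hnt
    obtain ⟨N, -, hN, hN'⟩ := IsCharacter.exists_kernel (IsIrrCharacter.isCharacter ψ.2)
    have hcl := IsCharacter.isClassFunction (IsIrrCharacter.isCharacter ψ.2)
    have hconst : ∀ n : R.subgroupOf B, (ψ : B → ℂ) (⟨h, hhB⟩ * (n : B)) = (ψ : B → ℂ) ⟨h, hhB⟩ := fun n => by
      rw [← hcl (⟨h, hhB⟩ * (n : B)) (n : B)]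
      simp only [mul_assoc, mul_inv_cancel, mul_one]
      exact hN' _ ((hN _).2 (hnt _ n.2)) _
    rw [Finset.sum_congr rfl fun n _ => hconst n, Finset.sum_const, nsmul_eq_mul, Finset.card_univ,
      ← Nat.card_eq_fintype_card, Nat.card_congr (Subgroup.subgroupOfEquivOfLe hRB).toEquiv, ← mul_assoc,
      inv_mul_cancel₀ (Nat.cast_ne_zero.mpr Nat.card_pos.ne'), one_mul]
    exact IsCharacter.isIntegral (IsIrrCharacter.isCharacter ψ.2) _

/-- A Galois invariant average is an integer. -/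
theorem avg_int {χ : G → ℂ} (hχ : Cfsg.IsCharacter G χ) {h : G} {R : Subgroup G}
    (hR : R ≤ Subgroup.centralizer ({h} : Set G))
    (hinv : ∀ k : ℕ, k.Coprime (Nat.card G) →
      (Nat.card R : ℂ)⁻¹ * ∑ r ∈ Dade.fin R, χ (h ^ k * r) = (Nat.card R : ℂ)⁻¹ * ∑ r ∈ Dade.fin R, χ (h * r)) :
    ∃ d : ℤ, (Nat.card R : ℂ)⁻¹ * ∑ r ∈ Dade.fin R, χ (h * r) = (d : ℂ) := by
  have hint := isIntegral_avg hχ hR
  obtain ⟨q, hq⟩ := CharGalois.eq_rat_of_fixed hint fun σ => by
    obtain ⟨k, hk, hσ⟩ := CharGalois.exists_exponent σ.toRingHom (Nat.card_pos (α := G)).ne'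
    conv_rhs => rw [← hinv k hk]
    rw [map_mul, map_inv₀, map_natCast, map_sum]
    congr 1
    refine Finset.sum_nbij (fun r => r ^ k) (fun r hr => ?_) ?_ ?_ fun r hr => ?_
    · rw [Dade.mem_fin] at hr ⊢
      exact R.pow_mem hr k
    · exact fun a _ b _ e => (powCoprime hk.symm).injective e
    · intro r hr
      rw [Finset.mem_coe, Dade.mem_fin] at hr
      have hk' : (Nat.card R).Coprime k := hk.symm.coprime_dvd_left (Subgroup.card_subgroup_dvd_card R)
      obtain ⟨s, hs⟩ := (powCoprime hk').surjective ⟨r, hr⟩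
      exact ⟨s, Dade.mem_fin.2 s.2, congrArg Subtype.val hs⟩
    · rw [Dade.mem_fin] at hr
      show σ (χ (h * r)) = χ (h ^ k * r ^ k)
      rw [← (show Commute h r from (Subgroup.mem_centralizer_singleton_iff.1 (hR hr)).symm).mul_pow]
      exact CharGalois.map_char hχ σ.toRingHom hσ (h * r)
  rw [hq] at hint
  obtain ⟨n, hn⟩ := Char.exists_int_of_isIntegral hint
  exact ⟨n, by rw [hq, hn]; norm_num⟩

/-- A fixed-point-free element of order `p` forces the congruence. -/
theorem avg_congr {χ : G → ℂ} (hχ : Cfsg.IsCharacter G χ) {p : ℕ} (hp : p.Prime) {x h : G} {R : Subgroup G}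
    (hxp : orderOf x = p) (hxh : x * h = h * x) (hph : ¬ p ∣ orderOf h)
    (hn : ∀ r ∈ R, x * r * x⁻¹ ∈ R) (hfpf : ∀ r ∈ R, x * r = r * x → r = 1)
    {d : ℤ} (hd : (Nat.card R : ℂ)⁻¹ * ∑ r ∈ Dade.fin R, χ (h * r) = (d : ℂ))
    (hval : χ (x * h) = χ x) {M₀ : Type u} [Group M₀] [Fintype M₀] {ζ : M₀ → ℂ} (hζ : Cfsg.IsCharacter M₀ ζ)
    {y : M₀} (hy : orderOf y = p) {s : ℤ} {e : ℕ} (he : ζ 1 = (e : ℂ)) (hxy : χ x = (s : ℂ) * ζ y) :
    (p : ℤ) ∣ d - s * (e : ℤ) := by
  haveI := Fact.mk hp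
  obtain ⟨M, hM⟩ := GlaubermanMod.exists_isPModular p
  haveI : M.IsPrime := hM.2.1.isPrime
  let Z := Subgroup.zpowers x
  have hxn : x ∈ Subgroup.normalizer (R : Set G) :=
    Subgroup.mem_normalizer_iff_map_conj_eq.2 (Subgroup.eq_of_le_of_card_ge
      (fun z hz => by obtain ⟨r, hr, rfl⟩ := hz; exact hn r hr)
      (Subgroup.card_map_of_injective (MulAut.conj x).injective).ge)
  let φ : Z →* MulAut R := R.normalizerMonoidHom.comp (Subgroup.inclusion (Subgroup.zpowers_le.2 hxn))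
  letI : MulAction Z R := MulAction.compHom R φ
  have hsmul : ∀ (u : Z) (r : R), ((u • r : R) : G) = (u : G) * r * (u : G)⁻¹ := fun _ _ => rfl
  haveI : Fintype R := Fintype.ofFinite R
  have hZp : IsPGroup p Z := IsPGroup.of_card (n := 1) (by rw [Nat.card_zpowers, hxp, pow_one])
  have hfix : ∀ r : R, r ∈ MulAction.fixedPoints Z R ↔ r = 1 := fun r => by
    refine ⟨fun hr => ?_, fun hr u => ?_⟩
    · have := congrArg Subtype.val (hr ⟨x, Subgroup.mem_zpowers x⟩)
      rw [hsmul] at this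
      exact Subtype.ext (hfpf r r.2 (mul_inv_eq_iff_eq_mul.1 this))
    · subst hr
      exact Subtype.ext (by rw [hsmul]; simp)
  have hcard : (p : ℤ) ∣ (Nat.card R : ℤ) - 1 := by
    have h1 := hZp.card_modEq_card_fixedPoints R
    have h2 : MulAction.fixedPoints Z R = {1} := Set.ext fun r => by rw [hfix]; rfl
    rw [h2, Nat.card_coe_set_eq, Set.ncard_singleton] at h1
    exact Nat.modEq_iff_dvd.1 h1.symm
  have hintχ : ∀ g : G, MemLocalRing M (χ g) := fun g => mem_locRing_of_isIntegral (IsCharacter.isIntegral hχ g)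
  have hc1 : MemLocalIdeal M (∑ r : R, χ (h * r) - χ h) := by
    have hz : ∀ u : Z, Commute (u : G) h := fun u => by
      obtain ⟨i, hi⟩ := Subgroup.mem_zpowers_iff.1 u.2
      rw [← hi]
      exact (show Commute x h from hxh).zpow_left i
    have := GlaubermanMod.sum_sub_fixed_mem (R := Z) hZp hM (α := R) (fun r => χ (h * r)) (fun r => hintχ _)
      fun u r => by
        show χ (h * ((u • r : R) : G)) = χ (h * r)
        rw [hsmul, ← IsCharacter.isClassFunction hχ (h * r) (u : G)]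
        congr 1
        calc h * ((u : G) * r * (u : G)⁻¹) = h * (u : G) * r * (u : G)⁻¹ := by group
          _ = (u : G) * h * r * (u : G)⁻¹ := by rw [(hz u).eq]
          _ = (u : G) * (h * r) * (u : G)⁻¹ := by group
    rw [show Finset.univ.filter (· ∈ MulAction.fixedPoints Z R) = {(1 : R)} by
      ext r; simp [hfix], Finset.sum_singleton] at this
    simpa using this
  have hsum : ∑ r : R, χ (h * r) = (Nat.card R : ℂ) * (d : ℂ) := by
    rw [← hd, ← mul_assoc, mul_inv_cancel₀ (Nat.cast_ne_zero.mpr Nat.card_pos.ne'), one_mul]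
    exact Finset.sum_nbij (fun r : R => (r : G)) (fun r _ => Dade.mem_fin.2 r.2)
      (fun a _ b _ e => Subtype.ext e)
      (fun g hg => by
        rw [Finset.mem_coe, Dade.mem_fin] at hg
        exact ⟨⟨g, hg⟩, by simp, rfl⟩)
      fun _ _ => rfl
  have hc2 : MemLocalIdeal M (χ (x * h) - χ h) :=
    Blocks.char_congr_regular hM hχ hxh (k := 1) (by rw [hxp, pow_one]) hph
  have hc3 : MemLocalIdeal M (ζ y - ζ 1) := by
    have := Blocks.char_congr_regular hM hζ (Commute.one_right y) (k := 1) (by rw [hy, pow_one])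
      (by rw [orderOf_one]; exact hp.not_dvd_one)
    rwa [mul_one] at this
  have hc4 : MemLocalIdeal M ((s : ℂ) * (ζ y - ζ 1)) :=
    MemLocalIdeal.mul_left (mem_locRing_of_isIntegral (isIntegral_algebraMap (x := s))) hc3
  have h5 : MemLocalIdeal M ((((Nat.card R : ℤ) * d - s * (e : ℤ) : ℤ)) : ℂ) := by
    have h := MemLocalIdeal.add (MemLocalIdeal.sub hc1 hc2) hc4
    rw [hsum, hval, hxy, he] at h
    convert h using 1
    push_cast
    ring
  have h6 := (intCast_memLocalIdeal_iff hM _).1 h5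
  have h7 : (p : ℤ) ∣ ((Nat.card R : ℤ) - 1) * d := hcard.mul_right d
  have h8 := Int.dvd_sub h6 h7
  rwa [show (Nat.card R : ℤ) * d - s * (e : ℤ) - ((Nat.card R : ℤ) - 1) * d = d - s * (e : ℤ) by ring] at h8

end Cfsg.Agent.OddChar.P12
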