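/-
PF 12.7: the configuration is contradictory.
-/
import Cfsg.Agent.Lib.OddChar.P12Minimal
import Cfsg.Agent.Lib.OddChar.P12Orth
import Cfsg.Agent.Lib.OddChar.P12Value
import Cfsg.Agent.Lib.OddChar.P12MSide
import Cfsg.Agent.Lib.Char.CoherenceChief
import Cfsg.Agent.S1525
import Cfsg.Agent.S1537

set_option autoImplicit false
set_option linter.style.haveILetI false
set_option linter.unusedSectionVars false

namespace Cfsg.Agent.OddChar.P12

open scoped ComplexConjugate Classical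
open Cfsg.Agent.Char Cfsg.Agent.OddOrder Cfsg.Agent.OddOrder.Exceptional Cfsg.Agent.OddOrder.Support

universe u

section Small

variable {G : Type u} [Group G] [Finite G]

theorem supportR_congr {M : Subgroup G} {a b : G}
    (h : Subgroup.centralizer ({a} : Set G) = Subgroup.centralizer ({b} : Set G)) :
    Cfsg.supportR M a = Cfsg.supportR M b := by
  simp only [Cfsg.supportR, h]

theorem centralizer_pow {a : G} {k : ℕ} (hk : (orderOf a).Coprime k) :
    Subgroup.centralizer ({a ^ k} : Set G) = Subgroup.centralizer ({a} : Set G) := by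
  obtain ⟨m, hm⟩ := exists_pow_eq_self_of_coprime hk.symm
  ext c
  rw [Subgroup.mem_centralizer_singleton_iff, Subgroup.mem_centralizer_singleton_iff]
  refine ⟨fun h => ?_, fun h => ((show Commute c a from h).pow_right k).eq⟩
  rw [← hm]
  exact ((show Commute c (a ^ k) from h).pow_right m).eq

/-- The derived group of the kernel in the two ambient groups. -/
theorem not_mem_commutator {L : Subgroup G} {y : Cfsg.fittingHall L}
    (h : ((y : L) : G) ∉ ⁅Cfsg.fittingHallOf L, Cfsg.fittingHallOf L⁆) : y ∉ commutator (Cfsg.fittingHall L) := by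
  intro hy
  apply h
  have h1 : ((y : L) : G) ∈ (commutator (Cfsg.fittingHall L)).map (L.subtype.comp (Cfsg.fittingHall L).subtype) :=
    ⟨y, hy, rfl⟩
  rwa [commutator_def, Subgroup.map_commutator, ← MonoidHom.range_eq_map, MonoidHom.range_eq_map,
    ← Subgroup.map_map, ← MonoidHom.range_eq_map (f := (Cfsg.fittingHall L).subtype), Subgroup.range_subtype] at h1

/-- The abelianisation of the kernel of a Type I subgroup does not have order three. -/
theorem index_commutator_ne_three {L : Subgroup G} (hI : Cfsg.IsOfTypeI L) :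
    (commutator (Cfsg.fittingHall L)).index ≠ 3 := by
  intro h3
  obtain ⟨-, hodd, hH1, -, U, hU1, -, -, U₀, hU₀, hexp, hfpf⟩ := hI.1
  set H := Cfsg.fittingHall L
  haveI : Group.IsNilpotent H := (FHall.isNNH_fittingHall (G := L)).2.1
  haveI : H.Normal := Cfsg.fittingHall_normal _
  have hcomm := Chief.comm_of_prime_abelianization (Q := H) (by rw [h3]; exact Nat.prime_three)
  have hbot : commutator H = ⊥ := by
    rw [commutator_def, Subgroup.commutator_eq_bot_iff_le_centralizer]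
    exact fun a _ b _ => hcomm b a
  rw [hbot, Subgroup.index_bot] at h3
  have hU₀bot : U₀ = ⊥ := by
    rw [Subgroup.eq_bot_iff_forall]
    intro u hu
    by_contra hu1
    obtain ⟨k, hk, hk1⟩ := (Subgroup.bot_or_exists_ne_one H).resolve_left hH1
    haveI : IsCyclic H := by
      haveI : Fact (Nat.Prime 3) := ⟨Nat.prime_three⟩
      exact isCyclic_of_prime_card h3
    have hgen : ∀ z ∈ H, z ∈ Subgroup.zpowers k := by
      intro z hz
      have ho : orderOf k = 3 := (Nat.prime_three.eq_one_or_self_of_dvd _ (h3 ▸ Subgroup.orderOf_dvd_natCard H hk)).resolve_left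
        fun e => hk1 (orderOf_eq_one_iff.1 e)
      have : Subgroup.zpowers k = H := Subgroup.eq_of_le_of_card_ge (Subgroup.zpowers_le.2 hk)
        (by rw [Nat.card_zpowers, ho, h3])
      rw [this]; exact hz
    have hk3 : k ^ 3 = 1 := by
      have := pow_card_eq_one' (x := (⟨k, hk⟩ : H))
      rw [h3] at this
      exact congrArg Subtype.val this
    obtain ⟨i, hi⟩ := mem_powers_iff_mem_zpowers.2 (hgen _ ((‹H.Normal›).conj_mem k hk u))
    have hsq : u * (u * k * u⁻¹) * u⁻¹ = k := by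
      have hi' : u * k * u⁻¹ = k ^ i := hi.symm
      rw [hi', ← conj_pow, hi', ← pow_mul]
      have hcases : i % 3 = 1 ∨ i % 3 = 2 := by
        rcases Nat.lt_or_ge (i % 3) 1 with h0 | h0
        · exfalso
          have hd : 3 ∣ i := Nat.dvd_of_mod_eq_zero (by omega)
          obtain ⟨c, rfl⟩ := hd
          rw [pow_mul, hk3, one_pow] at hi'
          exact hk1 (conj_eq_one_iff.1 hi')
        · omega
      have : (i * i) % 3 = 1 := by
        rw [Nat.mul_mod]; rcases hcases with e | e <;> rw [e]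
      rw [← Nat.div_add_mod (i * i) 3, this, pow_add, pow_mul, hk3, one_pow, one_mul, pow_one]
    have h2 : u ^ 2 * k = k * u ^ 2 := by
      rw [← mul_inv_eq_iff_eq_mul]
      calc u ^ 2 * k * (u ^ 2)⁻¹ = u * (u * k * u⁻¹) * u⁻¹ := by rw [pow_two]; group
        _ = k := hsq
    obtain ⟨n, hn⟩ := hodd
    have hu' : u = (u ^ 2) ^ (n + 1) := by
      have h := pow_card_eq_one' (x := u)
      rw [hn] at h
      rw [← pow_mul, show 2 * (n + 1) = 2 * n + 1 + 1 by omega, pow_succ, h, one_mul]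
    refine hk1 (hfpf u hu hu1 k hk ?_)
    rw [hu']
    exact ((show Commute (u ^ 2) k from h2).pow_left (n + 1)).eq
  refine hU1 ((Subgroup.eq_bot_iff_forall _).2 fun z hz => ?_)
  have h1 : Monoid.exponent U = 1 := by
    rw [← hexp, hU₀bot]
    exact Monoid.exp_eq_one_of_subsingleton
  have := Monoid.pow_exponent_eq_one (⟨z, hz⟩ : U)
  rw [h1, pow_one] at this
  exact congrArg Subtype.val this

end Small

variable {G : Type u} [Group G] [Fintype G]

/-- The norm inequality over two disjoint supported sets. -/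
theorem two_sets_lt {A B : Set G} {L M : Subgroup G} [Fintype L] [Fintype M] {R R' : G → Subgroup G}
    (hA : Cfsg.DadeHypothesis A L R) (hB : Cfsg.DadeHypothesis B M R') (χ : Cfsg.IrrCharacter G)
    (hdis : ∀ g : G, (∃ a ∈ A, ∃ u ∈ R a, ∃ x : G, x * g * x⁻¹ = a * u) →
      ¬ ∃ b ∈ B, ∃ u ∈ R' b, ∃ x : G, x * g * x⁻¹ = b * u) :
    (Nat.card L : ℝ)⁻¹ * ∑ a ∈ Finset.univ.filter (fun a : L => (a : G) ∈ A), ‖rho A L R (χ : G → ℂ) a‖ ^ 2 +
      (Nat.card M : ℝ)⁻¹ * ∑ b ∈ Finset.univ.filter (fun b : M => (b : G) ∈ B), ‖rho B M R' (χ : G → ℂ) b‖ ^ 2 < 1 := by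
  have hχc := IsCharacter.isClassFunction (IsIrrCharacter.isCharacter χ.2)
  have conv : ∀ {A : Set G} {L : Subgroup G} [Fintype L] {R : G → Subgroup G},
      Cfsg.DadeHypothesis A L R →
      (Nat.card L : ℝ)⁻¹ * ∑ a ∈ Finset.univ.filter (fun a : L => (a : G) ∈ A), ‖rho A L R (χ : G → ℂ) a‖ ^ 2 ≤
        (Nat.card G : ℝ)⁻¹ * ∑ g ∈ Finset.univ.filter (fun g : G => ∃ a ∈ A, ∃ u ∈ R a, ∃ x : G, x * g * x⁻¹ = a * u),
          ‖(χ : G → ℂ) g‖ ^ 2 := by
    intro A L _ R hA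
    have h := S1525.result A L R hA (χ : G → ℂ) hχc (rho A L R (χ : G → ℂ)) fun a ha => by
      rw [rho_of_mem ha, finsum_mem_eq_sum_of_inter_support_eq (t := Dade.fin (R (a : G))) _ (by ext x; simp)]
    rw [finsum_mem_eq_sum_of_inter_support_eq
        (t := Finset.univ.filter (fun a : L => (a : G) ∈ A)) _ (by ext x; simp),
      finsum_mem_eq_sum_of_inter_support_eq
        (t := Finset.univ.filter (fun g : G => ∃ a ∈ A, ∃ u ∈ R a, ∃ x : G, x * g * x⁻¹ = a * u)) _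
        (by ext x; simp)] at h
    exact h
  refine lt_of_le_of_lt (add_le_add (conv hA) (conv hB)) ?_
  set UA := Finset.univ.filter (fun g : G => ∃ a ∈ A, ∃ u ∈ R a, ∃ x : G, x * g * x⁻¹ = a * u)
  set UB := Finset.univ.filter (fun g : G => ∃ a ∈ B, ∃ u ∈ R' a, ∃ x : G, x * g * x⁻¹ = a * u)
  have hone : ∀ {A : Set G} {L : Subgroup G} {R : G → Subgroup G}, Cfsg.DadeHypothesis A L R →
      ¬ ∃ a ∈ A, ∃ u ∈ R a, ∃ x : G, x * 1 * x⁻¹ = a * u := by
    rintro A L R hA ⟨a, ha, u, hu, x, hx⟩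
    have h1 : a * u = 1 := by rw [← hx]; group
    have ha' : a ∈ R a := by simpa [eq_inv_of_mul_eq_one_left h1] using inv_mem hu
    have : a ∈ R a ⊓ (L ⊓ Subgroup.centralizer ({a} : Set G)) := ⟨ha', Dade.mem_CL hA ha⟩
    rw [hA.inf_eq_bot a ha, Subgroup.mem_bot] at this
    exact hA.one_not_mem (this ▸ ha)
  have h1 : (1 : G) ∉ UA ∪ UB := by
    rw [Finset.mem_union, Finset.mem_filter, Finset.mem_filter]
    rintro (⟨-, h⟩ | ⟨-, h⟩)
    exacts [hone hA h, hone hB h]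
  have hd : Disjoint UA UB := Finset.disjoint_left.2 fun g ha hb =>
    hdis g (Finset.mem_filter.1 ha).2 (Finset.mem_filter.1 hb).2
  have htot : (Nat.card G : ℝ)⁻¹ * ∑ g : G, ‖(χ : G → ℂ) g‖ ^ 2 = 1 := by
    have := classInner_self_irr χ.2
    rw [classInner_self_eq] at this
    exact_mod_cast this
  rw [← mul_add, ← Finset.sum_union hd, ← htot]
  have hpos : (0 : ℝ) < Nat.card G := Nat.cast_pos.mpr Nat.card_pos
  refine mul_lt_mul_of_pos_left ?_ (inv_pos.2 hpos)
  refine Finset.sum_lt_sum_of_subset (Finset.subset_univ _) (Finset.mem_univ 1) h1 ?_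
    fun g _ _ => sq_nonneg _
  have := IsIrrCharacter.one_ne_zero χ.2
  positivity

/-- The final inequality. -/
theorem arith_false {p e k u hc t : ℕ} {d : ℤ} (hp : 2 ≤ p) (he : 3 ≤ e) (heo : Odd e) (hto : Odd t) (ht : 1 < t)
    (ht3 : t ≠ 3) (hsmall : 2 * e ≤ p + 1) {s : ℤ} (hs : s * s = 1) (hd : (p : ℤ) ∣ d - s * (e : ℤ))
    (hu : 3 * u ≤ e * k) (hu0 : 0 < u) (hk : 0 < k) (hh : 0 < hc)
    (hlt : ((u * (t * hc) : ℕ) : ℝ)⁻¹ * (((t * hc - hc : ℕ) : ℝ) * (d : ℝ) ^ 2) +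
      ((e * k : ℕ) : ℝ)⁻¹ * (((e * k : ℕ) : ℝ) - (e : ℝ) ^ 2) < 1) : False := by
  obtain ⟨a, rfl⟩ := heo
  obtain ⟨b, rfl⟩ := hto
  have hd2 : ((2 * a : ℕ) : ℤ) ^ 2 ≤ d ^ 2 := by
    obtain ⟨j, hj⟩ := hd
    rcases Int.eq_one_or_neg_one_of_mul_eq_one hs with rfl | rfl <;>
    · rcases eq_or_ne j 0 with rfl | hj0
      · have : d ^ 2 = ((2 * a + 1 : ℕ) : ℤ) ^ 2 := by
          rw [mul_zero, sub_eq_zero] at hj
          rw [hj]; ring
        rw [this]; push_cast; nlinarith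
      · have hcase : j ≤ -1 ∨ 1 ≤ j := by omega
        have hpa : 4 * (a : ℤ) + 1 ≤ p := by
          have : 2 * (2 * a + 1) ≤ p + 1 := hsmall
          push_cast; omega
        push_cast at hj ⊢
        rcases hcase with h | h
        · have hpj : (p : ℤ) * j ≤ -(p : ℤ) := by
            have := mul_le_mul_of_nonneg_left h (Int.natCast_nonneg p)
            linarith
          have hdn : d ≤ -(2 * (a : ℤ)) := by linarith
          nlinarith
        · have hpj : (p : ℤ) ≤ (p : ℤ) * j := le_mul_of_one_le_right (Int.natCast_nonneg p) h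
          have hdn : 2 * (a : ℤ) ≤ d := by linarith
          nlinarith
  have hlt' : ((2 * b + 1) * hc - hc : ℕ) = 2 * b * hc := by
    rw [add_mul, one_mul, Nat.add_sub_cancel]
  rw [hlt'] at hlt
  push_cast at hlt
  have hu' : (3 : ℝ) * u ≤ (2 * a + 1) * k := by exact_mod_cast hu
  have hd2' : (2 * (a : ℝ)) ^ 2 ≤ (d : ℝ) ^ 2 := by
    have : ((((2 * a : ℕ) : ℤ) ^ 2 : ℤ) : ℝ) ≤ (((d ^ 2 : ℤ)) : ℝ) := by exact_mod_cast hd2
    push_cast at this
    exact this
  have hup : (0 : ℝ) < u := Nat.cast_pos.mpr hu0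
  have hkp : (0 : ℝ) < k := Nat.cast_pos.mpr hk
  have hhp : (0 : ℝ) < hc := Nat.cast_pos.mpr hh
  have hb : (1 : ℝ) ≤ b := by exact_mod_cast (show 1 ≤ b by omega)
  have ha : (1 : ℝ) ≤ a := by exact_mod_cast (show 1 ≤ a by omega)
  have h1 : 2 * (b : ℝ) * (d : ℝ) ^ 2 * k < (2 * a + 1) * (u * (2 * b + 1)) := by
    have e1 : ((u : ℝ) * ((2 * b + 1) * hc))⁻¹ * (2 * b * hc * (d : ℝ) ^ 2) =
        2 * b * (d : ℝ) ^ 2 / (u * (2 * b + 1)) := by field_simp
    have e2 : ((2 * (a : ℝ) + 1) * k)⁻¹ * ((2 * a + 1) * k - (2 * a + 1) ^ 2) = 1 - (2 * a + 1) / k := by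
      field_simp
    rw [e1, e2] at hlt
    have h3 : 2 * (b : ℝ) * (d : ℝ) ^ 2 / (u * (2 * b + 1)) < (2 * a + 1) / k := by linarith
    rw [div_lt_div_iff₀ (by positivity) hkp] at h3
    exact h3
  have h2 : 3 * (2 * (b : ℝ) * (2 * a) ^ 2 * k) < (2 * a + 1) * ((2 * a + 1) * k * (2 * b + 1)) := by
    have h4 : (2 * (b : ℝ) * (2 * a) ^ 2 * k) ≤ 2 * b * (d : ℝ) ^ 2 * k := by gcongr
    have h5 : (2 * (a : ℝ) + 1) * (3 * u * (2 * b + 1)) ≤ (2 * a + 1) * ((2 * a + 1) * k * (2 * b + 1)) := by gcongr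
    linarith
  have h6 : 3 * (2 * (b : ℝ)) * (2 * a) ^ 2 < (2 * a + 1) ^ 2 * (2 * b + 1) := by
    by_contra h
    push Not at h
    have := mul_le_mul_of_nonneg_right h hkp.le
    linarith
  rcases Nat.lt_or_ge a 2 with ha2 | ha2
  · have : (a : ℝ) = 1 := by exact_mod_cast (show a = 1 by omega)
    have hb2 : (2 : ℝ) ≤ b := by exact_mod_cast (show 2 ≤ b by omega)
    rw [this] at h6
    linarith
  · have ha2' : (2 : ℝ) ≤ a := by exact_mod_cast ha2
    nlinarith [mul_le_mul_of_nonneg_right hb (by positivity : (0 : ℝ) ≤ (a : ℝ) ^ 2)]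

theorem card_not_mem {X : Type u} [Group X] [Fintype X] (Y : Subgroup X) :
    (Finset.univ.filter fun x : X => x ∉ Y).card = Nat.card X - Nat.card Y := by
  rw [Finset.filter_not, Finset.card_sdiff, Finset.inter_univ, Finset.card_univ, ← Nat.card_eq_fintype_card]
  congr 1
  rw [← Fintype.card_subtype, ← Nat.card_eq_fintype_card]

/-- The two lower bounds. -/
theorem norm_sum_frob {M : Subgroup G} [Fintype M] (hG : Cfsg.IsMinSimpleOddOrder G) (F : FrobOne M) {ζ : M → ℂ}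
    (hζ : Cfsg.IsIrrCharacter M ζ) (hvan : ∀ x : M, x ∉ Cfsg.fittingHall M → ζ x = 0) {e : ℕ} (he : ζ 1 = (e : ℂ)) :
    ∑ x ∈ Finset.univ.filter (fun x : M => (x : G) ∈ Cfsg.typeA M), ‖ζ x‖ ^ 2 = (Nat.card M : ℝ) - (e : ℝ) ^ 2 := by
  have htot : ∑ x : M, ‖ζ x‖ ^ 2 = (Nat.card M : ℝ) := by
    have h := classInner_self_irr hζ
    rw [classInner_self_eq] at h
    have h' : (Nat.card M : ℝ)⁻¹ * ∑ x : M, ‖ζ x‖ ^ 2 = 1 := by exact_mod_cast h
    rw [inv_mul_eq_iff_eq_mul₀ (Nat.cast_ne_zero.mpr Nat.card_pos.ne'), mul_one] at h'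
    exact h'
  rw [← htot, ← Finset.sum_erase_add _ _ (Finset.mem_univ (1 : M)), he, Complex.norm_natCast, add_sub_cancel_right]
  refine Finset.sum_subset (fun x hx => ?_) fun x hx hx' => ?_
  · rw [Finset.mem_filter, mem_typeA_iff hG F] at hx
    exact Finset.mem_erase.2 ⟨fun e' => hx.2.2 (by rw [e']; rfl), Finset.mem_univ _⟩
  · rw [Finset.mem_filter, mem_typeA_iff hG F] at hx'
    rw [hvan x fun h => hx' ⟨Finset.mem_univ _, mem_fittingHall_iff.1 h, fun e' =>
      (Finset.mem_erase.1 hx).1 (Subtype.ext e')⟩, norm_zero]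
    norm_num

/-- PF 12.7: the configuration is impossible. -/
theorem Cfg.false (hG : Cfsg.IsMinSimpleOddOrder G) {L M : Subgroup G} {p : ℕ} {x : G} (c : Cfg L M p x) : False := by
  haveI : Fintype L := Fintype.ofFinite L
  haveI : Fintype M := Fintype.ofFinite M
  haveI : Fintype (Cfsg.fittingHall L) := Fintype.ofFinite _
  obtain ⟨P, F, hsmall, habel⟩ := c
  obtain ⟨hL, hI, hp, hpH, -⟩ := id P.bad
  have hM := F.coatom
  haveI : (Cfsg.fittingHall L).Normal := Cfsg.fittingHall_normal _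
  set e := (Cfsg.fittingHall M).index with he_def
  have hoddM : Odd (Nat.card M) := F.typeI.1.2.1
  have heodd : Odd e := hoddM.of_dvd_nat (Cfsg.fittingHall M).index_dvd_card
  have he3 : 3 ≤ e := by
    have h1 : e ≠ 1 := fun h => kernel_ne_top hG F (Subgroup.index_eq_one.1 h)
    obtain ⟨a, ha⟩ := heodd
    omega
  have hp5 : 5 ≤ p := by omega
  have hbig : e * (e + 2) + 1 < (commutator (Cfsg.fittingHallOf M)).index := by
    refine lt_of_lt_of_le ?_ habel
    have h1 : 2 * e * (2 * (e + 2)) ≤ (p + 1) * (p + 5) := Nat.mul_le_mul hsmall (by omega)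
    nlinarith
  obtain ⟨χ, ζ, s, hs, hζ, hζ1, hζvan, hρM, horth⟩ := exists_frob_character hG F hbig
  have hχchar := IsIrrCharacter.isCharacter χ.2
  have hxσ := P.mem_core
  have hpσL : p ∉ Cfsg.sigma L := P.bad.not_sigma hG
  have hpσM : p ∈ Cfsg.sigma M := primes_of_mem_sigmaCore hxσ hp P.order.symm.dvd
  have hnc : ∀ g : G, L.map (MulAut.conj g).toMonoidHom ≠ M := fun g h =>
    hpσL ((sigma_conj_iff g).1 (h ▸ hpσM))
  have hnc' : ∀ g : G, M.map (MulAut.conj g).toMonoidHom ≠ L := fun g h =>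
    hpσL (h ▸ (sigma_conj_iff g).2 hpσM)
  obtain ⟨h, hh, hhd, hxh⟩ := P.fixed
  have hh1 : h ≠ 1 := fun e' => hhd (e' ▸ one_mem _)
  have hhL : h ∈ L := FHall.fittingHallOf_le L hh
  have hxA : x ∈ Cfsg.typeA L := by
    rw [Cfsg.typeA, if_pos hI]
    exact ⟨P.mem, P.ne_one, h, hh, hh1, hxh⟩
  have hxM : x ∈ Cfsg.typeA M := (mem_typeA_iff hG F).2 ⟨fitting_eq_sigma hG F ▸ hxσ, P.ne_one⟩
  have hdis : Cfsg.tildeOf L (Cfsg.typeA1 L) ∩ Cfsg.tildeOf M (Cfsg.typeA M) = ∅ := by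
    refine ((S1539.result hG L M hL hM hnc').2.2.2).resolve_right fun h0 => ?_
    refine Set.eq_empty_iff_forall_notMem.1 h0 x ⟨⟨x, ?_, 1, one_mem _, 1, by group⟩, x, hxA, 1, one_mem _, 1, by group⟩
    rw [TypeA.typeA1_eq hG hM]
    exact ⟨hxσ, P.ne_one⟩
  have S := inertiaSetting_of_typeI (L := L) hI
  have hsupp := nonTriv_supp (L := L) hI
  have hDL := dade_typeA hG hL
  have hT := pairMap hDL (Cfsg.fittingHall L) S hsupp
  have hχ : ∀ φ ∈ nonTriv (Cfsg.fittingHall L),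
      Cfsg.classInner (Cfsg.dadeIsometry (Cfsg.typeA L) L (Cfsg.supportR L) (φ - Cfsg.conjFun φ)) (χ : G → ℂ) = 0 := by
    intro φ hφ
    obtain ⟨μ, ν, hne, he'⟩ := hT.exists_pair hφ
    refine horth _ (hT.iso.2.2.2 _ (hT.diff_mem hφ)) ?_ fun α hα =>
      inner_dade_eq_zero hG hL hI F hnc hdis hα (hT.diff_mem hφ)
    rw [he', classInner_sub_left, classInner_sub_right, classInner_sub_right, classInner_self_irr μ.2,
      classInner_self_irr ν.2, classInner_irr_of_ne μ.2 ν.2 fun h => hne (Subtype.ext h),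
      classInner_irr_of_ne ν.2 μ.2 fun h => hne (Subtype.ext h.symm)]
    norm_num
  set FL := rho (Cfsg.typeA L) L (Cfsg.supportR L) (χ : G → ℂ) with hFL
  set xL : L := ⟨x, P.mem⟩ with hxL
  have hxH : x ∉ Cfsg.fittingHallOf L := fun h' => hpH (P.order ▸ Subgroup.orderOf_dvd_natCard _ h')
  have hxLH : xL ∉ Cfsg.fittingHall L := fun h' => hxH (mem_fittingHall_iff.1 h')
  have hcoset : ∀ k ∈ Cfsg.fittingHallOf L, x * k = k * x → (χ : G → ℂ) (x * k) = (χ : G → ℂ) x := by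
    intro k hk hck
    set kL : L := ⟨k, FHall.fittingHallOf_le L hk⟩
    have h1 := rho_coset hDL (Cfsg.fittingHall L) S hsupp hχ hxLH (h := kL) (mem_fittingHall_iff.2 hk)
    have hkA : ((xL * kL : L) : G) ∈ Cfsg.typeA L := by
      show x * k ∈ Cfsg.typeA L
      rw [Cfsg.typeA, if_pos hI]
      refine ⟨L.mul_mem P.mem kL.2, fun e' => hxH (eq_inv_of_mul_eq_one_left e' ▸ Subgroup.inv_mem _ hk), ?_⟩
      by_cases hk1 : k = 1
      · exact ⟨h, hh, hh1, by rw [hk1, mul_one, hxh]⟩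
      · exact ⟨k, hk, hk1, by rw [← mul_assoc, ← hck]⟩
    rw [rho_of_bot hkA (supportR_outer hG hL hI hkA fun h' => hxH ((Subgroup.mul_mem_cancel_right _ hk).1 h')),
      rho_of_bot (a := xL) hxA (supportR_outer hG hL hI hxA hxH)] at h1
    exact h1
  have hRx : Cfsg.supportR M x = Cfsg.fittingHallOf L ⊓ Subgroup.centralizer ({x} : Set G) := by
    rcases supportR_cases hG hM hxσ P.ne_one with ⟨hle, -⟩ | ⟨N, -, -, -, hu, -, -, e'⟩
    · exact absurd hle P.cent_not
    · rw [e', ← hu L hL P.cent_le, kernel_eq hG hL hI]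
  have hval : (χ : G → ℂ) x = (s : ℂ) * ζ ⟨x, P.mem_M⟩ := by
    rw [← hρM ⟨x, P.mem_M⟩ hxM, rho_of_mem (a := (⟨x, P.mem_M⟩ : M)) hxM,
      Finset.sum_congr rfl fun u hu => ?_, Finset.sum_const, Dade.card_fin, nsmul_eq_mul, ← mul_assoc,
      inv_mul_cancel₀ (Nat.cast_ne_zero.mpr Nat.card_pos.ne'), one_mul]
    rw [Dade.mem_fin] at hu
    change u ∈ Cfsg.supportR M x at hu
    rw [hRx] at hu
    exact hcoset u hu.1 (Subgroup.mem_centralizer_singleton_iff.1 hu.2).symm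
  set hLe : L := ⟨h, hhL⟩ with hhLe
  set y : Cfsg.fittingHall L := ⟨hLe, mem_fittingHall_iff.2 hh⟩ with hy
  have hyc : y ∉ commutator (Cfsg.fittingHall L) := not_mem_commutator hhd
  obtain ⟨d₀, hd₀⟩ := rho_derived hDL (Cfsg.fittingHall L) S hsupp hχ
  have hAmem : ∀ k ∈ Cfsg.fittingHallOf L, k ≠ 1 → k ∈ Cfsg.typeA L := fun k hk hk1 => by
    rw [Cfsg.typeA, if_pos hI]
    exact ⟨FHall.fittingHallOf_le L hk, hk1, k, hk, hk1, rfl⟩
  have hhA := hAmem h hh hh1
  set R := Cfsg.supportR L h with hR_def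
  have hRC : R ≤ Subgroup.centralizer ({h} : Set G) := hDL.le_centralizer h hhA
  have havg : (Nat.card R : ℂ)⁻¹ * ∑ r ∈ Dade.fin R, (χ : G → ℂ) (h * r) = d₀ := by
    rw [← hd₀ y hyc, rho_of_mem (a := hLe) hhA]
  have hinv : ∀ k : ℕ, k.Coprime (Nat.card G) →
      (Nat.card R : ℂ)⁻¹ * ∑ r ∈ Dade.fin R, (χ : G → ℂ) (h ^ k * r) =
        (Nat.card R : ℂ)⁻¹ * ∑ r ∈ Dade.fin R, (χ : G → ℂ) (h * r) := by
    intro k hk
    have hok : (orderOf h).Coprime k := hk.symm.coprime_dvd_left (orderOf_dvd_natCard h)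
    have hyk : y ^ k ∉ commutator (Cfsg.fittingHall L) := fun h' => by
      obtain ⟨m, hm⟩ := exists_pow_eq_self_of_coprime (x := y) (n := k) (by
        rw [hy, Subgroup.orderOf_mk, hhLe, Subgroup.orderOf_mk]; exact hok.symm)
      exact hyc (hm ▸ Subgroup.pow_mem _ h' m)
    have hhk1 : h ^ k ≠ 1 := fun e' => hyk (by
      rw [show y ^ k = 1 from Subtype.ext (Subtype.ext (by simpa [hy, hhLe] using e'))]
      exact one_mem _)
    have hkA := hAmem (h ^ k) (Subgroup.pow_mem _ hh k) hhk1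
    have e1 := hd₀ (y ^ k) hyk
    have hco : (((y ^ k : Cfsg.fittingHall L) : L) : G) = h ^ k := by simp [hy, hhLe]
    rw [rho_of_mem (show (((y ^ k : Cfsg.fittingHall L) : L) : G) ∈ Cfsg.typeA L by rw [hco]; exact hkA), hco,
      supportR_congr (centralizer_pow hok), ← hR_def] at e1
    rw [e1, havg]
  obtain ⟨d, hd⟩ := avg_int hχchar hRC hinv
  have hcong : (p : ℤ) ∣ d - s * (e : ℤ) := by
    refine avg_congr hχchar hp P.order hxh (fun hd' => hpH (hd'.trans (Subgroup.orderOf_dvd_natCard _ hh)))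
      (fun r hr => hDL.conj_mem_H h hhA x (Subgroup.mem_centralizer_singleton_iff.2 hxh) r hr) (fun r hr hxr => ?_) hd
      (hcoset h hh hxh) (IsIrrCharacter.isCharacter hζ) (y := (⟨x, P.mem_M⟩ : M))
      (by rw [Subgroup.orderOf_mk]; exact P.order) hζ1 hval
    have : r ∈ R ⊓ (L ⊓ Subgroup.centralizer ({h} : Set G)) :=
      ⟨hr, P.cent_le (Subgroup.mem_centralizer_singleton_iff.2 hxr.symm), hRC hr⟩
    rwa [hDL.inf_eq_bot h hhA, Subgroup.mem_bot] at this
  have hd₀d : d₀ = (d : ℂ) := havg.symm.trans hd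
  set H := Cfsg.fittingHall L with hHdef
  set hc := Nat.card (commutator H) with hhc
  set t := (commutator H).index with htdef
  have hcardH : Nat.card H = t * hc := ((commutator H).index_mul_card).symm
  have hHG : Nat.card (Cfsg.fittingHallOf L) = Nat.card H := Subgroup.card_map_of_injective L.subtype_injective
  set u := Nat.card (M ⊓ L : Subgroup G) with hu_def
  have hcardL : Nat.card L = u * (t * hc) := by
    have h1 := Compl.card_eq P.compl
    rwa [hHG, hcardH, ← hu_def] at h1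
  have hcardM : Nat.card M = e * Nat.card (Cfsg.fittingHall M) := ((Cfsg.fittingHall M).index_mul_card).symm
  have hu3 : 3 * u ≤ e * Nat.card (Cfsg.fittingHall M) := by
    rw [← hcardM]
    obtain ⟨q, hq⟩ := Subgroup.card_dvd_of_le (inf_le_left : M ⊓ L ≤ M)
    have hqodd : Odd q := hoddM.of_dvd_nat (hq ▸ dvd_mul_left q u)
    have hq1 : q ≠ 1 := fun e' => by
      have heq : M ⊓ L = M := Subgroup.eq_of_le_of_card_ge inf_le_left (by rw [hq, e', mul_one])
      refine hnc 1 ?_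
      rw [Sigma.map_conj_one]
      exact (hM.le_iff.1 (inf_eq_left.1 heq)).resolve_left hL.1
    rw [hq, mul_comm 3 u]
    obtain ⟨j, hj⟩ := hqodd
    exact Nat.mul_le_mul_left u (by omega)
  have hHodd : Odd (Nat.card H) :=
    (hI.1.2.1).of_dvd_nat (Subgroup.card_subgroup_dvd_card H)
  have ht1 : 1 < t := by
    have h0 : t ≠ 0 := Subgroup.index_ne_zero_of_finite
    have h1 : t ≠ 1 := fun e' => hyc (by rw [Subgroup.index_eq_one.1 e']; trivial)
    omega
  have hD1 := (S1537.result hG L hL (Cfsg.typeA1 L) (Or.inl rfl)).2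
  have key := two_sets_lt hD1 (dade_hyp hG F) χ (fun g ha hb => by
    obtain ⟨a, ha, v, hv, z, hz⟩ := ha
    obtain ⟨b, hb, w, hw, z', hz'⟩ := hb
    exact Set.eq_empty_iff_forall_notMem.1 hdis g
      ⟨⟨a, ha, v, hv, z⁻¹, by rw [← hz]; group⟩, b, hb, w, hw, z'⁻¹, by rw [← hz']; group⟩)
  have hA1 : ∀ k : G, k ∈ Cfsg.typeA1 L ↔ k ∈ Cfsg.fittingHallOf L ∧ k ≠ 1 := fun k => by
    rw [TypeA.typeA1_eq hG hL, ← kernel_eq hG hL hI]; rfl
  have hLb : (((t * hc - hc : ℕ) : ℝ) * (d : ℝ) ^ 2) ≤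
      ∑ a ∈ Finset.univ.filter (fun a : L => (a : G) ∈ Cfsg.typeA1 L),
        ‖rho (Cfsg.typeA1 L) L (Cfsg.supportR L) (χ : G → ℂ) a‖ ^ 2 := by
    have hsub : (Finset.univ.filter fun k : H => k ∉ commutator H).image (fun k : H => (k : L)) ⊆
        Finset.univ.filter (fun a : L => (a : G) ∈ Cfsg.typeA1 L) := fun a ha => by
      obtain ⟨k, hk, rfl⟩ := Finset.mem_image.1 ha
      exact Finset.mem_filter.2 ⟨Finset.mem_univ _, (hA1 _).2 ⟨mem_fittingHall_iff.1 k.2, fun e' =>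
        (Finset.mem_filter.1 hk).2 (by rw [show k = 1 from Subtype.ext (Subtype.ext e')]; exact one_mem _)⟩⟩
    refine le_trans (le_of_eq ?_) (Finset.sum_le_sum_of_subset_of_nonneg hsub fun _ _ _ => sq_nonneg _)
    rw [Finset.sum_image fun a _ b _ e' => Subtype.ext e', Finset.sum_congr rfl fun k hk => ?_, Finset.sum_const,
      card_not_mem, hcardH, ← hhc, nsmul_eq_mul]
    have hk' := (Finset.mem_filter.1 hk).2
    have hkA1 : ((k : L) : G) ∈ Cfsg.typeA1 L := (hA1 _).2 ⟨mem_fittingHall_iff.1 k.2, fun e' =>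
      hk' (by rw [show k = 1 from Subtype.ext (Subtype.ext e')]; exact one_mem _)⟩
    have e2 := hd₀ k hk'
    rw [rho_of_mem (TypeA.typeA1_sub hG hL hkA1)] at e2
    rw [rho_of_mem hkA1, e2, hd₀d, Complex.norm_intCast, sq_abs]
  have hMb : ∑ b ∈ Finset.univ.filter (fun b : M => (b : G) ∈ Cfsg.typeA M),
      ‖rho (Cfsg.typeA M) M (Cfsg.supportR M) (χ : G → ℂ) b‖ ^ 2 = (Nat.card M : ℝ) - (e : ℝ) ^ 2 := by
    rw [← norm_sum_frob hG F hζ hζvan hζ1]
    refine Finset.sum_congr rfl fun b hb => ?_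
    have hs' : ‖(s : ℂ)‖ = 1 := by
      rcases Int.eq_one_or_neg_one_of_mul_eq_one hs with rfl | rfl <;> simp
    rw [hρM b (Finset.mem_filter.1 hb).2, norm_mul, hs', one_mul]
  rw [hMb] at key
  have hlt := lt_of_le_of_lt (add_le_add (mul_le_mul_of_nonneg_left hLb (by positivity : (0 : ℝ) ≤ (Nat.card L : ℝ)⁻¹)) le_rfl) key
  rw [hcardL, hcardM] at hlt
  refine arith_false (hp.two_le) he3 heodd ?_ ht1 ?_ hsmall hs hcong hu3 Nat.card_pos Nat.card_pos Nat.card_pos hlt
  · exact hHodd.of_dvd_nat (commutator H).index_dvd_card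
  · exact index_commutator_ne_three hI

/-- PF 12.7 (S1540): maximal subgroups of Type I are Frobenius groups. -/
theorem typeOneFrobenius (hG : Cfsg.IsMinSimpleOddOrder G) (hV : NoTypeV G) (hIV : NoTypeIV G)
    (hcyc : TypeThreeCyclic G) : TypeOneFrobenius G := by
  intro M hM hI x hx hx1
  by_contra hno
  obtain ⟨p, hp⟩ := exists_badPrime hM hI hx hx1 hno
  obtain ⟨L, M', p', x', c⟩ := exists_cfg hG hV hIV hcyc hp
  exact c.false hG

end Cfsg.Agent.OddChar.P12
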