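/-
PF 12.17 from the producers of sections 10 and 11.
-/
import Cfsg.Agent.Lib.OddChar.P12False
import Cfsg.Agent.Lib.OddChar.P12AllOne

set_option autoImplicit false

namespace Cfsg.Agent.OddChar.P12

universe u

variable {G : Type u} [Group G] [Finite G]

/-- PF 12.17 given the facts on Types III, IV and V. -/
theorem notAllTypeOne' (hG : Cfsg.IsMinSimpleOddOrder G) (hV : NoTypeV G) (hIV : NoTypeIV G)
    (hcyc : TypeThreeCyclic G) : NotAllTypeOne G := by
  haveI : Fintype G := Fintype.ofFinite G
  exact notAllTypeOne hG (typeOneFrobenius hG hV hIV hcyc)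

end Cfsg.Agent.OddChar.P12
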