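/-
The dependency chain of Peterfalvi sections 10-14, from the open producers to the consumers.
-/
import Cfsg.Agent.Lib.OddChar.Assembly
import Cfsg.Agent.Lib.OddChar.P12Final
import Cfsg.Agent.Lib.OddChar.P13.Normalizer
import Cfsg.Agent.Lib.OddChar.P13.Trivial
import Cfsg.Agent.Lib.OddChar.P14.NormalizerU
import Cfsg.Agent.Lib.OddChar.PF10.NoTypeV

set_option autoImplicit false

namespace Cfsg.Agent.OddChar.Chain

universe u

variable {G : Type u} [Group G] [Finite G] (hG : Cfsg.IsMinSimpleOddOrder G)
include hG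

/-- PF 10.10. -/
theorem noTypeV : NoTypeV G :=
  haveI := Fintype.ofFinite G
  P10.noTypeV hG

/-- PF 10.11. -/
theorem pairPrimes : PairPrimes G := P10.pairPrimes hG (noTypeV hG)

variable (hIV : NoTypeIV G)
include hIV

/-- S1543. -/
theorem pairFacts (h3 : TypeThreeFacts G) : PairFacts G :=
  P13.pairFacts hG (noTypeV hG) hIV h3 (pairPrimes hG)

/-- S1547. -/
theorem pairCentralizerTrivial (h3 : TypeThreeFacts G) : PairCentralizerTrivial G :=
  P13.pairCentralizerTrivial hG (noTypeV hG) hIV h3 (pairPrimes hG)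

/-- S1548. -/
theorem pairNormalizer (h3 : TypeThreeFacts G) : PairNormalizer G :=
  P13.pairNormalizer hG (noTypeV hG) hIV h3 (pairPrimes hG) (pairCentralizerTrivial hG hIV h3)

/-- S1540. -/
theorem typeOneFrobenius (hcyc : TypeThreeCyclic G) : TypeOneFrobenius G :=
  haveI := Fintype.ofFinite G
  P12.typeOneFrobenius hG (noTypeV hG) hIV hcyc

/-- S1549. -/
theorem normalizerUMaximal (h3 : TypeThreeFacts G) (hcyc : TypeThreeCyclic G) : NormalizerUMaximal G :=
  P14.normalizerUMaximal hG (typeOneFrobenius hG hIV hcyc) (pairFacts hG hIV h3) (pairNormalizer hG hIV h3)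

/-- The contradiction, given the structure of pairs. -/
theorem false_of_producers (hcyc : TypeThreeCyclic G) (hst : Assembly.PairStructure G) : False := by
  obtain ⟨p, q, h⟩ := Assembly.parabolicTypeExists hG
    (Assembly.pairExists hG (P12.notAllTypeOne' hG (noTypeV hG) hIV hcyc)) hst
  exact S2016.result hG p q h

end Cfsg.Agent.OddChar.Chain
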