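/-
The end of Peterfalvi sections 10-14: the odd order theorem from the last two inputs (cyclicity in
section 11 and the structure of pairs).
-/
import Cfsg.Agent.Lib.OddChar.Chain
import Cfsg.Agent.Lib.OddChar.S11.Main
import Cfsg.Agent.Lib.OddChar.PF10.NonCoherent

set_option autoImplicit false

namespace Cfsg.Agent.OddChar.Closing

universe u

/-- The output of section 11. -/
structure Section11 (G : Type u) [Group G] [Finite G] : Prop where
  noTypeIV : NoTypeIV G
  facts : TypeThreeFacts G
  cyclic : TypeThreeCyclic G

variable {G : Type u} [Group G] [Finite G]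

/-- Section 11 from the cyclicity input. -/
theorem section11 [Fintype G] (hG : Cfsg.IsMinSimpleOddOrder G) (hcyc : S11.CyclicInput G) : Section11 G :=
  ⟨S11.noTypeIV_of hG (Chain.pairPrimes hG) (P10.notCoherent345 hG) hcyc,
    S11.typeThreeFacts_of hG (Chain.pairPrimes hG) (P10.notCoherent345 hG) hcyc,
    S11.typeThreeCyclic_of hG (Chain.pairPrimes hG) (P10.notCoherent345 hG) hcyc⟩

/-- The hypotheses under which the structure of pairs is proved. -/
structure Section14Input (G : Type u) [Group G] : Prop where
  noTypeV : NoTypeV G
  noTypeIV : NoTypeIV G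
  facts : TypeThreeFacts G
  primes : PairPrimes G
  frobenius : TypeOneFrobenius G
  pairFacts : PairFacts G
  pairNormalizer : PairNormalizer G
  pairCentralizer : PairCentralizerTrivial G

/-- Everything section 14 needs. -/
theorem section14Input (hG : Cfsg.IsMinSimpleOddOrder G) (h : Section11 G) : Section14Input G :=
  ⟨Chain.noTypeV hG, h.noTypeIV, h.facts, Chain.pairPrimes hG, Chain.typeOneFrobenius hG h.noTypeIV h.cyclic,
    Chain.pairFacts hG h.noTypeIV h.facts, Chain.pairNormalizer hG h.noTypeIV h.facts,
    Chain.pairCentralizerTrivial hG h.noTypeIV h.facts⟩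

/-- The odd order theorem from the last two inputs. -/
theorem oddSolvable_of
    (h11 : ∀ (G : Type u) [Group G] [Finite G], Cfsg.IsMinSimpleOddOrder G → Section11 G)
    (h14 : ∀ (G : Type u) [Group G] [Finite G], Cfsg.IsMinSimpleOddOrder G → Section14Input G →
      Assembly.PairStructure G) : OddSolvable.{u} :=
  Assembly.oddSolvable_of_noMinSimpleOdd fun G _ _ hG =>
    Chain.false_of_producers hG (h11 G hG).noTypeIV (h11 G hG).cyclic (h14 G hG (section14Input hG (h11 G hG)))

end Cfsg.Agent.OddChar.Closing
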