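/-
The odd order theorem (Feit-Thompson): the assembly of Peterfalvi sections 10-14.
-/
import Cfsg.Agent.Lib.OddChar.Closing
import Cfsg.Agent.Lib.OddChar.S11.Final
import Cfsg.Agent.Lib.OddChar.P14.Final

set_option autoImplicit false

namespace Cfsg.Agent.OddChar

universe u

/-- Section 11, unconditionally. -/
theorem section11 {G : Type u} [Group G] [Finite G] (hG : Cfsg.IsMinSimpleOddOrder G) : Closing.Section11 G :=
  ⟨S11.noTypeIV hG, S11.typeThreeFacts hG, S11.typeThreeCyclic hG⟩

/-- Section 14, unconditionally. -/
theorem pairStructure {G : Type u} [Group G] [Finite G] (hG : Cfsg.IsMinSimpleOddOrder G) :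
    Assembly.PairStructure G :=
  let c := Closing.section14Input hG (section11 hG)
  P14.pairStructure hG c.noTypeV c.noTypeIV c.facts c.primes c.frobenius c.pairFacts c.pairNormalizer c.pairCentralizer

/-- The odd order theorem. -/
theorem oddSolvable : OddSolvable.{u} :=
  Closing.oddSolvable_of (fun _ _ _ hG => section11 hG) fun _ _ _ hG _ => pairStructure hG

end Cfsg.Agent.OddChar
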