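/-
Peterfalvi section 14 (S1544): a regular cyclic-like action of order `(p ^ q - 1) / (p - 1)` on an
abelian group of order `p ^ q` is multiplication in the field with `p ^ q` elements.
-/
import Cfsg.Agent.S2016
import Mathlib.FieldTheory.Finite.GaloisField

set_option autoImplicit false
set_option linter.style.haveILetI false
set_option linter.unusedSectionVars false

namespace Cfsg.Agent.OddChar

variable {G : Type*} [Group G]

/-- The field model of the action of `A` on `P`, with `⟨v⟩` the prime field. -/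
theorem exists_field_model [Finite G] {p q : ℕ} [Fact p.Prime] [Fact q.Prime]
    (hA : Nat.Coprime ((p ^ q - 1) / (p - 1)) (p - 1)) (A P : Subgroup G)
    (hPcomm : ∀ x ∈ P, ∀ z ∈ P, x * z = z * x) (hPc : Nat.card P = p ^ q)
    (hAcomm : ∀ a ∈ A, ∀ b ∈ A, a * b = b * a) (hAc : Nat.card A * (p - 1) = p ^ q - 1)
    (hnorm : ∀ a ∈ A, ∀ x ∈ P, a * x * a⁻¹ ∈ P)
    (hfpf : ∀ a ∈ A, ∀ x ∈ P, a * x * a⁻¹ = x → x ≠ 1 → a = 1)
    (v : G) (hv : v ∈ P) (hv1 : v ≠ 1) :
    ∃ (F : Type) (_ : Field F) (_ : Fintype F) (f : G → F) (ψ : G → F), Fintype.card F = p ^ q ∧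
      Set.BijOn f (P : Set G) Set.univ ∧ (∀ x ∈ P, ∀ x' ∈ P, f (x * x') = f x + f x') ∧
      (∀ u ∈ A, ψ u ≠ 0 ∧ ∀ x ∈ P, f (u * x * u⁻¹) = ψ u * f x) ∧
      (∀ u ∈ A, ∀ u' ∈ A, ψ (u * u') = ψ u * ψ u') ∧ Set.InjOn ψ (A : Set G) ∧
      (∀ x ∈ P, x ∈ Subgroup.zpowers v ↔ f x ^ p = f x) := by
  classical
  have hp : p.Prime := Fact.out
  letI : CommGroup P :=
    { (inferInstance : Group P) with
      mul_comm := fun x z => Subtype.ext (hPcomm _ x.2 _ z.2) }
  let φ : A →* AddMonoid.End (Additive P) :=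
    { toFun := fun a =>
        { toFun := fun x => Additive.ofMul (⟨(a : G) * (Additive.toMul x : P) * (a : G)⁻¹,
            hnorm _ a.2 _ (Additive.toMul x).2⟩ : P)
          map_zero' := congrArg Additive.ofMul (Subtype.ext (show (a : G) * 1 * (a : G)⁻¹ = 1 by group))
          map_add' := fun x z => congrArg Additive.ofMul (Subtype.ext (by
            show (a : G) * ((Additive.toMul x : P) * (Additive.toMul z : P) : G) * (a : G)⁻¹ =
              (a : G) * (Additive.toMul x : P) * (a : G)⁻¹ *
                ((a : G) * (Additive.toMul z : P) * (a : G)⁻¹)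
            group)) }
      map_one' := AddMonoidHom.ext fun x => congrArg Additive.ofMul (Subtype.ext (by
        show ((1 : A) : G) * (Additive.toMul x : P) * ((1 : A) : G)⁻¹ = (Additive.toMul x : P)
        simp))
      map_mul' := fun a b => AddMonoidHom.ext fun x => congrArg Additive.ofMul (Subtype.ext (by
        show ((a * b : A) : G) * (Additive.toMul x : P) * ((a * b : A) : G)⁻¹ =
          (a : G) * ((b : G) * (Additive.toMul x : P) * (b : G)⁻¹) * (a : G)⁻¹
        simp [mul_assoc])) }
  have hfree : ∀ a w, w ≠ 0 → φ a w = w → a = 1 := fun a w hw h =>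
    Subtype.ext (hfpf _ a.2 _ (Additive.toMul w).2
      (congrArg (fun z : Additive P => ((Additive.toMul z : P) : G)) h)
      fun h1 => hw (Additive.toMul.injective (Subtype.ext h1)))
  have hV : Nat.card (Additive P) = p ^ q := (Nat.card_congr Additive.toMul).trans hPc
  have hcop : Nat.Coprime (Nat.card A) (p - 1) := by
    rwa [← hAc, Nat.mul_div_cancel _ (by have := hp.two_le; omega)] at hA
  let v0 : Additive P := Additive.ofMul ⟨v, hv⟩
  have hv0 : v0 ≠ 0 := fun h => hv1 (congrArg (fun z : Additive P => ((Additive.toMul z : P) : G)) h)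
  let s : Set (AddMonoid.End (Additive P)) := Set.range φ
  have hs : ∀ a ∈ s, ∀ b ∈ s, a * b = b * a := by
    rintro _ ⟨a, rfl⟩ _ ⟨b, rfl⟩
    rw [← map_mul, ← map_mul, show a * b = b * a from Subtype.ext (hAcomm _ a.2 _ b.2)]
  letI : CommRing (Subring.closure s) := Subring.closureCommRingOfComm hs
  haveI : Finite (AddMonoid.End (Additive P)) := Finite.of_injective _ DFunLike.coe_injective
  have hker : ∀ (t : Subring.closure s) (w : Additive P), w ≠ 0 →
      (t : AddMonoid.End (Additive P)) w = 0 → t = 0 := by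
    intro t w hw htw
    have htop : AddMonoidHom.ker (t : AddMonoid.End (Additive P)) = ⊤ :=
      S2016.invariant_eq_top φ hfree hV hAc hcop _ (fun a z hz => by
        have hc := mul_comm t ⟨φ a, Subring.subset_closure ⟨a, rfl⟩⟩
        show ((t : AddMonoid.End (Additive P)) * φ a) z = 0
        rw [show (t : AddMonoid.End (Additive P)) * φ a = φ a * (t : AddMonoid.End (Additive P))
          from congrArg Subtype.val hc]
        show φ a ((t : AddMonoid.End (Additive P)) z) = 0
        rw [show (t : AddMonoid.End (Additive P)) z = 0 from hz, map_zero]) htw hw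
    refine Subtype.ext (AddMonoidHom.ext fun z => ?_)
    exact (htop ▸ AddSubgroup.mem_top z : z ∈ AddMonoidHom.ker (t : AddMonoid.End (Additive P)))
  let ev : Subring.closure s →+ Additive P :=
    { toFun := fun t => (t : AddMonoid.End (Additive P)) v0
      map_zero' := rfl
      map_add' := fun _ _ => rfl }
  have hevinj : Function.Injective ev := fun t u h => by
    refine sub_eq_zero.1 (hker _ v0 hv0 ?_)
    show ev (t - u) = 0
    rw [map_sub, h, sub_self]
  have hevsurj : Function.Surjective ev := by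
    have htop : ev.range = ⊤ := S2016.invariant_eq_top φ hfree hV hAc hcop _ (fun a z hz => by
      obtain ⟨t, rfl⟩ := hz
      exact ⟨⟨φ a, Subring.subset_closure ⟨a, rfl⟩⟩ * t, rfl⟩) (v := v0) ⟨1, rfl⟩ hv0
    exact AddMonoidHom.range_eq_top.1 htop
  haveI : Nontrivial (Subring.closure s) :=
    ⟨⟨1, 0, fun h => hv0 (congrArg ev h)⟩⟩
  haveI : NoZeroDivisors (Subring.closure s) := ⟨fun {t u} htu => by
    by_cases hu : u = 0
    · exact Or.inr hu
    left
    refine hker t (ev u) (fun h => hu (hevinj (h.trans (map_zero ev).symm))) ?_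
    show ev (t * u) = 0
    rw [htu, map_zero]⟩
  haveI : IsDomain (Subring.closure s) := NoZeroDivisors.to_isDomain _
  letI : Field (Subring.closure s) := (Finite.isField_of_domain (Subring.closure s)).toField
  letI := Fintype.ofFinite (Subring.closure s)
  let e : Subring.closure s ≃+ Additive P := AddEquiv.ofBijective ev ⟨hevinj, hevsurj⟩
  have hF : Fintype.card (Subring.closure s) = p ^ q := by
    rw [← Nat.card_eq_fintype_card, Nat.card_congr e.toEquiv, hV]
  haveI : CharP (Subring.closure s) p := charP_of_card_eq_prime_pow hF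
  let f : G → Subring.closure s := fun g =>
    if h : g ∈ P then e.symm (Additive.ofMul ⟨g, h⟩) else 0
  have hef : ∀ g (h : g ∈ P), ev (f g) = Additive.ofMul ⟨g, h⟩ := fun g h => by
    show e (f g) = _
    simp only [f, dif_pos h, AddEquiv.apply_symm_apply]
  let ψ : G → Subring.closure s := fun u =>
    if h : u ∈ A then ⟨φ ⟨u, h⟩, Subring.subset_closure ⟨⟨u, h⟩, rfl⟩⟩ else 0
  have hψ : ∀ u (h : u ∈ A), (ψ u : AddMonoid.End (Additive P)) = φ ⟨u, h⟩ := fun u h => by
    simp only [ψ, dif_pos h]
  have happ : ∀ u (hu : u ∈ A) x (hx : x ∈ P), f (u * x * u⁻¹) = ψ u * f x := fun u hu x hx => by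
    apply hevinj
    rw [hef _ (hnorm u hu x hx)]
    show _ = (ψ u : AddMonoid.End (Additive P)) (ev (f x))
    rw [hef x hx, hψ u hu]
    rfl
  have hfadd : ∀ x ∈ P, ∀ z ∈ P, f (x * z) = f x + f z := by
    intro x hx z hz
    apply hevinj
    rw [map_add, hef _ (P.mul_mem hx hz), hef x hx, hef z hz]
    rfl
  have hψmul : ∀ a ∈ A, ∀ b ∈ A, ψ (a * b) = ψ a * ψ b := by
    intro a ha b hb
    apply Subtype.ext
    rw [Subring.coe_mul, hψ a ha, hψ b hb, hψ _ (A.mul_mem ha hb)]
    exact map_mul φ ⟨a, ha⟩ ⟨b, hb⟩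
  have hψinj : Set.InjOn ψ (A : Set G) := by
    intro a ha b hb h
    have ha' : a ∈ A := ha
    have hb' : b ∈ A := hb
    have h' : φ ⟨a, ha'⟩ = φ ⟨b, hb'⟩ := by rw [← hψ a ha', ← hψ b hb', h]
    have h1 : φ ((⟨b, hb'⟩ : A)⁻¹ * ⟨a, ha'⟩) v0 = v0 := by
      rw [map_mul]
      show φ (⟨b, hb'⟩ : A)⁻¹ (φ ⟨a, ha'⟩ v0) = v0
      rw [h']
      show (φ (⟨b, hb'⟩ : A)⁻¹ * φ ⟨b, hb'⟩) v0 = v0
      rw [← map_mul, inv_mul_cancel, map_one]; rfl
    have h2 := hfree _ _ hv0 h1
    exact (congrArg Subtype.val (inv_mul_eq_one.1 h2)).symm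
  have hψne : ∀ u ∈ A, ψ u ≠ 0 := by
    intro u hu h
    refine hv0 ?_
    have h' := congrArg ev (happ u hu v hv)
    rw [h, zero_mul, map_zero, hef _ (hnorm u hu v hv)] at h'
    refine Additive.toMul.injective (Subtype.ext ?_)
    show v = 1
    have h'' : u * v * u⁻¹ = 1 := congrArg (fun z : Additive P => ((Additive.toMul z : P) : G)) h'
    have := congrArg (fun g => u⁻¹ * g * u) h''
    simpa [mul_assoc] using this
  have hfbij : Set.BijOn f (P : Set G) Set.univ := by
    refine ⟨fun _ _ => Set.mem_univ _, fun x hx z hz h => ?_, fun r _ => ?_⟩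
    · have h' := congrArg ev h
      rw [hef x hx, hef z hz] at h'
      exact congrArg Subtype.val (Additive.ofMul.injective h')
    · refine ⟨((Additive.toMul (e r) : P) : G), (Additive.toMul (e r)).2, hevinj ?_⟩
      rw [hef _ (Additive.toMul (e r)).2]
      rfl
  have hline : ∀ x ∈ P, x ∈ Subgroup.zpowers v ↔ f x ^ p = f x := by
    intro x hx
    constructor
    · intro hxv
      obtain ⟨n, rfl⟩ := Subgroup.mem_zpowers_iff.1 hxv
      have hfn : f (v ^ n) = (n : Subring.closure s) := by
        apply hevinj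
        rw [hef _ hx, ← zsmul_one, map_zsmul]
        exact congrArg Additive.ofMul (Subtype.ext rfl : (⟨v ^ n, hx⟩ : P) = ⟨v, hv⟩ ^ n)
      rw [hfn]
      exact map_intCast (frobenius (Subring.closure s) p) n
    · intro hfx
      obtain ⟨n, hn⟩ := Cfsg.Agent.OddOrder.AppC.eq_intCast_of_pow_eq hfx
      refine Subgroup.mem_zpowers_iff.2 ⟨n, ?_⟩
      have h : Additive.ofMul (⟨x, hx⟩ : P) = n • v0 := by
        rw [← hef x hx, hn, ← zsmul_one, map_zsmul]
        rfl
      exact (congrArg (fun z : Additive P => ((Additive.toMul z : P) : G)) h).symm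
  letI : Fintype (GaloisField p q) := Fintype.ofFinite _
  have hcard : Fintype.card (GaloisField p q) = p ^ q := by
    rw [← Nat.card_eq_fintype_card]
    exact GaloisField.card p q (Fact.out : q.Prime).ne_zero
  let σ : Subring.closure s ≃+* GaloisField p q := FiniteField.ringEquivOfCardEq (hF.trans hcard.symm)
  refine ⟨GaloisField p q, inferInstance, inferInstance, fun g => σ (f g), fun g => σ (ψ g), hcard,
    (σ.bijective.bijOn_univ).comp hfbij, fun x hx z hz => by simp only [hfadd x hx z hz, map_add],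
    fun u hu => ⟨(map_ne_zero_iff σ σ.injective).2 (hψne u hu), fun x hx => by
      simp only [happ u hu x hx, map_mul]⟩,
    fun a ha b hb => by simp only [hψmul a ha b hb, map_mul],
    fun a ha b hb h => hψinj ha hb (σ.injective h), fun x hx => ?_⟩
  rw [hline x hx, ← map_pow]
  exact σ.injective.eq_iff.symm

end Cfsg.Agent.OddChar
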